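import Cfsg.Agent.Lib.BlocksDefect.Kernel
import Cfsg.Agent.Lib.CharCore.Complete

/-!
# Blocks and normal subgroups

Central characters of constituents (Clifford), covering of blocks, and the separating functions
supported on a normal subgroup.
-/

namespace Cfsg.Agent.BlocksDefect

open BlocksCore

open scoped ComplexConjugate

variable {G : Type*} [Group G] [Finite G] {p : ℕ} {M : Ideal AlgInt} {N : Subgroup G}

/-- The multiplicity of `θ` in the restriction of `χ`. -/
def IsConstituent (χ : IrrCharacter G) (θ : IrrCharacter N) [Fintype N] : Prop :=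
  classInner (fun n : N => (χ : G → ℂ) n) (θ : N → ℂ) ≠ 0

theorem exists_constituent_irr [Fintype N] (χ : IrrCharacter G) :
    ∃ θ : IrrCharacter N, IsConstituent χ θ := by
  have := Fintype.ofFinite G
  by_contra hno
  have hchar : IsCharacter N (fun n : N => (χ : G → ℂ) n) :=
    CharCore.isCharacter_restrict (CharCore.irr_isCharacter χ) N
  have h := congrFun (CharCore.IsCharacter.eq_sum_classInner hchar) 1
  simp only [IsConstituent, not_exists, not_not] at hno
  refine irr_one_ne_zero χ ?_
  simpa [hno] using h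

theorem omega_of_supported [Fintype N] (χ : IrrCharacter G) {a : G → ℂ}
    (hs : ∀ x, x ∉ N → a x = 0) :
    omega (χ : G → ℂ) a * (χ : G → ℂ) 1 =
      ∑ θ : IrrCharacter N, classInner (fun n : N => (χ : G → ℂ) n) (θ : N → ℂ) *
        (θ : N → ℂ) 1 * omega (θ : N → ℂ) (res N a) := by
  classical
  have := Fintype.ofFinite G
  have hchar : IsCharacter N (fun n : N => (χ : G → ℂ) n) :=
    CharCore.isCharacter_restrict (CharCore.irr_isCharacter χ) N
  rw [omega_eq_sum, div_mul_cancel₀ _ (irr_one_ne_zero χ),
    ← Finset.sum_subset (Finset.subset_univ ((N : Set G).toFinset)) (fun x _ hx => by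
      rw [hs x (by simpa using hx), zero_mul]),
    Finset.sum_subtype (p := fun x => x ∈ N) (F := inferInstance) _ (fun x => by simp) _]
  have h : ∀ n : N, (χ : G → ℂ) n =
      ∑ θ : IrrCharacter N, classInner (fun n : N => (χ : G → ℂ) n) (θ : N → ℂ) *
        (θ : N → ℂ) n := fun n => by
    simpa using congrFun (CharCore.IsCharacter.eq_sum_classInner hchar) n
  refine Eq.trans (Finset.sum_congr rfl fun n _ => by rw [h n, Finset.mul_sum]) ?_
  rw [Finset.sum_comm]
  refine Finset.sum_congr rfl fun θ _ => ?_
  rw [mul_assoc, omega_eq_sum, mul_div_cancel₀ _ (irr_one_ne_zero θ), Finset.mul_sum]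
  exact Finset.sum_congr rfl fun n _ => by simp only [res]; ring

/-- The adjoint of a function. -/
noncomputable def starFun (a : G → ℂ) : G → ℂ := fun x => conj (a x⁻¹)

omit [Finite G] in
theorem isClassFunction_starFun {a : G → ℂ} (ha : IsClassFunction G a) :
    IsClassFunction G (starFun a) := fun g h => by
  simp only [starFun, show (h * g * h⁻¹)⁻¹ = h * g⁻¹ * h⁻¹ by group, ha g⁻¹ h]

theorem omega_starFun {a : G → ℂ} (χ : IrrCharacter G) :
    omega (χ : G → ℂ) (starFun a) = conj (omega (χ : G → ℂ) a) := by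
  have := Fintype.ofFinite G
  rw [omega_eq_sum, omega_eq_sum, map_div₀, map_sum, conj_irr, inv_one]
  congr 1
  refine Fintype.sum_equiv (Equiv.inv G) _ _ fun x => ?_
  simp [starFun, conj_irr]

theorem res_conv {a b : G → ℂ} (hs : ∀ x, x ∉ N → a x = 0) :
    res N (conv a b) = conv (res N a) (res N b) := by
  classical
  have := Fintype.ofFinite G
  have := Fintype.ofFinite N
  funext n
  rw [res, conv_apply, conv_apply,
    ← Finset.sum_subset (Finset.subset_univ ((N : Set G).toFinset)) (fun x _ hx => by
      rw [hs x (by simpa using hx), zero_mul]),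
    Finset.sum_subtype (p := fun x => x ∈ N) (F := inferInstance) _ (fun x => by simp) _]
  exact Finset.sum_congr rfl fun m _ => by simp [res]

theorem conv_supported {a b : G → ℂ} (ha : ∀ x, x ∉ N → a x = 0) (hb : ∀ x, x ∉ N → b x = 0)
    (x : G) (hx : x ∉ N) : conv a b x = 0 := by
  have := Fintype.ofFinite G
  rw [conv_apply]
  refine Finset.sum_eq_zero fun y _ => ?_
  by_cases hy : y ∈ N
  · rw [hb (y⁻¹ * x) (fun h => hx (by simpa using N.mul_mem hy h)), mul_zero]
  · rw [ha y hy, zero_mul]

/-- Clifford: on class functions supported by `N`, the central character of `χ` is that of any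
of its constituents. -/
theorem omega_eq_of_constituent [Fintype N] [N.Normal] {χ : IrrCharacter G}
    {θ : IrrCharacter N} (hθ : IsConstituent χ θ) {a : G → ℂ} (ha : IsClassFunction G a)
    (hs : ∀ x, x ∉ N → a x = 0) :
    omega (χ : G → ℂ) a = omega (θ : N → ℂ) (res N a) := by
  classical
  have := Fintype.ofFinite G
  set v := omega (χ : G → ℂ) a with hv
  set b : G → ℂ := a + (-v) • classInd 1 with hb
  have hbc : IsClassFunction G b := fun g h => by
    simp only [hb, Pi.add_apply, Pi.smul_apply, ha g h, isClassFunction_classInd (1 : G) g h]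
  have h1N : ∀ x, x ∉ N → classInd (1 : G) x = 0 := fun x hx =>
    classInd_apply_of_not_isConj fun hc => hx (isConj_one_right.mp hc ▸ N.one_mem)
  have hbs : ∀ x, x ∉ N → b x = 0 := fun x hx => by
    simp [hb, hs x hx, h1N x hx]
  have hstar : ∀ x, x ∉ N → starFun b x = 0 := fun x hx => by
    simp [starFun, hbs x⁻¹ (fun h => hx (by simpa using N.inv_mem h))]
  have hresone : res N (classInd (1 : G)) = classInd (1 : N) := by
    funext n
    by_cases hn : n = 1
    · subst hn
      rw [res, OneMemClass.coe_one, classInd_apply_of_isConj (IsConj.refl (1 : G)),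
        classInd_apply_of_isConj (IsConj.refl (1 : N))]
    · rw [res, classInd_apply_of_not_isConj, classInd_apply_of_not_isConj] <;>
        · intro hc
          first
            | exact hn (Subtype.ext (isConj_one_right.mp hc))
            | exact hn (isConj_one_right.mp hc)
  have hθb : omega (θ : N → ℂ) (res N b) = omega (θ : N → ℂ) (res N a) - v := by
    have e : res N b = res N a + (-v) • res N (classInd (1 : G)) := rfl
    rw [e, hresone, omega_add, omega_smul, omega_classInd_one]
    ring
  have hχb : omega (χ : G → ℂ) b = 0 := by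
    rw [hb, omega_add, omega_smul, omega_classInd_one, mul_one, ← hv, add_neg_cancel]
  have hzero : omega (χ : G → ℂ) (conv (starFun b) b) = 0 := by
    rw [omega_conv χ (isClassFunction_starFun hbc) hbc, hχb, mul_zero]
  have hsum := omega_of_supported χ (conv_supported hstar hbs)
  have hchar : IsCharacter N (fun n : N => (χ : G → ℂ) n) :=
    CharCore.isCharacter_restrict (CharCore.irr_isCharacter χ) N
  choose m hm using fun φ : IrrCharacter N =>
    CharCore.IsCharacter.exists_classInner_irr_eq_natCast hchar φ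
  have hterm : ∀ φ : IrrCharacter N, classInner (fun n : N => (χ : G → ℂ) n) (φ : N → ℂ) *
      (φ : N → ℂ) 1 * omega (φ : N → ℂ) (res N (conv (starFun b) b)) =
      (((m φ * charDegree (φ : N → ℂ) : ℕ) : ℝ) * Complex.normSq (omega (φ : N → ℂ) (res N b)) :
        ℝ) := by
    intro φ
    have hres : res N (starFun b) = starFun (res N b) := by
      funext n
      simp [res, starFun]
    rw [res_conv hstar, omega_conv φ (isClassFunction_res N (isClassFunction_starFun hbc))
      (isClassFunction_res N hbc), hres, omega_starFun, hm, irr_one_eq, Complex.ofReal_mul,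
      Complex.normSq_eq_conj_mul_self]
    simp
  rw [hzero, zero_mul, Finset.sum_congr rfl (fun φ _ => hterm φ), ← Complex.ofReal_sum] at hsum
  have h0 := (Finset.sum_eq_zero_iff_of_nonneg (fun φ _ =>
    mul_nonneg (Nat.cast_nonneg _) (Complex.normSq_nonneg _))).mp
    (Complex.ofReal_eq_zero.mp hsum.symm) θ (Finset.mem_univ _)
  rcases mul_eq_zero.mp h0 with h | h
  · refine absurd ?_ hθ
    rcases mul_eq_zero.mp (Nat.cast_eq_zero.mp h) with hm0 | hd
    · rw [hm, hm0, Nat.cast_zero]
    · exact absurd hd (charDegree_pos θ).ne'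
  · rw [Complex.normSq_eq_zero, hθb, sub_eq_zero] at h
    exact h.symm

variable [hN : N.Normal]

/-- A function on `N` moved by conjugation with `g`. -/
def conjFun (g : G) (f : N → ℂ) : N → ℂ := fun n => f ⟨g * n * g⁻¹, hN.conj_mem n n.2 g⟩

/-- The conjugate of an irreducible character of `N`. -/
def conjIrr (g : G) (θ : IrrCharacter N) : IrrCharacter N :=
  ⟨conjFun g (θ : N → ℂ),
    CharCore.isIrrCharacter_comp_surjective θ.2 (MulAut.conjNormal g : N ≃* N).toMonoidHom
      (MulAut.conjNormal g : N ≃* N).surjective⟩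

omit [Finite G] in
theorem conjFun_conjFun (g h : G) (f : N → ℂ) :
    conjFun g (conjFun h f) = conjFun (h * g) f := by
  funext n
  simp only [conjFun]
  congr 1
  exact Subtype.ext (by group)

omit [Finite G] in
theorem conjFun_one (f : N → ℂ) : conjFun (1 : G) f = f := by
  funext n
  simp [conjFun]

theorem coe_conjIrr (g : G) (θ : IrrCharacter N) :
    (conjIrr g θ : N → ℂ) = conjFun g (θ : N → ℂ) := rfl

theorem conjIrr_conjIrr (g h : G) (θ : IrrCharacter N) :
    conjIrr g (conjIrr h θ) = conjIrr (h * g) θ :=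
  Subtype.ext (by simp only [coe_conjIrr, conjFun_conjFun])

theorem conjIrr_inv_self (g : G) (θ : IrrCharacter N) : conjIrr g⁻¹ (conjIrr g θ) = θ :=
  Subtype.ext (by simp only [coe_conjIrr, conjFun_conjFun, mul_inv_cancel, conjFun_one])

theorem classInner_conjIrr [Fintype N] (χ : IrrCharacter G) (g : G) (θ : IrrCharacter N) :
    classInner (fun n : N => (χ : G → ℂ) n) (conjIrr g θ : N → ℂ) =
      classInner (fun n : N => (χ : G → ℂ) n) (θ : N → ℂ) := by
  have := Fintype.ofFinite G
  rw [CharCore.classInner_def, CharCore.classInner_def]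
  congr 1
  refine Fintype.sum_equiv (MulAut.conjNormal g : N ≃* N).toEquiv _ _ fun n => ?_
  simp only [MulEquiv.toEquiv_eq_coe, EquivLike.coe_coe, MulAut.conjNormal_apply, conjIrr, conjFun,
    irr_class χ (n : G) g]
  rfl

theorem isConstituent_conjIrr [Fintype N] {χ : IrrCharacter G} {θ : IrrCharacter N}
    (h : IsConstituent χ θ) (g : G) : IsConstituent χ (conjIrr g θ) := by
  rwa [IsConstituent, classInner_conjIrr]

theorem omega_conjFun (g : G) (θ : IrrCharacter N) (f : N → ℂ) :
    omega (θ : N → ℂ) (conjFun g f) = omega (conjIrr g⁻¹ θ : N → ℂ) f := by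
  have := Fintype.ofFinite G
  have := Fintype.ofFinite N
  rw [omega_eq_sum, omega_eq_sum]
  congr 1
  · refine Fintype.sum_equiv (MulAut.conjNormal g : N ≃* N).toEquiv _ _ fun n => ?_
    simp only [MulEquiv.toEquiv_eq_coe, EquivLike.coe_coe, conjIrr, conjFun]
    congr 2
    exact congrArg _ (Subtype.ext (by simp [MulAut.conjNormal_apply, mul_assoc]))
  · simp only [coe_conjIrr, conjFun]
    exact congrArg _ (Subtype.ext (by simp))

/-- Extension by zero from `N`. -/
noncomputable def extFun (f : N → ℂ) : G → ℂ := Function.extend Subtype.val f 0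

omit [Finite G] [hN : N.Normal] in
theorem extFun_coe (f : N → ℂ) (n : N) : extFun f n = f n :=
  Subtype.val_injective.extend_apply _ _ _

omit [Finite G] [hN : N.Normal] in
theorem extFun_notMem (f : N → ℂ) {x : G} (hx : x ∉ N) : extFun f x = 0 :=
  Function.extend_apply' _ _ _ (by rintro ⟨n, rfl⟩; exact hx n.2)

omit [Finite G] [hN : N.Normal] in
theorem res_extFun (f : N → ℂ) : res N (extFun f) = f := funext fun n => extFun_coe f n

omit [Finite G] in
theorem isClassFunction_extFun {f : N → ℂ} (hf : ∀ g, conjFun g f = f) :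
    IsClassFunction G (extFun f) := by
  intro x g
  by_cases hx : x ∈ N
  · exact (extFun_coe f ⟨g * x * g⁻¹, hN.conj_mem x hx g⟩).trans
      ((congrFun (hf g) ⟨x, hx⟩).trans (extFun_coe f ⟨x, hx⟩).symm)
  · rw [extFun_notMem f hx, extFun_notMem]
    exact fun h => hx (by simpa [mul_assoc] using hN.conj_mem _ h g⁻¹)

/-- The `G`-orbit of a set of characters of `N`. -/
def orbitSet (b : Set (IrrCharacter N)) : Set (IrrCharacter N) :=
  {θ | ∃ g : G, conjIrr g θ ∈ b}

theorem conjFun_blockCoeff_orbitSet (b : Set (IrrCharacter N)) (g : G) :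
    conjFun g (blockCoeff (orbitSet b)) = blockCoeff (orbitSet b) := by
  have := Fintype.ofFinite G
  have := Fintype.ofFinite N
  refine eq_of_omega_eq ?_ (isClassFunction_blockCoeff _) fun θ => ?_
  · intro x y
    simp only [conjFun]
    rw [← isClassFunction_blockCoeff (orbitSet b) ⟨g * x * g⁻¹, hN.conj_mem x x.2 g⟩
      ⟨g * y * g⁻¹, hN.conj_mem y y.2 g⟩]
    congr 1
    exact Subtype.ext (by simp [mul_assoc])
  rw [omega_conjFun, omega_blockCoeff, omega_blockCoeff]
  refine Set.indicator_eq_indicator ?_ rfl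
  constructor
  · rintro ⟨h, hh⟩
    rw [conjIrr_conjIrr] at hh
    exact ⟨g⁻¹ * h, hh⟩
  · rintro ⟨h, hh⟩
    refine ⟨g * h, ?_⟩
    rw [conjIrr_conjIrr, ← mul_assoc, inv_mul_cancel, one_mul]
    exact hh

theorem omega_extFun_orbitSet [Fintype N] {χ : IrrCharacter G} {θ : IrrCharacter N}
    (h : IsConstituent χ θ) (b : Set (IrrCharacter N)) :
    omega (χ : G → ℂ) (extFun (blockCoeff (orbitSet b))) = (orbitSet b).indicator 1 θ := by
  rw [omega_eq_of_constituent h (isClassFunction_extFun (conjFun_blockCoeff_orbitSet b))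
    (fun x hx => extFun_notMem _ hx), res_extFun, omega_blockCoeff]

/-- For a block `b` of `N`, the sum of the idempotents of its conjugates is integral. -/
theorem isIntClassFun_extFun_orbitSet (hM : IsPModular p M) {b : Set (IrrCharacter N)}
    (hb : IsPBlock M b) : IsIntClassFun M (extFun (blockCoeff (orbitSet b))) := by
  classical
  have := isPrime hM
  have := Fintype.ofFinite G
  have := Fintype.ofFinite N
  have hf := isIntClassFun_blockCoeff hM hb
  have hv : ∀ g : G, (fun θ : IrrCharacter N => b.indicator (1 : IrrCharacter N → ℂ)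
      (conjIrr g θ)) ∈ omegaRing M := by
    intro g
    have hc : IsIntClassFun M (conjFun g⁻¹ (blockCoeff b)) := ⟨fun x y => by
      simp only [conjFun]
      rw [← hf.1 ⟨g⁻¹ * x * g⁻¹⁻¹, hN.conj_mem x x.2 g⁻¹⟩ ⟨g⁻¹ * y * g⁻¹⁻¹, hN.conj_mem y y.2 g⁻¹⟩]
      congr 1
      exact Subtype.ext (by simp [mul_assoc]), fun x => hf.2 _⟩
    have hmem := omega_mem_omegaRing hc
    convert hmem using 1
    funext θ
    rw [omega_conjFun, inv_inv, omega_blockCoeff]
  have hprod : (1 - ∏ g : G, (1 - fun θ : IrrCharacter N =>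
      b.indicator (1 : IrrCharacter N → ℂ) (conjIrr g θ))) ∈ omegaRing M :=
    sub_mem (one_mem _) (prod_mem fun g _ => sub_mem (one_mem _) (hv g))
  obtain ⟨c, hc, hcv⟩ := hprod
  have he : c = blockCoeff (orbitSet b) := by
    refine eq_of_omega_eq hc.1 (isClassFunction_blockCoeff _) fun θ => ?_
    rw [omega_blockCoeff, hcv θ]
    simp only [Pi.sub_apply, Pi.one_apply, Finset.prod_apply]
    by_cases hθ : θ ∈ orbitSet b
    · rw [Set.indicator_of_mem hθ, Pi.one_apply]
      obtain ⟨g, hg⟩ := hθ
      rw [Finset.prod_eq_zero (Finset.mem_univ g) (by rw [Set.indicator_of_mem hg]; simp), sub_zero]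
    · rw [Set.indicator_of_notMem hθ, Finset.prod_eq_one fun g _ => by
        rw [Set.indicator_of_notMem fun hg => hθ ⟨g, hg⟩, sub_zero], sub_self]
  refine ⟨isClassFunction_extFun (conjFun_blockCoeff_orbitSet b), fun x => ?_⟩
  by_cases hx : x ∈ N
  · rw [show x = ((⟨x, hx⟩ : N) : G) from rfl, extFun_coe, ← he]
    exact hc.2 _
  · rw [extFun_notMem _ hx]
    exact memLocalRing_of_mem (zero_mem _)

/-- The indicator of the orbit is constant on the constituents of the members of a block. -/
theorem orbitSet_iff_of_sameBlock (hM : IsPModular p M) [Fintype N] {b : Set (IrrCharacter N)}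
    (hb : IsPBlock M b) {χ χ' : IrrCharacter G} (h : SameBlock M (χ : G → ℂ) (χ' : G → ℂ))
    {θ θ' : IrrCharacter N} (hθ : IsConstituent χ θ) (hθ' : IsConstituent χ' θ') :
    θ ∈ orbitSet b ↔ θ' ∈ orbitSet b := by
  classical
  have := isPrime hM
  have := Fintype.ofFinite G
  have hc := omega_sub_memLocalIdeal h (isIntClassFun_extFun_orbitSet hM hb)
  rw [omega_extFun_orbitSet hθ, omega_extFun_orbitSet hθ'] at hc
  by_cases h1 : θ ∈ orbitSet b <;> by_cases h2 : θ' ∈ orbitSet b
  · exact iff_of_true h1 h2
  · rw [Set.indicator_of_mem h1, Set.indicator_of_notMem h2, Pi.one_apply, sub_zero] at hc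
    exact absurd hc not_memLocalIdeal_one
  · rw [Set.indicator_of_notMem h1, Set.indicator_of_mem h2, Pi.one_apply, zero_sub] at hc
    exact absurd (by simpa using memLocalIdeal_neg hc) (not_memLocalIdeal_one (M := M))
  · exact iff_of_false h1 h2

omit hN in
/-- Every irreducible character of `N` is a constituent of some restriction. -/
theorem exists_over [Fintype N] (θ : IrrCharacter N) :
    ∃ χ : IrrCharacter G, IsConstituent χ θ := by
  classical
  have := Fintype.ofFinite G
  have := Fintype.ofFinite (IrrCharacter G)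
  by_contra hno
  simp only [IsConstituent, not_exists, not_not] at hno
  have h : ∑ χ : IrrCharacter G, (χ : G → ℂ) 1 *
      ∑ n : N, (χ : G → ℂ) (n : G) * (θ : N → ℂ) n⁻¹ = 0 := by
    refine Finset.sum_eq_zero fun χ _ => ?_
    have := hno χ
    rw [CharCore.classInner_eq_inv _ (CharCore.irr_isCharacter θ), mul_eq_zero] at this
    rw [this.resolve_left (inv_ne_zero (Nat.cast_ne_zero.mpr Nat.card_pos.ne')), mul_zero]
  simp only [Finset.mul_sum] at h
  rw [Finset.sum_comm] at h
  have key : ∀ n : N, ∑ χ : IrrCharacter G, (χ : G → ℂ) 1 *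
      ((χ : G → ℂ) (n : G) * (θ : N → ℂ) n⁻¹) =
      (if IsConj (n : G) 1 then (Nat.card (Subgroup.centralizer ({(n : G)} : Set G)) : ℂ) else 0)
        * (θ : N → ℂ) n⁻¹ := by
    intro n
    rw [← sum_irr_mul_inv (n : G) 1, Finset.sum_mul]
    refine Finset.sum_congr rfl fun χ _ => ?_
    rw [inv_one]; ring
  simp only [key] at h
  rw [Fintype.sum_eq_single (1 : N)] at h
  · simp [irr_one_ne_zero θ] at h
  · intro n hn
    rw [if_neg (fun hc => hn (by simpa [isConj_one_left] using hc)), zero_mul]

end Cfsg.Agent.BlocksDefect
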