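import Cfsg.Agent.Lib.BlocksDefect.Pairing

/-!
# Induced blocks: Blau's lemma and its consequences

If `b` induces `B`, the regular pairing of `B` with a character is congruent to the pairing of
`b` with its restriction.  This gives Blau's theorem at once, and Brauer's third main theorem.
-/

namespace Cfsg.Agent.BlocksDefect

open BlocksCore

variable {G : Type*} [Group G] [Finite G] {p : ℕ} {M : Ideal AlgInt}

/-- The restriction of a function to a subgroup. -/
def res (H : Subgroup G) (a : G → ℂ) : H → ℂ := fun h => a h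

omit [Finite G] in
theorem isClassFunction_res (H : Subgroup G) {a : G → ℂ} (ha : IsClassFunction G a) :
    IsClassFunction H (res H a) :=
  fun g h => ha (g : G) (h : G)

omit [Finite G] in
theorem isIntClassFun_res (H : Subgroup G) {a : G → ℂ} (ha : IsIntClassFun M a) :
    IsIntClassFun M (res H a) :=
  ⟨isClassFunction_res H ha.1, fun h => ha.2 h⟩

theorem omega_res_classInd (H : Subgroup G) (ξ : H → ℂ) (g : G) :
    omega ξ (res H (classInd g)) = inducedCentralChar H ξ g := by
  classical
  have := Fintype.ofFinite H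
  rw [inducedCentralChar, finsum_mem_def, finsum_eq_sum_of_fintype, omega_eq_sum, Finset.sum_div]
  refine Finset.sum_congr rfl fun h _ => ?_
  by_cases hh : IsConj g (h : G)
  · rw [res, classInd_apply_of_isConj hh, one_mul, Set.indicator_of_mem (by exact hh)]
  · rw [res, classInd_apply_of_not_isConj hh, zero_mul, zero_div,
      Set.indicator_of_notMem (by exact hh)]

omit [Finite G] in
theorem eq_sum_classes [Fintype (ConjClasses G)] {a : G → ℂ} (ha : IsClassFunction G a) :
    a = ∑ C : ConjClasses G, a (Quotient.out C) • classInd (Quotient.out C) := by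
  classical
  funext x
  rw [Finset.sum_apply, Fintype.sum_eq_single (ConjClasses.mk x)]
  · have hc : IsConj (Quotient.out (ConjClasses.mk x)) x :=
      ConjClasses.mk_eq_mk_iff_isConj.mp (Quotient.out_eq _)
    rw [Pi.smul_apply, classInd_apply_of_isConj hc, smul_eq_mul, mul_one,
      classFun_eq_of_isConj ha hc]
  · intro C hC
    rw [Pi.smul_apply, classInd_apply_of_not_isConj, smul_zero]
    exact fun hc => hC ((Quotient.out_eq C).symm.trans (ConjClasses.mk_eq_mk_iff_isConj.mpr hc))

variable {H : Subgroup G} {b : Set (IrrCharacter H)} {B : Set (IrrCharacter G)}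

omit [Finite G] in
theorem isPBlock_of_induced (h : IsInducedBlock M H b B) : IsPBlock M b ∧ IsPBlock M B :=
  ⟨h.1, h.2.1⟩

/-- The defining congruence of induced blocks on all integral class functions. -/
theorem omega_induced (hM : IsPModular p M) (hind : IsInducedBlock M H b B) {ξ : IrrCharacter H}
    (hξ : ξ ∈ b) {χ : IrrCharacter G} (hχ : χ ∈ B) {a : G → ℂ} (ha : IsIntClassFun M a) :
    MemLocalIdeal M (omega (ξ : H → ℂ) (res H a) - omega (χ : G → ℂ) a) := by
  classical
  have := isPrime hM
  have : Finite (ConjClasses G) := Finite.of_surjective _ ConjClasses.mk_surjective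
  have := Fintype.ofFinite (ConjClasses G)
  have := Fintype.ofFinite G
  have := Fintype.ofFinite H
  have e1 : res H a =
      ∑ C : ConjClasses G, a (Quotient.out C) • res H (classInd (Quotient.out C)) := by
    funext h
    simp only [res, Finset.sum_apply, Pi.smul_apply]
    conv_lhs => rw [eq_sum_classes ha.1]
    simp only [Finset.sum_apply, Pi.smul_apply]
  have e2 := eq_sum_classes ha.1
  rw [e1, show omega (χ : G → ℂ) a = omega (χ : G → ℂ)
      (∑ C : ConjClasses G, a (Quotient.out C) • classInd (Quotient.out C)) by rw [← e2],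
    omega_sum, omega_sum, ← Finset.sum_sub_distrib]
  refine memLocalIdeal_sum fun C _ => ?_
  rw [omega_smul, omega_smul, ← mul_sub, omega_res_classInd, omega_classInd (irr_class χ)]
  exact memLocalIdeal_mul_left (ha.2 _) (hind.2.2 ξ hξ χ hχ _)

theorem regPair_res_eq_sum [Fintype H] (ξ : IrrCharacter H)
    (χ : IrrCharacter G) :
    omega (ξ : H → ℂ) (res H (regInv p (χ : G → ℂ))) =
      ∑ θ : IrrCharacter H,
        classInner (fun h : H => (χ : G → ℂ) h) θ * regPair p (ξ : H → ℂ) θ := by
  classical
  have hchar : IsCharacter H (fun h : H => (χ : G → ℂ) h) :=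
    CharCore.isCharacter_restrict (CharCore.irr_isCharacter χ) H
  have e : res H (regInv p (χ : G → ℂ)) = ∑ θ : IrrCharacter H,
      classInner (fun h : H => (χ : G → ℂ) h) θ • regInv p (θ : H → ℂ) := by
    funext h
    simp only [res, regInv, Subgroup.orderOf_coe, Finset.sum_apply, Pi.smul_apply, smul_eq_mul,
      mul_ite, mul_zero]
    by_cases hd : p ∣ orderOf h
    · simp [hd]
    · simp only [hd, if_false]
      have := congrFun (CharCore.IsCharacter.eq_sum_classInner hchar) h⁻¹
      simpa using this
  rw [e, omega_sum]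
  exact Finset.sum_congr rfl fun θ _ => omega_smul _ _ _

variable [Fact p.Prime]

/-- Blau's lemma. -/
theorem exists_constituent_height_zero (hM : IsPModular p M) [Fintype H]
    (hind : IsInducedBlock M H b B) {χ : IrrCharacter G} (hχ : χ ∈ B)
    (h0 : blockHeight p B (χ : G → ℂ) = 0) :
    ∃ ξ ∈ b, blockHeight p b ((ξ : IrrCharacter H) : H → ℂ) = 0 ∧
      ∃ n : ℕ, classInner (fun h : H => (χ : G → ℂ) h) (ξ : H → ℂ) = (n : ℂ) ∧ ¬ p ∣ n := by
  classical
  have := isPrime hM
  have := Fintype.ofFinite G
  obtain ⟨ξ, hξ⟩ := isPBlock_nonempty hind.1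
  have hu := (regPair_unit_iff hM hind.2.1 hχ hχ).mpr h0
  have hu' : ¬ MemLocalIdeal M (omega (ξ : H → ℂ) (res H (regInv p (χ : G → ℂ)))) := fun hc =>
    hu (by simpa [regPair] using
      memLocalIdeal_sub hc (omega_induced hM hind hξ hχ (isIntClassFun_regInv (p := p) χ)))
  rw [regPair_res_eq_sum] at hu'
  have hchar : IsCharacter H (fun h : H => (χ : G → ℂ) h) :=
    CharCore.isCharacter_restrict (CharCore.irr_isCharacter χ) H
  obtain ⟨θ, hθ⟩ : ∃ θ : IrrCharacter H, ¬ MemLocalIdeal M
      (classInner (fun h : H => (χ : G → ℂ) h) θ * regPair p (ξ : H → ℂ) θ) := by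
    by_contra hno
    push Not at hno
    exact hu' (memLocalIdeal_sum fun θ _ => hno θ)
  obtain ⟨n, hn⟩ := CharCore.IsCharacter.exists_classInner_irr_eq_natCast hchar θ
  rw [hn] at hθ
  have h1 : ¬ MemLocalIdeal M (regPair p (ξ : H → ℂ) θ) := fun h =>
    hθ (memLocalIdeal_mul_left (memLocalRing_natCast n) h)
  obtain ⟨hθb, hθ0⟩ := (regPair_unit_iff_mem hM hind.1 hξ).mp h1
  refine ⟨θ, hθb, hθ0, n, hn, fun hd => hθ (memLocalIdeal_mul_right
    ((memLocalIdeal_natCast_iff hM n).mpr hd) (regPair_memLocalRing ξ θ))⟩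

/-- If a height zero member restricts irreducibly, a block inducing its block is the block of
the restriction, which has height zero. -/
theorem eq_blockOf_res (hM : IsPModular p M) (hind : IsInducedBlock M H b B)
    {χ : IrrCharacter G} (hχ : χ ∈ B) (h0 : blockHeight p B (χ : G → ℂ) = 0)
    (hres : IsIrrCharacter H (fun h : H => (χ : G → ℂ) h)) :
    b = blockOf M (fun h : H => (χ : G → ℂ) h) := by
  classical
  have := isPrime hM
  have := Fintype.ofFinite G
  have := Fintype.ofFinite H
  obtain ⟨ξ, hξ, -, n, hn, hpn⟩ := exists_constituent_height_zero hM hind hχ h0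
  have heq : ξ = ⟨_, hres⟩ := by
    by_contra hne
    have := CharCore.classInner_irr_of_ne (χ := (⟨_, hres⟩ : IrrCharacter H)) (ψ := ξ)
      (Ne.symm hne)
    rw [this] at hn
    exact hpn (by rw [show n = 0 by exact_mod_cast hn.symm]; exact dvd_zero p)
  rw [isPBlock_eq_blockOf hind.1 hξ, heq]

/-- If an inducing block contains the irreducible restriction of `χ` at height zero, then the
induced block contains `χ` at height zero. -/
theorem mem_of_res_mem (hM : IsPModular p M) (hind : IsInducedBlock M H b B)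
    (χ : IrrCharacter G) (hres : IsIrrCharacter H (fun h : H => (χ : G → ℂ) h))
    (hψ : (⟨_, hres⟩ : IrrCharacter H) ∈ b)
    (hψ0 : blockHeight p b (fun h : H => (χ : G → ℂ) h) = 0) :
    χ ∈ B ∧ blockHeight p B (χ : G → ℂ) = 0 := by
  have := isPrime hM
  have := Fintype.ofFinite G
  obtain ⟨φ, hφ⟩ := isPBlock_nonempty hind.2.1
  refine (regPair_unit_iff_mem hM hind.2.1 hφ).mp fun hc => ?_
  have hu := (regPair_unit_iff hM hind.1 hψ hψ).mpr hψ0
  refine hu ?_
  have he : res H (regInv p (χ : G → ℂ)) = regInv p (fun h : H => (χ : G → ℂ) h) := by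
    funext h
    simp [res, regInv]
  have := memLocalIdeal_add (omega_induced hM hind hψ hφ (isIntClassFun_regInv (p := p) χ)) hc
  rw [he, regPair, sub_add_cancel] at this
  exact this

/-- The defect groups of an inducing block lie in those of the induced block. -/
theorem exists_defectGroup_ge (hM : IsPModular p M) (hind : IsInducedBlock M H b B)
    {D : Subgroup H} (hD : IsDefectGroup p M b D) :
    ∃ E : Subgroup G, IsDefectGroup p M B E ∧ D.map H.subtype ≤ E := by
  have := isPrime hM
  have := Fintype.ofFinite G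
  obtain ⟨ξ, hξ⟩ := isPBlock_nonempty hind.1
  obtain ⟨χ, hχ⟩ := isPBlock_nonempty hind.2.1
  have hf := isIntClassFun_blockCoeff hM hind.2.1
  have hu : ¬ MemLocalIdeal M (omega (ξ : H → ℂ) (res H (blockCoeff B))) := by
    intro hc
    refine not_memLocalIdeal_one (M := M) ?_
    have := memLocalIdeal_sub hc (omega_induced hM hind hξ hχ hf)
    rw [sub_sub_cancel, omega_blockCoeff, Set.indicator_of_mem hχ] at this
    exact this
  obtain ⟨h, hh1, hh2⟩ := exists_unit_class hM ξ (isIntClassFun_res H hf) hu
  obtain ⟨Q, hQ⟩ := exists_isSylowCent p h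
  obtain ⟨x, hx⟩ := defectGroup_subConj_of_centralChar hM hind.1 hD hξ hQ hh2
  obtain ⟨E, hE⟩ := exists_isDefectGroup hM hind.2.1
  have hc : (h : G) ∈ Subgroup.centralizer ((Q.map H.subtype : Subgroup G) : Set G) := by
    rw [Subgroup.mem_centralizer_iff]
    rintro _ ⟨u, hu, rfl⟩
    exact congrArg Subtype.val (Subgroup.mem_centralizer_iff.mp hQ.mem_centralizer u hu)
  have h2 : SubConj (Q.map H.subtype) E :=
    subConj_defectGroup_of_coeff hM hind.2.1 hE (hQ.isPGroup.map _) hc hh1
  have h3 : SubConj (D.map H.subtype) (Q.map H.subtype) := by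
    refine ⟨x, ?_⟩
    rintro _ ⟨_, ⟨u, hu, rfl⟩, rfl⟩
    exact ⟨_, hx (Subgroup.mem_map_of_mem _ hu), by simp⟩
  obtain ⟨y, hy⟩ := h3.trans h2
  exact ⟨_, isDefectGroup_map_conj hM hind.2.1 hE y⁻¹, map_conj_inv_le hy⟩

omit [Fact p.Prime] in
/-- Some member of the induced block has a given member of the inducing block as constituent. -/
theorem exists_constituent (hM : IsPModular p M) [Fintype H] (hind : IsInducedBlock M H b B)
    {ξ : IrrCharacter H} (hξ : ξ ∈ b) :
    ∃ χ ∈ B, classInner (fun h : H => ((χ : IrrCharacter G) : G → ℂ) h) (ξ : H → ℂ) ≠ 0 := by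
  classical
  have := isPrime hM
  have := Fintype.ofFinite G
  by_contra hno
  push Not at hno
  obtain ⟨χ, hχ⟩ := isPBlock_nonempty hind.2.1
  have hzero : omega (ξ : H → ℂ) (res H (blockCoeff B)) = 0 := by
    rw [omega_eq_sum, div_eq_zero_iff]
    left
    simp only [res, blockCoeff_eq_sum, Finset.mul_sum, Finset.sum_mul]
    rw [Finset.sum_comm]
    refine Finset.sum_eq_zero fun φ _ => ?_
    by_cases hφ : φ ∈ B
    · simp only [Set.indicator_of_mem hφ, Pi.one_apply, one_mul, mul_assoc, ← Finset.mul_sum]
      have h0 := hno φ hφ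
      rw [CharCore.classInner_eq_inv _ (CharCore.irr_isCharacter ξ), mul_eq_zero] at h0
      rw [← Fintype.sum_equiv (Equiv.inv H) (fun h => (φ : G → ℂ) (h : G) * (ξ : H → ℂ) h⁻¹)
        (fun h => (φ : G → ℂ) (h : G)⁻¹ * (ξ : H → ℂ) h) (fun h => by simp),
        h0.resolve_left (inv_ne_zero (Nat.cast_ne_zero.mpr Nat.card_pos.ne')), mul_zero, mul_zero]
    · simp [Set.indicator_of_notMem hφ]
  have := omega_induced hM hind hξ hχ (isIntClassFun_blockCoeff hM hind.2.1)
  rw [hzero, omega_blockCoeff, Set.indicator_of_mem hχ, Pi.one_apply, zero_sub] at this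
  exact not_memLocalIdeal_one (M := M) (by simpa using memLocalIdeal_neg this)

end Cfsg.Agent.BlocksDefect
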