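import Cfsg.Agent.Lib.BlocksCore.Local
import Mathlib.GroupTheory.PGroup
import Mathlib.GroupTheory.GroupAction.ConjAct
import Mathlib.Algebra.BigOperators.Group.Finset.Basic

/-!
# The congruence behind the Brauer morphism

A sum over a set acted on by a `p`-group, with an invariant summand, is congruent modulo the
local ideal to the sum over the fixed points.  Applied to the convolution of two functions
invariant under conjugation by a `p`-subgroup `P`, evaluated at an element centralizing `P`,
this says that truncation to the centralizer of `P` respects convolution modulo the ideal.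
-/

namespace Cfsg.Agent.BlocksDefect

open BlocksCore

variable {p : ℕ} {M : Ideal AlgInt}

theorem memLocalIdeal_sum_sub_fixed [Fact p.Prime] (hM : IsPModular p M) {α P : Type*}
    [Group P] [MulAction P α] [Fintype α] [Finite P] (hP : IsPGroup p P) (f : α → ℂ)
    (hinv : ∀ (u : P) (a : α), f (u • a) = f a) (hf : ∀ a, MemLocalRing M (f a))
    [DecidablePred (· ∈ MulAction.fixedPoints P α)] :
    MemLocalIdeal M (∑ a, f a -
      ∑ a ∈ Finset.univ.filter (· ∈ MulAction.fixedPoints P α), f a) := by
  classical
  have := isPrime hM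
  have hsplit : ∑ a, f a - ∑ a ∈ Finset.univ.filter (· ∈ MulAction.fixedPoints P α), f a
      = ∑ a ∈ Finset.univ.filter (· ∉ MulAction.fixedPoints P α), f a :=
    sub_eq_of_eq_add' (Finset.sum_filter_add_sum_filter_not _ _ _).symm
  rw [hsplit, ← Finset.sum_fiberwise (Finset.univ.filter (· ∉ MulAction.fixedPoints P α))
    (fun a => (Quotient.mk (MulAction.orbitRel P α) a))]
  refine memLocalIdeal_sum fun q _ => ?_
  induction q using Quotient.inductionOn with
  | h a =>
    by_cases ha : a ∈ MulAction.fixedPoints P α
    · convert memLocalIdeal_zero (M := M) using 1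
      refine Finset.sum_eq_zero fun b hb => ?_
      simp only [Finset.mem_filter, Finset.mem_univ, true_and, Quotient.eq,
        MulAction.orbitRel_apply] at hb
      obtain ⟨u, rfl⟩ := MulAction.mem_orbit_iff.mp hb.2
      exact absurd (by rw [ha u]; exact ha) hb.1
    · have hset : (Finset.univ.filter (· ∉ MulAction.fixedPoints P α)).filter
          (fun b => Quotient.mk (MulAction.orbitRel P α) b = Quotient.mk _ a)
          = (MulAction.orbit P a).toFinset := by
        ext b
        simp only [Finset.mem_filter, Finset.mem_univ, true_and, Quotient.eq,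
          MulAction.orbitRel_apply, Set.mem_toFinset]
        refine ⟨And.right, fun hb => ⟨fun hbf => ha ?_, hb⟩⟩
        obtain ⟨u, rfl⟩ := MulAction.mem_orbit_iff.mp hb
        have := hbf u⁻¹
        rw [inv_smul_smul] at this
        exact this ▸ hbf
      have hconst : ∀ b ∈ (MulAction.orbit P a).toFinset, f b = f a := by
        intro b hb
        obtain ⟨u, rfl⟩ := MulAction.mem_orbit_iff.mp (Set.mem_toFinset.mp hb)
        exact hinv u a
      rw [hset, Finset.sum_congr rfl hconst, Finset.sum_const, nsmul_eq_mul]
      refine memLocalIdeal_mul_right ((memLocalIdeal_natCast_iff hM _).mpr ?_) (hf a)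
      obtain ⟨k, hk⟩ := hP.card_orbit a
      rw [Set.toFinset_card, ← Nat.card_eq_fintype_card, hk]
      refine dvd_pow_self p fun h0 => ha ?_
      rw [h0, pow_zero, Nat.card_eq_one_iff_unique] at hk
      intro u
      have := hk.1
      exact congrArg Subtype.val
        (Subsingleton.elim (⟨u • a, MulAction.mem_orbit a u⟩ : MulAction.orbit P a)
          ⟨a, MulAction.mem_orbit_self a⟩)

variable {G : Type*} [Group G]

/-- For functions invariant under conjugation by a `p`-subgroup `P`, the convolution at a point
centralizing `P` is congruent to the convolution of the truncations to the centralizer of `P`. -/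
theorem memLocalIdeal_convSum_sub [Fact p.Prime] (hM : IsPModular p M) [Fintype G]
    {P : Subgroup G} (hP : IsPGroup p P) (a b : G → ℂ)
    (ha : ∀ u ∈ P, ∀ y, a (u * y * u⁻¹) = a y) (hb : ∀ u ∈ P, ∀ y, b (u * y * u⁻¹) = b y)
    (hra : ∀ y, MemLocalRing M (a y)) (hrb : ∀ y, MemLocalRing M (b y)) {c : G}
    (hc : c ∈ Subgroup.centralizer (P : Set G))
    [DecidablePred (· ∈ Subgroup.centralizer (P : Set G))] :
    MemLocalIdeal M (∑ y, a y * b (y⁻¹ * c) -
      ∑ y ∈ Finset.univ.filter (· ∈ Subgroup.centralizer (P : Set G)), a y * b (y⁻¹ * c)) := by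
  classical
  have := isPrime hM
  let _ : MulAction P G :=
    { smul := fun u y => (u : G) * y * (u : G)⁻¹
      one_smul := fun y => by
        change ((1 : P) : G) * y * ((1 : P) : G)⁻¹ = y
        simp
      mul_smul := fun u v y => by
        change ((u * v : P) : G) * y * ((u * v : P) : G)⁻¹ =
          (u : G) * ((v : G) * y * (v : G)⁻¹) * (u : G)⁻¹
        simp [mul_assoc] }
  have key := memLocalIdeal_sum_sub_fixed (α := G) (P := P) hM hP
    (fun y => a y * b (y⁻¹ * c)) ?_ (fun y => (localRing M).mul_mem (hra y) (hrb _))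
  · convert key using 4
    rename_i y _
    simp only [MulAction.mem_fixedPoints,
      Subgroup.mem_centralizer_iff, SetLike.mem_coe]
    constructor
    · intro h u
      change (u : G) * y * (u : G)⁻¹ = y
      rw [mul_inv_eq_iff_eq_mul]
      exact h u u.2
    · intro h u hu
      exact mul_inv_eq_iff_eq_mul.mp (h ⟨u, hu⟩)
  · intro u y
    change a ((u : G) * y * (u : G)⁻¹) * b (((u : G) * y * (u : G)⁻¹)⁻¹ * c) = _
    have hcu : (u : G) * c * (u : G)⁻¹ = c :=
      mul_inv_eq_iff_eq_mul.mpr (Subgroup.mem_centralizer_iff.mp hc u u.2)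
    have : ((u : G) * y * (u : G)⁻¹)⁻¹ * c = (u : G) * (y⁻¹ * c) * (u : G)⁻¹ := by
      nth_rw 1 [← hcu]; group
    rw [this, ha u u.2, hb u u.2]

/-- The form used for defect groups: if the convolution at a point centralizing the `p`-group
`P` is a unit, then some point centralizing `P` carries a unit value of the first factor. -/
theorem exists_mem_centralizer_of_convSum [Fact p.Prime] (hM : IsPModular p M) [Fintype G]
    {P : Subgroup G} (hP : IsPGroup p P) (a b : G → ℂ)
    (ha : ∀ u ∈ P, ∀ y, a (u * y * u⁻¹) = a y) (hb : ∀ u ∈ P, ∀ y, b (u * y * u⁻¹) = b y)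
    (hra : ∀ y, MemLocalRing M (a y)) (hrb : ∀ y, MemLocalRing M (b y)) {c : G}
    (hc : c ∈ Subgroup.centralizer (P : Set G))
    (h : ¬ MemLocalIdeal M (∑ y, a y * b (y⁻¹ * c))) :
    ∃ y ∈ Subgroup.centralizer (P : Set G),
      ¬ MemLocalIdeal M (a y) ∧ ¬ MemLocalIdeal M (b (y⁻¹ * c)) := by
  classical
  have := isPrime hM
  by_contra hno
  push Not at hno
  refine h ?_
  have h2 : MemLocalIdeal M (∑ y ∈ Finset.univ.filter (· ∈ Subgroup.centralizer (P : Set G)),
      a y * b (y⁻¹ * c)) := by
    refine memLocalIdeal_sum fun y hy => ?_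
    rw [Finset.mem_filter] at hy
    by_cases hay : MemLocalIdeal M (a y)
    · exact memLocalIdeal_mul_right hay (hrb _)
    · exact memLocalIdeal_mul_left (hra y) (hno y hy.2 hay)
  simpa using memLocalIdeal_add (memLocalIdeal_convSum_sub hM hP a b ha hb hra hrb hc) h2

end Cfsg.Agent.BlocksDefect
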