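import Cfsg.Prelude.Def_Blocks
import Mathlib.GroupTheory.Sylow
import Mathlib.GroupTheory.Subgroup.Centralizer
import Mathlib.Algebra.Group.Subgroup.Pointwise

/-!
# Sylow subgroups of centralizers, as subgroups of the whole group

`IsSylowCent p g D` says that `D` is a Sylow `p`-subgroup of the centralizer of `g`, written in
the form used by `Cfsg.IsDefectGroup`; `SubConj Q D` says that a conjugate of `Q` lies in `D`.
-/

namespace Cfsg.Agent.BlocksDefect

variable {G : Type*} [Group G] {p : ℕ}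

/-- `D` is a Sylow `p`-subgroup of the centralizer of `g`. -/
def IsSylowCent (p : ℕ) (g : G) (D : Subgroup G) : Prop :=
  ∃ P : Sylow p (Subgroup.centralizer ({g} : Set G)),
    (P : Subgroup (Subgroup.centralizer ({g} : Set G))).map
      (Subgroup.centralizer ({g} : Set G)).subtype = D

/-- Some conjugate of `Q` lies in `D`. -/
def SubConj (Q D : Subgroup G) : Prop :=
  ∃ x : G, Q.map (MulAut.conj x).toMonoidHom ≤ D

theorem isDefectGroup_iff {M : Ideal AlgInt} {B : Set (IrrCharacter G)} {D : Subgroup G} :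
    IsDefectGroup p M B D ↔ ∃ g, IsDefectClass M B g ∧ IsSylowCent p g D :=
  exists_congr fun _ => and_congr Iff.rfl (exists_congr fun _ => eq_comm)

theorem mem_centralizer_singleton {g y : G} :
    y ∈ Subgroup.centralizer ({g} : Set G) ↔ y * g = g * y := by
  rw [Subgroup.mem_centralizer_iff]
  simp [eq_comm]

theorem le_centralizer_singleton_iff {Q : Subgroup G} {y : G} :
    Q ≤ Subgroup.centralizer ({y} : Set G) ↔ y ∈ Subgroup.centralizer (Q : Set G) := by
  rw [Subgroup.mem_centralizer_iff]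
  exact ⟨fun h u hu => mem_centralizer_singleton.mp (h hu),
    fun h u hu => mem_centralizer_singleton.mpr (h u hu)⟩

theorem map_conj_mem_iff {Q : Subgroup G} {x y : G} :
    y ∈ Q.map (MulAut.conj x).toMonoidHom ↔ x⁻¹ * y * x ∈ Q := by
  constructor
  · rintro ⟨u, hu, rfl⟩
    simpa [mul_assoc] using hu
  · intro h
    exact ⟨_, h, by simp [mul_assoc]⟩

theorem map_conj_map_conj (Q : Subgroup G) (x y : G) :
    (Q.map (MulAut.conj y).toMonoidHom).map (MulAut.conj x).toMonoidHom =
      Q.map (MulAut.conj (x * y)).toMonoidHom := by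
  ext z
  simp [mul_assoc]

theorem map_conj_one (Q : Subgroup G) : Q.map (MulAut.conj (1 : G)).toMonoidHom = Q := by
  ext z
  simp

theorem map_conj_inv_le {Q D : Subgroup G} {x : G}
    (h : Q.map (MulAut.conj x).toMonoidHom ≤ D) : Q ≤ D.map (MulAut.conj x⁻¹).toMonoidHom := by
  intro u hu
  rw [map_conj_mem_iff]
  have := h (Subgroup.mem_map_of_mem _ hu)
  simpa using this

theorem natCard_map_conj (Q : Subgroup G) (x : G) :
    Nat.card (Q.map (MulAut.conj x).toMonoidHom) = Nat.card Q :=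
  (Nat.card_congr (Q.equivMapOfInjective _ (MulAut.conj x).injective).toEquiv).symm

theorem isPGroup_map_conj {Q : Subgroup G} (hQ : IsPGroup p Q) (x : G) :
    IsPGroup p (Q.map (MulAut.conj x).toMonoidHom) :=
  hQ.map _

theorem mem_centralizer_map_conj {Q : Subgroup G} {x y : G}
    (hy : y ∈ Subgroup.centralizer (Q : Set G)) :
    x * y * x⁻¹ ∈ Subgroup.centralizer ((Q.map (MulAut.conj x).toMonoidHom : Subgroup G) : Set G) := by
  rw [Subgroup.mem_centralizer_iff] at hy ⊢
  rintro _ ⟨u, hu, rfl⟩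
  have := hy u hu
  simp only [MulEquiv.coe_toMonoidHom, MulAut.conj_apply]
  calc x * u * x⁻¹ * (x * y * x⁻¹) = x * (u * y) * x⁻¹ := by group
    _ = x * (y * u) * x⁻¹ := by rw [this]
    _ = x * y * x⁻¹ * (x * u * x⁻¹) := by group

theorem subConj_refl (Q : Subgroup G) : SubConj Q Q := ⟨1, (map_conj_one Q).le⟩

theorem subConj_of_le {Q D : Subgroup G} (h : Q ≤ D) : SubConj Q D :=
  ⟨1, (map_conj_one Q).le.trans h⟩

theorem SubConj.trans {A B C : Subgroup G} (h₁ : SubConj A B) (h₂ : SubConj B C) :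
    SubConj A C := by
  obtain ⟨x, hx⟩ := h₁
  obtain ⟨y, hy⟩ := h₂
  exact ⟨y * x, (map_conj_map_conj A y x) ▸ (Subgroup.map_mono hx).trans hy⟩

theorem subConj_map_conj_left {Q D : Subgroup G} (x : G) :
    SubConj (Q.map (MulAut.conj x).toMonoidHom) D ↔ SubConj Q D := by
  constructor
  · exact fun h => SubConj.trans ⟨x, le_rfl⟩ h
  · exact fun h => SubConj.trans ⟨x⁻¹, by rw [map_conj_map_conj, inv_mul_cancel, map_conj_one]⟩ h

theorem SubConj.card_dvd {Q D : Subgroup G} (h : SubConj Q D) : Nat.card Q ∣ Nat.card D := by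
  obtain ⟨x, hx⟩ := h
  exact natCard_map_conj Q x ▸ Subgroup.card_dvd_of_le hx

theorem SubConj.exists_eq_of_card_le [Finite G] {Q D : Subgroup G} (h : SubConj Q D)
    (hle : Nat.card D ≤ Nat.card Q) : ∃ x : G, Q.map (MulAut.conj x).toMonoidHom = D := by
  obtain ⟨x, hx⟩ := h
  exact ⟨x, Subgroup.eq_of_le_of_card_ge hx (by rw [natCard_map_conj]; exact hle)⟩

theorem exists_isSylowCent (p : ℕ) (g : G) : ∃ D, IsSylowCent p g D := by
  obtain ⟨P⟩ : Nonempty (Sylow p (Subgroup.centralizer ({g} : Set G))) := Sylow.nonempty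
  exact ⟨_, P, rfl⟩

namespace IsSylowCent

variable {g : G} {D : Subgroup G}

theorem le_centralizer (h : IsSylowCent p g D) : D ≤ Subgroup.centralizer ({g} : Set G) := by
  obtain ⟨P, rfl⟩ := h
  exact Subgroup.map_subtype_le _

theorem mem_centralizer (h : IsSylowCent p g D) : g ∈ Subgroup.centralizer (D : Set G) :=
  le_centralizer_singleton_iff.mp h.le_centralizer

theorem isPGroup (h : IsSylowCent p g D) : IsPGroup p D := by
  obtain ⟨P, rfl⟩ := h
  exact P.isPGroup'.map _

theorem natCard [Finite G] [Fact p.Prime] (h : IsSylowCent p g D) :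
    Nat.card D =
      p ^ (Nat.card (Subgroup.centralizer ({g} : Set G))).factorization p := by
  obtain ⟨P, rfl⟩ := h
  rw [← P.card_eq_multiplicity]
  exact (Nat.card_congr
    (Subgroup.equivMapOfInjective _ _ (Subgroup.subtype_injective _)).toEquiv).symm

/-- Every `p`-subgroup centralizing `g` is conjugate into `D`, by an element centralizing `g`. -/
theorem exists_map_conj_le [Finite G] [Fact p.Prime] (h : IsSylowCent p g D) {Q : Subgroup G}
    (hQ : IsPGroup p Q) (hQg : Q ≤ Subgroup.centralizer ({g} : Set G)) :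
    ∃ x ∈ Subgroup.centralizer ({g} : Set G), Q.map (MulAut.conj x).toMonoidHom ≤ D := by
  obtain ⟨P, rfl⟩ := h
  obtain ⟨S, hS⟩ := (hQ.comap_of_injective (Subgroup.centralizer ({g} : Set G)).subtype
    (Subgroup.subtype_injective _)).exists_le_sylow
  obtain ⟨c, hc⟩ := MulAction.exists_smul_eq (Subgroup.centralizer ({g} : Set G)) S P
  refine ⟨c, c.2, ?_⟩
  rintro _ ⟨u, hu, rfl⟩
  refine ⟨c * ⟨u, hQg hu⟩ * c⁻¹, ?_, rfl⟩
  rw [← hc]
  exact Subgroup.mem_map_of_mem (MulAut.conj c).toMonoidHom (hS (by exact hu))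

theorem map_conj (h : IsSylowCent p g D) [Finite G] [Fact p.Prime] (x : G) :
    IsSylowCent p (x * g * x⁻¹) (D.map (MulAut.conj x).toMonoidHom) := by
  have hle : D.map (MulAut.conj x).toMonoidHom ≤ Subgroup.centralizer ({x * g * x⁻¹} : Set G) :=
    le_centralizer_singleton_iff.mpr (mem_centralizer_map_conj h.mem_centralizer)
  have hcard : Nat.card (Subgroup.centralizer ({x * g * x⁻¹} : Set G)) =
      Nat.card (Subgroup.centralizer ({g} : Set G)) := by
    rw [← natCard_map_conj (Subgroup.centralizer ({g} : Set G)) x]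
    congr 1
    refine congrArg (fun H : Subgroup G => ↥H) ?_
    ext y
    simp only [map_conj_mem_iff, mem_centralizer_singleton]
    constructor
    · intro hy
      calc x⁻¹ * y * x * g = x⁻¹ * (y * (x * g * x⁻¹)) * x := by group
        _ = x⁻¹ * (x * g * x⁻¹ * y) * x := by rw [hy]
        _ = g * (x⁻¹ * y * x) := by group
    · intro hy
      calc y * (x * g * x⁻¹) = x * (x⁻¹ * y * x * g) * x⁻¹ := by group
        _ = x * (g * (x⁻¹ * y * x)) * x⁻¹ := by rw [hy]
        _ = x * g * x⁻¹ * y := by group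
  refine ⟨Sylow.ofCard ((D.map (MulAut.conj x).toMonoidHom).subgroupOf _) ?_, ?_⟩
  · rw [Nat.card_congr (Subgroup.subgroupOfEquivOfLe hle).toEquiv, natCard_map_conj, h.natCard,
      hcard]
  · rw [Sylow.coe_ofCard]
    exact Subgroup.map_subgroupOf_eq_of_le hle

/-- If `y` is conjugate to `g` and centralizes the `p`-group `Q`, then `Q` is conjugate into a
Sylow `p`-subgroup of the centralizer of `g`. -/
theorem subConj_of_isConj [Finite G] [Fact p.Prime] (h : IsSylowCent p g D) {Q : Subgroup G}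
    (hQ : IsPGroup p Q) {y : G} (hy : IsConj g y)
    (hyQ : y ∈ Subgroup.centralizer (Q : Set G)) : SubConj Q D := by
  obtain ⟨x, rfl⟩ := isConj_iff.mp hy
  have h2 : g ∈ Subgroup.centralizer
      ((Q.map (MulAut.conj x⁻¹).toMonoidHom : Subgroup G) : Set G) := by
    have := mem_centralizer_map_conj (x := x⁻¹) hyQ
    simpa [mul_assoc] using this
  obtain ⟨c, -, hc⟩ := h.exists_map_conj_le (isPGroup_map_conj hQ x⁻¹)
    (le_centralizer_singleton_iff.mpr h2)
  exact (subConj_map_conj_left x⁻¹).mp ⟨c, hc⟩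

end IsSylowCent

/-- If `Q` is conjugate into a subgroup centralized by `g`, a conjugate of `g` centralizes `Q`. -/
theorem exists_isConj_mem_centralizer_of_subConj {g : G} {Q D : Subgroup G} (h : SubConj Q D)
    (hg : g ∈ Subgroup.centralizer (D : Set G)) :
    ∃ y, IsConj g y ∧ y ∈ Subgroup.centralizer (Q : Set G) := by
  obtain ⟨x, hx⟩ := h
  refine ⟨x⁻¹ * g * x⁻¹⁻¹, isConj_iff.mpr ⟨x⁻¹, rfl⟩, ?_⟩
  exact Subgroup.centralizer_le (map_conj_inv_le hx) (mem_centralizer_map_conj hg)

end Cfsg.Agent.BlocksDefect
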