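import Cfsg.Agent.Lib.BlocksCore.Ring
import Cfsg.Agent.Lib.BlocksDefect.Congruence
import Cfsg.Agent.Lib.BlocksDefect.SylowCent

/-!
# Defect classes and defect groups

Existence of defect classes, the min-max property, and the characterization of the
`p`-subgroups contained in a defect group up to conjugacy.
-/

namespace Cfsg.Agent.BlocksDefect

open BlocksCore

variable {G : Type*} [Group G] [Finite G] {p : ℕ} {M : Ideal AlgInt}

omit [Finite G] in
theorem classFun_eq_of_isConj {a : G → ℂ} (ha : IsClassFunction G a) {g h : G}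
    (hgh : IsConj g h) : a h = a g := by
  obtain ⟨x, rfl⟩ := isConj_iff.mp hgh
  exact ha g x

omit [Finite G] in
theorem natCard_isConj (g : G) :
    Nat.card {x : G // IsConj g x} = (Subgroup.centralizer ({g} : Set G)).index := by
  classical
  refine (Nat.card_congr ?_).trans (Nat.card_congr ((MulAction.orbitEquivQuotientStabilizer
    (ConjAct G) g).trans (Subgroup.quotientEquivOfEq (ConjAct.stabilizer_eq_centralizer g))))
  exact Equiv.setCongr (s := {x | IsConj g x}) (by ext x; rw [ConjAct.mem_orbit_conjAct, isConj_comm]; rfl)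

/-- Group the sum of a product of two class functions along conjugacy classes. -/
theorem sum_eq_sum_classes [Fintype G] [Fintype (ConjClasses G)] {a b : G → ℂ}
    (ha : IsClassFunction G a) (hb : IsClassFunction G b) :
    ∑ g, a g * b g = ∑ C : ConjClasses G,
      a (Quotient.out C) * ((Subgroup.centralizer ({Quotient.out C} : Set G)).index * b (Quotient.out C)) := by
  classical
  rw [← Finset.sum_fiberwise Finset.univ (fun g => ConjClasses.mk g)]
  refine Finset.sum_congr rfl fun C _ => ?_
  have hC : ConjClasses.mk (Quotient.out C) = C := Quotient.out_eq C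
  have hiff : ∀ g, ConjClasses.mk g = C ↔ IsConj (Quotient.out C) g := fun g => by
    conv_lhs => rw [← hC]
    rw [ConjClasses.mk_eq_mk_iff_isConj, isConj_comm]
  rw [Finset.sum_congr rfl (g := fun _ => a (Quotient.out C) * b (Quotient.out C))
    (fun g hg => by
      rw [classFun_eq_of_isConj ha ((hiff g).mp (Finset.mem_filter.mp hg).2),
        classFun_eq_of_isConj hb ((hiff g).mp (Finset.mem_filter.mp hg).2)]),
    Finset.sum_const, nsmul_eq_mul, ← natCard_isConj, Nat.card_eq_fintype_card,
    Fintype.card_subtype]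
  simp only [hiff]
  ring

theorem omega_eq_sum_classes [Fintype G] [Fintype (ConjClasses G)] (χ : IrrCharacter G)
    {a : G → ℂ} (ha : IsClassFunction G a) :
    omega (χ : G → ℂ) a =
      ∑ C : ConjClasses G, a (Quotient.out C) * centralChar (χ : G → ℂ) (Quotient.out C) := by
  rw [omega_eq_sum, sum_eq_sum_classes ha (irr_class χ), Finset.sum_div]
  exact Finset.sum_congr rfl fun C _ => by rw [centralChar, mul_div_assoc]

/-- If the value of a central character at a class function is a unit, then at some class both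
the coefficient and the central character are units. -/
theorem exists_unit_class (hM : IsPModular p M) (χ : IrrCharacter G) {a : G → ℂ}
    (ha : IsIntClassFun M a) (h : ¬ MemLocalIdeal M (omega (χ : G → ℂ) a)) :
    ∃ g, ¬ MemLocalIdeal M (a g) ∧ ¬ MemLocalIdeal M (centralChar (χ : G → ℂ) g) := by
  have := isPrime hM
  have := Fintype.ofFinite G
  have : Finite (ConjClasses G) := Quotient.finite _
  have := Fintype.ofFinite (ConjClasses G)
  by_contra hno
  push Not at hno
  refine h ?_
  rw [omega_eq_sum_classes χ ha.1]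
  refine memLocalIdeal_sum fun C _ => ?_
  by_cases hC : MemLocalIdeal M (a (Quotient.out C))
  · exact memLocalIdeal_mul_right hC (centralChar_memLocalRing χ _)
  · exact memLocalIdeal_mul_left (ha.2 _) (hno _ hC)

/-- A unit central character value at one member of a block is a unit at all members. -/
theorem centralChar_unit_of_mem (hM : IsPModular p M) {B : Set (IrrCharacter G)}
    (hB : IsPBlock M B) {χ ψ : IrrCharacter G} (hχ : χ ∈ B) (hψ : ψ ∈ B) {g : G}
    (h : ¬ MemLocalIdeal M (centralChar (χ : G → ℂ) g)) :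
    ¬ MemLocalIdeal M (centralChar (ψ : G → ℂ) g) := by
  have := Fintype.ofFinite G
  have := isPrime hM
  exact fun hc => h (by simpa using memLocalIdeal_add (sameBlock_of_mem hB hχ hψ g) hc)

/-- A defect class exists. -/
theorem exists_isDefectClass (hM : IsPModular p M) {B : Set (IrrCharacter G)}
    (hB : IsPBlock M B) : ∃ g, IsDefectClass M B g := by
  have := Fintype.ofFinite G
  have := isPrime hM
  have := isPrime hM
  obtain ⟨χ, hχ⟩ := isPBlock_nonempty hB
  have h : ¬ MemLocalIdeal M (omega (χ : G → ℂ) (blockCoeff B)) := by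
    rw [omega_blockCoeff, Set.indicator_of_mem hχ]
    exact not_memLocalIdeal_one
  obtain ⟨g, hg1, hg2⟩ := exists_unit_class hM χ (isIntClassFun_blockCoeff hM hB) h
  exact ⟨g, (isIntClassFun_blockCoeff hM hB).2 g, hg1,
    fun ψ hψ => centralChar_unit_of_mem hM hB hχ hψ hg2⟩

theorem exists_isDefectGroup (hM : IsPModular p M) {B : Set (IrrCharacter G)}
    (hB : IsPBlock M B) : ∃ D, IsDefectGroup p M B D := by
  obtain ⟨g, hg⟩ := exists_isDefectClass hM hB
  obtain ⟨D, hD⟩ := exists_isSylowCent p g
  exact ⟨D, isDefectGroup_iff.mpr ⟨g, hg, hD⟩⟩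

variable [Fact p.Prime]

/-- If `a` has a unit central character value on `B` and the idempotent of `B` has a unit
coefficient at `h`, every `p`-group centralized by `h` is centralized by a point where `a` is a
unit. -/
theorem exists_unit_mem_centralizer (hM : IsPModular p M) {B : Set (IrrCharacter G)}
    (hB : IsPBlock M B) {a : G → ℂ} (ha : IsIntClassFun M a) {χ : IrrCharacter G} (hχ : χ ∈ B)
    (hu : ¬ MemLocalIdeal M (omega (χ : G → ℂ) a)) {Q : Subgroup G} (hQ : IsPGroup p Q) {h : G}
    (hh : h ∈ Subgroup.centralizer (Q : Set G))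
    (hc : ¬ MemLocalIdeal M (blockCoeff B h)) :
    ∃ y ∈ Subgroup.centralizer (Q : Set G), ¬ MemLocalIdeal M (a y) := by
  have := Fintype.ofFinite G
  obtain ⟨c, hci, hac⟩ := exists_conv_eq_blockCoeff hM hB ha hχ hu
  rw [← hac, conv_apply] at hc
  obtain ⟨y, hy, hy1, -⟩ := exists_mem_centralizer_of_convSum hM hQ a c
    (fun u _ z => ha.1 z u) (fun u _ z => hci.1 z u) ha.2 hci.2 hh hc
  exact ⟨y, hy, hy1⟩

/-- The min-max property, at the level of single classes. -/
theorem subConj_of_units (hM : IsPModular p M) {B : Set (IrrCharacter G)}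
    (hB : IsPBlock M B) {χ : IrrCharacter G} (hχ : χ ∈ B) {g : G} {D : Subgroup G}
    (hD : IsSylowCent p g D) (hu : ¬ MemLocalIdeal M (centralChar (χ : G → ℂ) g))
    {Q : Subgroup G} (hQ : IsPGroup p Q) {h : G}
    (hh : h ∈ Subgroup.centralizer (Q : Set G))
    (hc : ¬ MemLocalIdeal M (blockCoeff B h)) : SubConj Q D := by
  have := Fintype.ofFinite G
  have := isPrime hM
  obtain ⟨y, hy, hy1⟩ := exists_unit_mem_centralizer hM hB (isIntClassFun_classInd g) hχ
    (by rwa [omega_classInd (irr_class χ)]) hQ hh hc
  refine hD.subConj_of_isConj hQ ?_ hy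
  by_contra hn
  refine hy1 ?_
  rw [classInd, Set.indicator_of_notMem (by simpa using hn)]
  exact memLocalIdeal_zero

variable {B : Set (IrrCharacter G)} {D : Subgroup G}

omit [Finite G] [Fact p.Prime] in
theorem isPGroup_of_isDefectGroup (hD : IsDefectGroup p M B D) : IsPGroup p D := by
  obtain ⟨g, -, hS⟩ := isDefectGroup_iff.mp hD
  exact hS.isPGroup

/-- Classes with a unit idempotent coefficient have defect groups inside that of the block. -/
theorem subConj_defectGroup_of_coeff (hM : IsPModular p M) (hB : IsPBlock M B)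
    (hD : IsDefectGroup p M B D) {Q : Subgroup G} (hQ : IsPGroup p Q) {h : G}
    (hh : h ∈ Subgroup.centralizer (Q : Set G))
    (hc : ¬ MemLocalIdeal M (blockCoeff B h)) : SubConj Q D := by
  obtain ⟨g, hg, hS⟩ := isDefectGroup_iff.mp hD
  have := isPrime hM
  obtain ⟨χ, hχ⟩ := isPBlock_nonempty hB
  exact subConj_of_units hM hB hχ hS (hg.2.2 χ hχ) hQ hh hc

/-- Classes with a unit central character value have defect groups containing that of the
block. -/
theorem defectGroup_subConj_of_centralChar (hM : IsPModular p M) (hB : IsPBlock M B)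
    (hD : IsDefectGroup p M B D) {χ : IrrCharacter G} (hχ : χ ∈ B) {g : G} {Q : Subgroup G}
    (hQ : IsSylowCent p g Q) (hu : ¬ MemLocalIdeal M (centralChar (χ : G → ℂ) g)) :
    SubConj D Q := by
  obtain ⟨g', hg', hS⟩ := isDefectGroup_iff.mp hD
  exact subConj_of_units hM hB hχ hQ hu hS.isPGroup hS.mem_centralizer hg'.2.1

/-- Defect groups are conjugate. -/
theorem isConj_defectGroup (hM : IsPModular p M) (hB : IsPBlock M B)
    (hD : IsDefectGroup p M B D) {E : Subgroup G} (hE : IsDefectGroup p M B E) :
    ∃ x : G, D.map (MulAut.conj x).toMonoidHom = E := by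
  obtain ⟨g, hg, hS⟩ := isDefectGroup_iff.mp hD
  obtain ⟨g', hg', hS'⟩ := isDefectGroup_iff.mp hE
  exact (subConj_defectGroup_of_coeff hM hB hE hS.isPGroup hS.mem_centralizer hg.2.1)
    |>.exists_eq_of_card_le (Nat.le_of_dvd Nat.card_pos (SubConj.card_dvd
      (subConj_defectGroup_of_coeff hM hB hD hS'.isPGroup hS'.mem_centralizer hg'.2.1)))

/-- A conjugate of a defect group is a defect group. -/
theorem isDefectGroup_map_conj (hM : IsPModular p M) (hB : IsPBlock M B)
    (hD : IsDefectGroup p M B D) (x : G) :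
    IsDefectGroup p M B (D.map (MulAut.conj x).toMonoidHom) := by
  have := Fintype.ofFinite G
  obtain ⟨g, hg, hS⟩ := isDefectGroup_iff.mp hD
  have he := (isIntClassFun_blockCoeff hM hB).1 g x
  refine isDefectGroup_iff.mpr ⟨_, ⟨by rw [he]; exact hg.1, by rw [he]; exact hg.2.1, ?_⟩,
    hS.map_conj x⟩
  intro χ hχ
  convert hg.2.2 χ hχ using 2
  have hconj : IsConj g (x * g * x⁻¹) := isConj_iff.mpr ⟨x, rfl⟩
  rw [centralChar, centralChar, classFun_eq_of_isConj (irr_class χ) hconj,
    ← natCard_isConj, ← natCard_isConj]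
  congr 3
  exact Nat.card_congr (Equiv.subtypeEquivRight fun y =>
    ⟨fun h => hconj.trans h, fun h => hconj.symm.trans h⟩)

/-- `p`-subgroups of a defect group, up to conjugacy, are those centralized by a unit
coefficient of the idempotent. -/
theorem exists_coeff_mem_centralizer_iff (hM : IsPModular p M) (hB : IsPBlock M B)
    (hD : IsDefectGroup p M B D) {Q : Subgroup G} (hQ : IsPGroup p Q) :
    (∃ c ∈ Subgroup.centralizer (Q : Set G), ¬ MemLocalIdeal M (blockCoeff B c)) ↔
      SubConj Q D := by
  have := Fintype.ofFinite G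
  constructor
  · rintro ⟨c, hc, hu⟩
    exact subConj_defectGroup_of_coeff hM hB hD hQ hc hu
  · intro h
    obtain ⟨g, hg, hS⟩ := isDefectGroup_iff.mp hD
    obtain ⟨y, hy, hyQ⟩ := exists_isConj_mem_centralizer_of_subConj h hS.mem_centralizer
    exact ⟨y, hyQ, (classFun_eq_of_isConj (isIntClassFun_blockCoeff hM hB).1 hy) ▸ hg.2.1⟩

end Cfsg.Agent.BlocksDefect
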