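import Cfsg.Agent.Lib.BlocksDefect.Quotient
import Cfsg.Agent.Lib.BlocksCore.DefectZero
import Cfsg.Agent.Lib.BlocksCore.PPart
import Cfsg.Agent.Lib.CharInd.DefectZero
import Cfsg.Agent.Lib.CharCore.Complete

/-!
# The blocks of `P · C(P)` with defect group `P`

If `G = P · C(P)` and the block `B` has defect group `P`, the members of `B` are the functions
`g ↦ lam (g_p) * θ g` for the irreducible characters `lam` of `P`, where `θ` is the member of
`B` with `P` in its kernel.
-/

set_option linter.unusedSectionVars false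

open scoped ComplexConjugate

namespace Cfsg.Agent.BlocksDefect

open BlocksCore

universe u

variable {G : Type u} [Group G] [Finite G] {p : ℕ} [Fact p.Prime] {M : Ideal AlgInt}
  {P : Subgroup G}

variable (p) in
/-- The `p`-part of an element. -/
noncomputable def pp (g : G) : G := (exists_pPart (p := p) Fact.out g).choose

theorem pp_spec (g : G) : IsPPart p g (pp p g) := (exists_pPart (p := p) Fact.out g).choose_spec

theorem pp_eq {g x : G} (h : IsPPart p g x) : pp p g = x :=
  isPPart_unique Fact.out (pp_spec g) h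

theorem pp_mul {x y : G} (hx : ∃ k : ℕ, orderOf x = p ^ k) (hy : ¬ p ∣ orderOf y)
    (hc : Commute x y) : pp p (x * y) = x :=
  pp_eq ⟨y, rfl, hc, hx, hy⟩

theorem pp_conj (g h : G) : pp p (h * g * h⁻¹) = h * pp p g * h⁻¹ :=
  pp_eq (isPPart_conj (pp_spec g) h)

theorem pp_regular {g : G} (hg : ¬ p ∣ orderOf g) : pp p g = 1 :=
  pp_eq ⟨g, one_mul g, Commute.one_left g, ⟨0, by simp⟩, hg⟩

/-- The `p`-regular part of an element. -/
theorem regular_inv_pp_mul (g : G) :
    Commute (pp p g) ((pp p g)⁻¹ * g) ∧ ¬ p ∣ orderOf ((pp p g)⁻¹ * g) := by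
  obtain ⟨y, hxy, hc, -, hy⟩ := pp_spec (p := p) g
  have e : (pp p g)⁻¹ * g = y := inv_mul_eq_iff_eq_mul.mpr hxy.symm
  rw [e]
  exact ⟨hc, hy⟩

theorem orderOf_pow_of_mem (hP : IsPGroup p P) {x : G} (hx : x ∈ P) :
    ∃ k : ℕ, orderOf x = p ^ k := by
  obtain ⟨k, hk⟩ := IsPGroup.iff_orderOf.mp hP ⟨x, hx⟩
  exact ⟨k, by rwa [Subgroup.orderOf_mk] at hk⟩

section Sup

variable (hG : P ⊔ Subgroup.centralizer (P : Set G) = ⊤)

include hG

theorem normal_of_sup_centralizer : P.Normal := by
  rw [← Subgroup.normalizer_eq_top_iff, eq_top_iff, ← hG]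
  exact sup_le Subgroup.le_normalizer (Subgroup.centralizer_le_normalizer _)

theorem exists_mem_mul_centralizer (g : G) :
    ∃ a ∈ P, ∃ c ∈ Subgroup.centralizer (P : Set G), a * c = g := by
  have := normal_of_sup_centralizer hG
  have hg : g ∈ P ⊔ Subgroup.centralizer (P : Set G) := hG ▸ Subgroup.mem_top g
  exact Subgroup.mem_sup_of_normal_left.mp hg

theorem index_centralizer_pow (hP : IsPGroup p P) :
    ∃ k : ℕ, (Subgroup.centralizer (P : Set G)).index = p ^ k := by
  have := normal_of_sup_centralizer hG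
  set C := Subgroup.centralizer (P : Set G) with hC
  haveI : C.Normal := Subgroup.normal_centralizer
  have hsurj : Function.Surjective ((QuotientGroup.mk' C).comp P.subtype) := fun q => by
    obtain ⟨g, rfl⟩ := QuotientGroup.mk'_surjective C q
    obtain ⟨a, ha, c, hc, rfl⟩ := exists_mem_mul_centralizer hG g
    exact ⟨⟨a, ha⟩, QuotientGroup.eq.mpr (show a⁻¹ * (a * c) ∈ C by rwa [inv_mul_cancel_left])⟩
  obtain ⟨e, he⟩ := IsPGroup.iff_card.mp hP
  have h := Subgroup.card_dvd_of_surjective _ hsurj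
  rw [he] at h
  obtain ⟨k, -, hk⟩ := (Nat.dvd_prime_pow Fact.out).mp h
  exact ⟨k, by rw [Subgroup.index, hk]⟩

theorem commute_of_regular (hP : IsPGroup p P) {x y : G} (hx : x ∈ P)
    (hy : ¬ p ∣ orderOf y) : Commute x y := by
  have := normal_of_sup_centralizer hG
  exact Subgroup.mem_centralizer_iff.mp
    (regular_mem_centralizer (index_centralizer_pow hG hP) hy) x hx

/-- Conjugation by `G` on `P` is inner. -/
theorem extendByZero_conj {lam : P → ℂ} (hlam : IsClassFunction P lam) (x h : G) :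
    extendByZero P lam (h * x * h⁻¹) = extendByZero P lam x := by
  have := normal_of_sup_centralizer hG
  by_cases hx : x ∈ P
  · obtain ⟨a, ha, c, hc, rfl⟩ := exists_mem_mul_centralizer hG h
    have hcx : c * x = x * c := (Subgroup.mem_centralizer_iff.mp hc x hx).symm
    have e : a * c * x * (a * c)⁻¹ = a * x * a⁻¹ := by
      rw [mul_assoc a, hcx]; group
    rw [e, CharInd.extendByZero_mem _ hx,
      CharInd.extendByZero_mem _ (P.mul_mem (P.mul_mem ha hx) (P.inv_mem ha))]
    exact hlam ⟨x, hx⟩ ⟨a, ha⟩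
  · rw [CharInd.extendByZero_notMem _ hx, CharInd.extendByZero_notMem]
    intro hc
    have := Subgroup.Normal.conj_mem inferInstance _ hc h⁻¹
    rw [show h⁻¹ * (h * x * h⁻¹) * h⁻¹⁻¹ = x by group] at this
    exact hx this

end Sup

variable (p P) in
/-- The function `g ↦ lam (g_p) * θ g`, supported on the sections of `P`. -/
noncomputable def tens (lam : P → ℂ) (θ : G → ℂ) : G → ℂ :=
  fun g => extendByZero P lam (pp p g) * θ g

variable (p P) in
/-- `θ` has `P` in its kernel and is supported on the sections of `P`. -/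
structure IsPCore (θ : IrrCharacter G) : Prop where
  apply_mul : ∀ x y : G, x ∈ P → ¬ p ∣ orderOf y → Commute x y →
    (θ : G → ℂ) (x * y) = (θ : G → ℂ) y
  eq_zero : ∀ g : G, pp p g ∉ P → (θ : G → ℂ) g = 0

theorem tens_apply_mul (hP : IsPGroup p P) {θ : IrrCharacter G} (hθ : IsPCore p P θ)
    (lam : P → ℂ) (x : P) {y : G} (hy : ¬ p ∣ orderOf y) (hc : Commute (x : G) y) :
    tens p P lam (θ : G → ℂ) ((x : G) * y) = lam x * (θ : G → ℂ) y := by
  rw [tens, pp_mul (orderOf_pow_of_mem hP x.2) hy hc, CharInd.extendByZero_coe,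
    hθ.apply_mul _ _ x.2 hy hc]

theorem tens_eq_zero {g : G} (hg : pp p g ∉ P) (lam : P → ℂ) (θ : G → ℂ) :
    tens p P lam θ g = 0 := by
  rw [tens, CharInd.extendByZero_notMem _ hg, zero_mul]

theorem tens_one (hP : IsPGroup p P) {θ : IrrCharacter G} (hθ : IsPCore p P θ) :
    tens p P (fun _ => 1) (θ : G → ℂ) = θ := by
  funext g
  by_cases hg : pp p g ∈ P
  · obtain ⟨hc, hy⟩ := regular_inv_pp_mul (p := p) g
    have h1 := tens_apply_mul hP hθ (fun _ => (1 : ℂ)) ⟨_, hg⟩ hy hc
    have h2 := hθ.apply_mul _ _ hg hy hc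
    rw [one_mul] at h1
    rw [mul_inv_cancel_left] at h2
    simp only [mul_inv_cancel_left] at h1
    rw [h1, h2]
  · rw [tens_eq_zero hg, hθ.eq_zero g hg]

section Elementary

/-- On a nilpotent subgroup `tens` has integral inner products with characters. -/
theorem exists_classInner_tens (hP : IsPGroup p P) {θ : IrrCharacter G} (hθ : IsPCore p P θ)
    {lam : P → ℂ} (hlam : IsCharacter P lam) (E : Subgroup G) [Fintype E] [Group.IsNilpotent E]
    {α : E → ℂ} (hα : IsCharacter E α) :
    ∃ k : ℕ, classInner (fun e : E => tens p P lam (θ : G → ℂ) e) α = k := by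
  classical
  have := Fintype.ofFinite G
  obtain ⟨S₁, Q, hcard, hQ, hcomm⟩ := CharInd.exists_regular_subgroup (E := E) p
  obtain ⟨S, hS⟩ : ∃ S : Subgroup E, S = (S₁ : Subgroup E) := ⟨_, rfl⟩
  have hSp : IsPGroup p S := hS ▸ S₁.isPGroup'
  replace hcard : Nat.card S * Nat.card Q = Nat.card E := hS ▸ hcard
  replace hcomm : ∀ x ∈ Q, ∀ a ∈ S, a * x = x * a := hS ▸ hcomm
  have := Fintype.ofFinite S
  have := Fintype.ofFinite Q
  have hord : ∀ u : S, ∃ k : ℕ, orderOf (((u : E) : G)) = p ^ k := fun u => by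
    obtain ⟨k, hk⟩ := orderOf_pow_of_mem hSp u.2
    exact ⟨k, by rw [Subgroup.orderOf_coe, hk]⟩
  have hreg : ∀ v : Q, ¬ p ∣ orderOf (((v : E) : G)) := fun v => by
    rw [Subgroup.orderOf_coe]; exact (hQ _).mp v.2
  have hcG : ∀ (u : S) (v : Q), Commute ((u : E) : G) ((v : E) : G) := fun u v =>
    congrArg Subtype.val (hcomm v v.2 u u.2)
  let m : S × Q →* E :=
    { toFun := fun x => (x.1 : E) * x.2
      map_one' := by simp
      map_mul' := fun x y => by
        have h := hcomm x.2 x.2.2 y.1 y.1.2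
        simp only [Prod.fst_mul, Prod.snd_mul, Subgroup.coe_mul]
        rw [mul_assoc, ← mul_assoc (y.1 : E), h, mul_assoc, ← mul_assoc] }
  have hinj : Function.Injective m := by
    rintro ⟨u, v⟩ ⟨u', v'⟩ h
    have h1 := congrArg (fun e : E => pp p (e : G)) h
    simp only [m, MonoidHom.coe_mk, OneHom.coe_mk, Subgroup.coe_mul, pp_mul (hord u) (hreg v)
      (hcG u v), pp_mul (hord u') (hreg v') (hcG u' v')] at h1
    obtain rfl : u = u' := Subtype.ext (Subtype.ext h1)
    exact Prod.ext rfl (Subtype.ext (mul_left_cancel h))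
  have hbij : Function.Bijective m := by
    refine (Fintype.bijective_iff_injective_and_card m).mpr ⟨hinj, ?_⟩
    rw [Fintype.card_prod, ← Nat.card_eq_fintype_card, ← Nat.card_eq_fintype_card,
      ← Nat.card_eq_fintype_card]
    exact hcard
  set i : S →* G := E.subtype.comp S.subtype with hi
  set S₀ : Subgroup S := P.comap i with hS₀
  have := Fintype.ofFinite S₀
  set j : S₀ × Q →* E := m.comp (MonoidHom.prodMap S₀.subtype (MonoidHom.id Q)) with hj
  let i₀ : S₀ →* P := (i.comp S₀.subtype).codRestrict P (fun u => u.2)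
  -- sums over `E` of functions supported on the sections of `P`
  have hsum : ∀ (μ : P → ℂ) (β : E → ℂ),
      ∑ e : E, tens p P μ (θ : G → ℂ) (e : G) * β e =
        ∑ x : S₀ × Q, μ (i₀ x.1) * (θ : G → ℂ) ((x.2 : E) : G) * β (j x) := by
    intro μ β
    rw [← Fintype.sum_bijective m hbij (fun x => tens p P μ (θ : G → ℂ) (m x : G) * β (m x)) _
      (fun _ => rfl), Fintype.sum_prod_type, Fintype.sum_prod_type]
    rw [← Finset.sum_subset (Finset.subset_univ (Finset.univ.filter fun u => u ∈ S₀))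
      (fun u _ hu => Finset.sum_eq_zero fun v _ => by
        rw [tens_eq_zero, zero_mul]
        simp only [m, MonoidHom.coe_mk, OneHom.coe_mk, Subgroup.coe_mul,
          pp_mul (hord u) (hreg v) (hcG u v)]
        simpa [hS₀, hi] using hu),
      Finset.sum_subtype (p := fun u => u ∈ S₀) _ (fun u => by simp)]
    refine Finset.sum_congr rfl fun u _ => Finset.sum_congr rfl fun v _ => ?_
    rw [show ((m ((u : S), v) : E) : G) = (i₀ u : G) * ((v : E) : G) from rfl,
      tens_apply_mul hP hθ μ (i₀ u) (hreg v) (hcG u v)]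
    rfl
  set N := S₀.index with hN
  have hE : Nat.card E = N * Nat.card (S₀ × Q) := by
    rw [Nat.card_prod, ← mul_assoc, hN, Subgroup.index_mul_card]
    exact hcard.symm
  -- the multiplicities of the restriction to `Q` are divisible by `N`
  have hθQ := CharCore.isCharacter_restrict
    (CharCore.isCharacter_restrict (CharCore.irr_isCharacter θ) E) Q
  have hm : ∀ β : IrrCharacter Q,
      ∃ n : ℕ, classInner (fun v : Q => (θ : G → ℂ) ((v : E) : G)) (β : Q → ℂ) = (N : ℂ) * n := by
    intro β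
    set e := MulEquiv.ofBijective m hbij with he
    have hβ := CharCore.isCharacter_comp (CharCore.irr_isCharacter β)
      ((MonoidHom.snd S Q).comp e.symm.toMonoidHom)
    obtain ⟨n, hn⟩ := CharCore.IsCharacter.exists_classInner_eq_natCast
      (CharCore.isCharacter_restrict (CharCore.irr_isCharacter θ) E) hβ
    refine ⟨n, ?_⟩
    rw [← hn, classInner, classInner]
    have h1 := hsum (fun _ => 1)
      (fun x => conj ((β : Q → ℂ) (((MonoidHom.snd S Q).comp e.symm.toMonoidHom) x)))
    rw [tens_one hP hθ] at h1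
    rw [show (∑ x : E, (θ : G → ℂ) (x : G) * conj ((β : Q → ℂ)
      (((MonoidHom.snd S Q).comp e.symm.toMonoidHom) x))) = _ from h1,
      Fintype.sum_prod_type, hE, Nat.card_prod]
    have hsimp : ∀ (u : S₀) (v : Q),
        ((MonoidHom.snd S Q).comp e.symm.toMonoidHom) (j (u, v)) = v := fun u v => by
      have : e.symm (j (u, v)) = ((u : S), v) := e.symm_apply_apply (_, _)
      simp only [MonoidHom.comp_apply, MulEquiv.coe_toMonoidHom, this, MonoidHom.coe_snd]
    simp only [hsimp, one_mul, Finset.sum_const, Finset.card_univ, nsmul_eq_mul,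
      ← Nat.card_eq_fintype_card]
    have hS0 : (Nat.card S₀ : ℂ) ≠ 0 := Nat.cast_ne_zero.mpr Nat.card_pos.ne'
    have hN0 : (N : ℂ) ≠ 0 := Nat.cast_ne_zero.mpr Subgroup.FiniteIndex.index_ne_zero
    have hQ0 : (Nat.card Q : ℂ) ≠ 0 := Nat.cast_ne_zero.mpr Nat.card_pos.ne'
    push_cast
    field_simp
  choose n hn using hm
  letI := CharCore.fintypeIrrCharacter (G := Q)
  have hψ : IsCharacter Q (∑ β : IrrCharacter Q, (n β : ℂ) • (β : Q → ℂ)) :=
    CharCore.isCharacter_sum_irr n
  set ψ := ∑ β : IrrCharacter Q, (n β : ℂ) • (β : Q → ℂ) with hψdef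
  have hθψ : ∀ v : Q, (θ : G → ℂ) ((v : E) : G) = (N : ℂ) * ψ v := fun v => by
    have h := congrFun (CharCore.IsCharacter.eq_sum_classInner hθQ) v
    rw [h, hψdef, Finset.sum_apply, Finset.sum_apply, Finset.mul_sum]
    refine Finset.sum_congr rfl fun β _ => ?_
    simp only [Pi.smul_apply, smul_eq_mul]
    rw [hn β]; ring
  obtain ⟨k, hk⟩ := CharCore.IsCharacter.exists_classInner_eq_natCast
    (CharCore.isCharacter_mul
      (CharCore.isCharacter_comp hlam (i₀.comp (MonoidHom.fst S₀ Q)))
      (CharCore.isCharacter_comp hψ (MonoidHom.snd S₀ Q)))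
    (CharCore.isCharacter_comp hα j)
  refine ⟨k, ?_⟩
  rw [← hk, classInner, classInner, hsum lam (fun e => conj (α e)), hE]
  simp only [hθψ, Pi.mul_apply, MonoidHom.comp_apply, MonoidHom.coe_fst, MonoidHom.coe_snd,
    Finset.mul_sum, Nat.cast_mul]
  refine Finset.sum_congr rfl fun x _ => ?_
  have hN0 : (N : ℂ) ≠ 0 := Nat.cast_ne_zero.mpr Subgroup.FiniteIndex.index_ne_zero
  field_simp

end Elementary

section Block

variable (hP : IsPGroup p P) (hG : P ⊔ Subgroup.centralizer (P : Set G) = ⊤)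

include hP hG

theorem isGeneralizedCharacter_tens {θ : IrrCharacter G} (hθ : IsPCore p P θ)
    {lam : P → ℂ} (hlam : IsCharacter P lam) :
    IsGeneralizedCharacter G (tens p P lam (θ : G → ℂ)) := by
  have := Fintype.ofFinite G
  have hcl : IsClassFunction G (tens p P lam (θ : G → ℂ)) := fun g h => by
    rw [tens, tens, pp_conj,
      extendByZero_conj hG (CharCore.IsCharacter.isClassFunction hlam), irr_class θ g h]
  refine CharInd.isGeneralizedCharacter_of_elementary hcl fun E q hq hel => ?_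
  have := Fintype.ofFinite E
  haveI := CharInd.isNilpotent_of_isElementary hq hel
  rw [CharCore.isGeneralizedCharacter_iff]
  refine ⟨fun a b => hcl a b, fun α => ?_⟩
  obtain ⟨k, hk⟩ := exists_classInner_tens hP hθ hlam E (CharCore.irr_isCharacter α)
  exact ⟨k, by rw [hk, Int.cast_natCast]⟩

/-- Sums of functions supported on the sections of `P`. -/
theorem sum_sections [Fintype G] [Fintype P] [Fintype {y : G // ¬ p ∣ orderOf y}] {F : G → ℂ}
    (hF : ∀ g, pp p g ∉ P → F g = 0) :
    ∑ g, F g = ∑ x : P, ∑ y : {y : G // ¬ p ∣ orderOf y}, F ((x : G) * y) := by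
  classical
  rw [← Fintype.sum_prod_type (fun q : P × {y : G // ¬ p ∣ orderOf y} => F ((q.1 : G) * q.2))]
  rw [← Finset.sum_subset (Finset.subset_univ (Finset.univ.filter fun g => pp p g ∈ P))
    (fun g _ hg => hF g (by simpa using hg))]
  refine (Finset.sum_bij (fun q _ => (q.1 : G) * (q.2 : G)) ?_ ?_ ?_ fun _ _ => rfl).symm
  · intro q _
    simp only [Finset.mem_filter, Finset.mem_univ, true_and]
    rw [pp_mul (orderOf_pow_of_mem hP q.1.2) q.2.2 (commute_of_regular hG hP q.1.2 q.2.2)]
    exact q.1.2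
  · intro q _ q' _ h
    have h1 := congrArg (pp p) h
    simp only [pp_mul (orderOf_pow_of_mem hP q.1.2) q.2.2 (commute_of_regular hG hP q.1.2 q.2.2),
      pp_mul (orderOf_pow_of_mem hP q'.1.2) q'.2.2
        (commute_of_regular hG hP q'.1.2 q'.2.2)] at h1
    rw [h1] at h
    exact Prod.ext (Subtype.ext h1) (Subtype.ext (mul_left_cancel h))
  · intro g hg
    exact ⟨(⟨pp p g, (Finset.mem_filter.mp hg).2⟩, ⟨_, (regular_inv_pp_mul g).2⟩),
      Finset.mem_univ _, mul_inv_cancel_left _ g⟩

variable [Fintype G] [Fintype P] [Fintype {y : G // ¬ p ∣ orderOf y}]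
  {θ : IrrCharacter G} (hθ : IsPCore p P θ)

include hθ

theorem card_mul_regular_norm :
    (Nat.card P : ℂ) * ∑ y : {y : G // ¬ p ∣ orderOf y}, (θ : G → ℂ) y * conj ((θ : G → ℂ) y) =
      Nat.card G := by
  have h := CharCore.classInner_irr_self θ
  rw [classInner, sum_sections hP hG (fun g hg => by rw [hθ.eq_zero g hg, zero_mul]),
    inv_mul_eq_iff_eq_mul₀ (Nat.cast_ne_zero.mpr Nat.card_pos.ne'), mul_one] at h
  rw [← h]
  have : ∀ x : P, ∀ y : {y : G // ¬ p ∣ orderOf y}, (θ : G → ℂ) ((x : G) * y) = (θ : G → ℂ) y :=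
    fun x y => hθ.apply_mul _ _ x.2 y.2 (commute_of_regular hG hP x.2 y.2)
  simp only [this, Finset.sum_const, Finset.card_univ, nsmul_eq_mul, ← Nat.card_eq_fintype_card]

theorem classInner_tens (lam μ : P → ℂ) :
    classInner (tens p P lam (θ : G → ℂ)) (tens p P μ (θ : G → ℂ)) = classInner lam μ := by
  have hS := card_mul_regular_norm hP hG hθ
  set S := ∑ y : {y : G // ¬ p ∣ orderOf y}, (θ : G → ℂ) y * conj ((θ : G → ℂ) y)
  have e : ∀ x : P, ∀ y : {y : G // ¬ p ∣ orderOf y},
      tens p P lam (θ : G → ℂ) ((x : G) * y) * conj (tens p P μ (θ : G → ℂ) ((x : G) * y)) =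
        (lam x * conj (μ x)) * ((θ : G → ℂ) y * conj ((θ : G → ℂ) y)) := fun x y => by
    rw [tens_apply_mul hP hθ lam x y.2 (commute_of_regular hG hP x.2 y.2),
      tens_apply_mul hP hθ μ x y.2 (commute_of_regular hG hP x.2 y.2), map_mul]
    ring
  rw [classInner, classInner, sum_sections hP hG (fun g hg => by rw [tens_eq_zero hg, zero_mul]),
    Finset.sum_congr rfl fun x _ => Finset.sum_congr rfl fun y _ => e x y]
  simp only [← Finset.mul_sum, ← Finset.sum_mul]
  rw [← hS]
  have hP0 : (Nat.card P : ℂ) ≠ 0 := Nat.cast_ne_zero.mpr Nat.card_pos.ne'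
  have hS0 : S ≠ 0 := fun h0 => by
    rw [h0, mul_zero] at hS
    exact Nat.cast_ne_zero.mpr (Nat.card_pos (α := G)).ne' hS.symm
  field_simp
  exact mul_comm _ _

theorem isIrrCharacter_tens (lam : IrrCharacter P) :
    IsIrrCharacter G (tens p P (lam : P → ℂ) (θ : G → ℂ)) := by
  refine CharCore.IsGeneralizedCharacter.isIrr_of_norm_one
    (isGeneralizedCharacter_tens hP hG hθ (CharCore.irr_isCharacter lam)) ?_ ?_
  · rw [classInner_tens hP hG hθ, CharCore.classInner_irr_self]
  · have h := tens_apply_mul hP hθ (lam : P → ℂ) 1 (y := (1 : G))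
      (by rw [orderOf_one]; exact (Fact.out : p.Prime).not_dvd_one) (Commute.one_right _)
    rw [mul_one, OneMemClass.coe_one] at h
    rw [h, irr_one_eq, irr_one_eq, ← Nat.cast_mul, Complex.natCast_re]
    exact_mod_cast Nat.mul_pos (charDegree_pos lam) (charDegree_pos θ)

end Block

/-- The blocks of `P · C(P)` with defect group `P`. -/
theorem localBlock (hM : IsPModular p M) (hP : IsPGroup p P)
    (hG : P ⊔ Subgroup.centralizer (P : Set G) = ⊤) {B : Set (IrrCharacter G)}
    (hB : IsPBlock M B) (hD : IsDefectGroup p M B P) :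
    ∃ θ ∈ B, (∀ x ∈ P, ((θ : IrrCharacter G) : G → ℂ) x = (θ : G → ℂ) 1) ∧
      IsPCore p P θ ∧ blockHeight p B (θ : G → ℂ) = 0 ∧
      (charDegree (θ : G → ℂ)).factorization p = P.index.factorization p ∧
      ∀ θ' ∈ B, (∀ x ∈ P, ((θ' : IrrCharacter G) : G → ℂ) x = (θ' : G → ℂ) 1) → θ' = θ := by
  classical
  have := isPrime hM
  have := Fintype.ofFinite G
  have := normal_of_sup_centralizer hG
  have := Fintype.ofFinite (G ⧸ P)
  obtain ⟨θ, hθB, hθk⟩ := exists_mem_kernel_pSubgroup hM hB P hP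
  obtain ⟨φ, hφ⟩ := exists_inflate_eq P θ hθk
  have hval : ∀ g : G, (θ : G → ℂ) g = (φ : G ⧸ P → ℂ) (QuotientGroup.mk g) := fun g => by
    rw [← hφ]; rfl
  have hdeg : charDegree (θ : G → ℂ) = charDegree (φ : G ⧸ P → ℂ) := by
    simp only [charDegree, hval, QuotientGroup.mk_one]
  have hdvd := charDegree_dvd_card φ
  rw [← hdeg, show Nat.card (G ⧸ P) = P.index from rfl] at hdvd
  have hle : (charDegree (θ : G → ℂ)).factorization p ≤ P.index.factorization p :=
    (Nat.factorization_le_iff_dvd (charDegree_pos θ).ne'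
      Subgroup.FiniteIndex.index_ne_zero).mpr hdvd p
  have hcard := defectGroup_natCard hM hB hD
  have hsum : blockDefect p B + P.index.factorization p = (Nat.card G).factorization p := by
    rw [← Subgroup.card_mul_index P, hcard, Nat.factorization_mul
      (pow_ne_zero _ (Fact.out : p.Prime).ne_zero) Subgroup.FiniteIndex.index_ne_zero,
      Finsupp.add_apply, Nat.Prime.factorization_pow Fact.out, Finsupp.single_eq_same]
  have hinf : sInf ((fun χ : IrrCharacter G => (charDegree (χ : G → ℂ)).factorization p) '' B) ≤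
      (charDegree (θ : G → ℂ)).factorization p := Nat.sInf_le ⟨θ, hθB, rfl⟩
  have heq : (charDegree (θ : G → ℂ)).factorization p = P.index.factorization p := by
    unfold blockDefect at hsum; omega
  have hh0 : blockHeight p B (θ : G → ℂ) = 0 := by
    unfold blockDefect at hsum; unfold blockHeight; omega
  have hφ0 : ¬ p ∣ Nat.card (G ⧸ P) / charDegree (φ : G ⧸ P → ℂ) := by
    rw [← hdeg, show Nat.card (G ⧸ P) = P.index from rfl]
    intro hc
    have hne : P.index / charDegree (θ : G → ℂ) ≠ 0 :=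
      (Nat.div_pos (Nat.le_of_dvd (Nat.pos_of_ne_zero Subgroup.FiniteIndex.index_ne_zero) hdvd)
        (charDegree_pos θ)).ne'
    have h1 := Nat.Prime.factorization_pos_of_dvd Fact.out hne hc
    rw [Nat.factorization_div hdvd, Finsupp.tsub_apply, heq, Nat.sub_self] at h1
    exact lt_irrefl 0 h1
  have hone := blockOf_eq_singleton_of_not_dvd hM φ hφ0
  refine ⟨θ, hθB, hθk, ⟨fun x y hx _ _ => ?_, fun g hg => ?_⟩, hh0, heq, fun θ' hθ' hk' => ?_⟩
  · rw [hval, hval, QuotientGroup.mk_mul, (QuotientGroup.eq_one_iff x).mpr hx, one_mul]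
  · rw [hval]
    refine eq_zero_of_blockOf_eq_singleton hM φ hone ?_
    obtain ⟨y, hxy, hc, ⟨k, hk⟩, hy⟩ := pp_spec (p := p) g
    set π := QuotientGroup.mk' P with hπ
    obtain ⟨i, -, hi⟩ := (Nat.dvd_prime_pow Fact.out).mp (hk ▸ orderOf_map_dvd π (pp p g))
    have hi0 : i ≠ 0 := by
      rintro rfl
      rw [pow_zero, orderOf_eq_one_iff, hπ, QuotientGroup.mk'_apply, QuotientGroup.eq_one_iff] at hi
      exact hg hi
    have hcop : Nat.Coprime (orderOf (π (pp p g))) (orderOf (π y)) := by
      rw [hi]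
      exact Nat.Coprime.pow_left i ((Fact.out : p.Prime).coprime_iff_not_dvd.mpr
        fun h => hy (h.trans (orderOf_map_dvd π y)))
    show p ∣ orderOf (π g)
    conv_rhs => rw [← hxy, map_mul, (hc.map π).orderOf_mul_eq_mul_orderOf_of_coprime hcop, hi]
    exact Dvd.dvd.mul_right (dvd_pow_self p hi0) _
  · obtain ⟨φ', hφ'⟩ := exists_inflate_eq P θ' hk'
    have hsame : SameBlock M (φ : G ⧸ P → ℂ) (φ' : G ⧸ P → ℂ) :=
      sameBlock_of_inflate_pGroup hM hP (index_centralizer_pow hG hP)
        (by rw [hφ, hφ']; exact sameBlock_of_mem hB hθB hθ')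
    have : φ' ∈ blockOf M (φ : G ⧸ P → ℂ) := hsame
    rw [hone, Set.mem_singleton_iff] at this
    rw [← hφ, ← hφ', this]

/-- The lifts of the characters of `P` lie in the block of `θ`. -/
theorem tens_mem [Fintype G] [Fintype P] [Fintype {y : G // ¬ p ∣ orderOf y}] (hM : IsPModular p M) (hP : IsPGroup p P)
    (hG : P ⊔ Subgroup.centralizer (P : Set G) = ⊤) {B : Set (IrrCharacter G)}
    (hB : IsPBlock M B) {θ : IrrCharacter G} (hθB : θ ∈ B) (hθ : IsPCore p P θ)
    (lam : IrrCharacter P) :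
    (⟨_, isIrrCharacter_tens hP hG hθ lam⟩ : IrrCharacter G) ∈ B := by
  classical
  have := isPrime hM
  have hs : SameBlock M ((⟨_, isIrrCharacter_tens hP hG hθ lam⟩ : IrrCharacter G) : G → ℂ) (θ : G → ℂ) := by
    by_contra hns
    have h0 := sum_pRegular_mul_conj hM (⟨_, isIrrCharacter_tens hP hG hθ lam⟩ : IrrCharacter G) θ hns
    rw [finsum_mem_def, finsum_eq_sum_of_fintype] at h0
    have h1 : ∑ y : {y : G // ¬ p ∣ orderOf y}, ((⟨_, isIrrCharacter_tens hP hG hθ lam⟩ : IrrCharacter G) : G → ℂ) y * conj ((θ : G → ℂ) y) = 0 := by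
      rw [← h0, ← Finset.sum_subtype (p := fun y : G => ¬ p ∣ orderOf y)
        (Finset.univ.filter fun y : G => ¬ p ∣ orderOf y) (fun y => by simp)
        (fun y : G => ((⟨_, isIrrCharacter_tens hP hG hθ lam⟩ : IrrCharacter G) : G → ℂ) y * conj ((θ : G → ℂ) y)), Finset.sum_filter]
      exact Finset.sum_congr rfl fun y _ => by simp [Set.indicator_apply]
    have h2 : ∀ y : {y : G // ¬ p ∣ orderOf y},
        tens p P (lam : P → ℂ) (θ : G → ℂ) y = (lam : P → ℂ) 1 * (θ : G → ℂ) y := fun y => by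
      simpa using tens_apply_mul hP hθ (lam : P → ℂ) 1 y.2 (Commute.one_left (y : G))
    simp only [h2, mul_assoc, ← Finset.mul_sum] at h1
    have h3 := card_mul_regular_norm hP hG hθ
    rw [(mul_eq_zero.mp h1).resolve_left (irr_one_ne_zero lam), mul_zero] at h3
    exact Nat.cast_ne_zero.mpr (Nat.card_pos (α := G)).ne' h3.symm
  rw [isPBlock_eq_blockOf hB hθB]
  exact sameBlock_symm hs

/-- A block of `P · C(P)` with defect group `P` has as many members as `P` has classes. -/
theorem natCard_localBlock (hM : IsPModular p M) (hP : IsPGroup p P)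
    (hG : P ⊔ Subgroup.centralizer (P : Set G) = ⊤) {B : Set (IrrCharacter G)}
    (hB : IsPBlock M B) (hD : IsDefectGroup p M B P) :
    Nat.card B = Nat.card (ConjClasses P) := by
  classical
  have := isPrime hM
  have := Fintype.ofFinite G
  have := Fintype.ofFinite P
  have := Fintype.ofFinite {y : G // ¬ p ∣ orderOf y}
  obtain ⟨θ, hθB, -, hθ, hh0, -, -⟩ := localBlock hM hP hG hB hD
  let T : IrrCharacter P → IrrCharacter G := fun lam => ⟨_, isIrrCharacter_tens hP hG hθ lam⟩
  have hT : ∀ (lam : IrrCharacter P) (x : P) (y : G), ¬ p ∣ orderOf y →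
      (T lam : G → ℂ) ((x : G) * y) = (lam : P → ℂ) x * (θ : G → ℂ) y := fun lam x y hy =>
    tens_apply_mul hP hθ _ x hy (commute_of_regular hG hP x.2 hy)
  have hTB : ∀ lam, T lam ∈ B := fun lam => tens_mem hM hP hG hB hθB hθ lam
  have hinj : Function.Injective fun lam => (⟨T lam, hTB lam⟩ : B) := by
    intro lam μ h
    have e : T lam = T μ := congrArg Subtype.val h
    by_contra hne
    have h1 := CharCore.classInner_irr_of_ne hne
    rw [← classInner_tens hP hG hθ] at h1
    exact one_ne_zero (α := ℂ) (((CharCore.classInner_irr_self (T μ)).symm.trans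
      (by rw [show (T μ : G → ℂ) = tens p P (μ : P → ℂ) θ from rfl])).trans
      ((congrArg (fun f => classInner f (T μ : G → ℂ)) (congrArg Subtype.val e)).symm.trans h1))
  rw [← CharCore.card_irr]
  refine (Nat.card_eq_of_bijective _ ⟨hinj, fun ⟨χ, hχ⟩ => ?_⟩).symm
  by_contra hno
  push Not at hno
  set F : P → ℂ := fun x =>
    ∑ y : {y : G // ¬ p ∣ orderOf y}, (χ : G → ℂ) ((x : G) * y) * conj ((θ : G → ℂ) y) with hFdef
  have hF : IsClassFunction P F := by
    intro x u
    refine Finset.sum_congr rfl fun y _ => ?_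
    have hc := commute_of_regular hG hP u.2 y.2
    rw [show (((u * x * u⁻¹ : P)) : G) * y = (u : G) * ((x : G) * y) * (u : G)⁻¹ by
      rw [Subgroup.coe_mul, Subgroup.coe_mul, Subgroup.coe_inv]
      simp only [mul_assoc, hc.inv_left.eq], irr_class χ]
  have hF0 : F = 0 := CharCore.eq_zero_of_classInner_irr_eq_zero hF fun lam => by
    have hne : χ ≠ T lam := fun e => hno lam (Subtype.ext e.symm)
    have h := CharCore.classInner_irr_of_ne hne
    rw [classInner, sum_sections hP hG
      (fun g hg => by rw [show (T lam : G → ℂ) g = 0 from tens_eq_zero hg _ _, map_zero, mul_zero]),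
      mul_eq_zero] at h
    have h' := h.resolve_left (inv_ne_zero (Nat.cast_ne_zero.mpr Nat.card_pos.ne'))
    rw [classInner, mul_eq_zero]
    refine Or.inr ?_
    rw [← h']
    refine Finset.sum_congr rfl fun x _ => ?_
    rw [hFdef, Finset.sum_mul]
    refine Finset.sum_congr rfl fun y _ => ?_
    rw [hT lam x y y.2, map_mul]
    ring
  have hu := (regPair_unit_iff hM hB hχ hθB).mpr hh0
  refine hu ?_
  have h1 : F 1 = 0 := congrFun hF0 1
  have h2 : regPair p (χ : G → ℂ) θ = F 1 / (χ : G → ℂ) 1 := by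
    rw [regPair, omega_eq_sum]
    congr 1
    rw [hFdef, ← Finset.sum_subset (Finset.subset_univ
      (Finset.univ.filter fun g => ¬ p ∣ orderOf g))
      (fun g _ hg => by simp [regInv, show p ∣ orderOf g by simpa using hg]),
      Finset.sum_subtype (p := fun g => ¬ p ∣ orderOf g) _ (fun g => by simp)]
    refine Finset.sum_congr rfl fun y _ => ?_
    rw [OneMemClass.coe_one, one_mul, regInv, if_neg y.2, conj_irr, mul_comm]
  rw [h2, h1, zero_div]
  exact memLocalIdeal_zero

end Cfsg.Agent.BlocksDefect
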