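import Cfsg.Agent.Lib.BlocksDefect.Kernel
import Cfsg.Agent.Lib.BlocksCore.SecondBlock
import Cfsg.Agent.Lib.BlocksCore.Brauer
import Cfsg.Agent.Lib.CharClifford.Central

/-!
# The principal block on a `p`-section

By the second and third main theorems the values of the members of the principal block on the
section of a `p`-element `z` only involve the principal block of the centralizer of `z`.
-/

namespace Cfsg.Agent.BlocksDefect

open BlocksCore

open scoped ComplexConjugate

variable {G : Type*} [Group G] [Finite G] {p : ℕ} [Fact p.Prime] {M : Ideal AlgInt}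

variable (G) in
/-- The principal character. -/
noncomputable def oneIrr : IrrCharacter G := ⟨fun _ => 1, CharCore.isIrrCharacter_one⟩

omit [Finite G] in
theorem coe_oneIrr : (oneIrr G : G → ℂ) = fun _ => 1 := rfl

omit [Finite G] in
theorem principalBlock_def : principalBlock M G = blockOf M (oneIrr G : G → ℂ) := rfl

omit [Finite G] [Fact p.Prime] in
theorem blockHeight_one (B : Set (IrrCharacter G)) :
    blockHeight p B (oneIrr G : G → ℂ) = 0 := by
  simp [coe_oneIrr, blockHeight, charDegree]

omit [Finite G] in
theorem isPBlock_principal : IsPBlock M (principalBlock M G) := ⟨oneIrr G, rfl⟩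

omit [Fact p.Prime] in
theorem oneIrr_mem [M.IsPrime] : oneIrr G ∈ principalBlock M G := mem_blockOf_self (oneIrr G)

/-- A block inducing the principal block is the principal block. -/
theorem eq_principal_of_induced (hM : IsPModular p M) {H : Subgroup G}
    {b : Set (IrrCharacter H)} (h : IsInducedBlock M H b (principalBlock M G)) :
    b = principalBlock M H := by
  have := isPrime hM
  have := Fintype.ofFinite G
  have e : (fun x : H => (oneIrr G : G → ℂ) x) = (oneIrr H : H → ℂ) := by
    simp only [coe_oneIrr]
  have h1 := eq_blockOf_res (p := p) hM h (χ := oneIrr G) (oneIrr_mem (M := M))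
    (blockHeight_one _) (e ▸ (oneIrr H).2)
  rw [h1, principalBlock_def, e]

/-- Only the principal block is induced by the principal block. -/
theorem eq_principal_of_inducing (hM : IsPModular p M) {H : Subgroup G}
    {B : Set (IrrCharacter G)} (h : IsInducedBlock M H (principalBlock M H) B) :
    B = principalBlock M G := by
  have := isPrime hM
  have := Fintype.ofFinite G
  have e : (fun x : H => (oneIrr G : G → ℂ) x) = (oneIrr H : H → ℂ) := by
    simp only [coe_oneIrr]
  have hres : IsIrrCharacter H (fun x : H => (oneIrr G : G → ℂ) x) := e ▸ (oneIrr H).2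
  have he : (⟨_, hres⟩ : IrrCharacter H) = oneIrr H := Subtype.ext e
  obtain ⟨h1, -⟩ := mem_of_res_mem (p := p) hM h (oneIrr G) hres
    (he ▸ oneIrr_mem (M := M)) (by rw [e]; exact blockHeight_one _)
  rw [principalBlock_def]
  exact isPBlock_eq_blockOf h.2.1 h1

theorem centralizer_le_normalizer_zpowers (z : G) :
    Subgroup.centralizer ({z} : Set G) ≤
      Subgroup.normalizer ((Subgroup.zpowers z : Subgroup G) : Set G) := by
  have := Fintype.ofFinite G
  intro h hh
  rw [← BlocksCore.centralizer_zpowers] at hh
  rw [Subgroup.mem_normalizer_iff]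
  intro u
  constructor
  · intro hu
    rwa [← Subgroup.mem_centralizer_iff.mp hh u hu, mul_inv_cancel_right]
  · intro hu
    have e := Subgroup.mem_centralizer_iff.mp hh _ hu
    rw [show h * u * h⁻¹ * h = h * u by group] at e
    rw [mul_left_cancel e]
    exact hu

omit [Finite G] [Fact p.Prime] in
theorem natCard_centralizer_of_isConj {x x' : G} (h : IsConj x x') :
    Nat.card (Subgroup.centralizer ({x} : Set G)) =
      Nat.card (Subgroup.centralizer ({x'} : Set G)) := by
  obtain ⟨g, rfl⟩ := isConj_iff.mp h
  refine Nat.card_congr ((MulAut.conj g).toEquiv.subtypeEquiv fun u => ?_)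
  show u ∈ Subgroup.centralizer ({x} : Set G) ↔
    g * u * g⁻¹ ∈ Subgroup.centralizer ({g * x * g⁻¹} : Set G)
  simp only [Subgroup.mem_centralizer_singleton_iff]
  constructor
  · intro q
    calc g * u * g⁻¹ * (g * x * g⁻¹) = g * (u * x) * g⁻¹ := by group
      _ = g * (x * u) * g⁻¹ := by rw [q]
      _ = _ := by group
  · intro q
    calc u * x = g⁻¹ * (g * u * g⁻¹ * (g * x * g⁻¹)) * g := by group
      _ = g⁻¹ * (g * x * g⁻¹ * (g * u * g⁻¹)) * g := by rw [q]
      _ = x * u := by group

variable {z : G} {k : ℕ}

/-- A block of the centralizer annihilates members of blocks it does not induce. -/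
theorem sum_blockCoeff_section_eq_zero (hM : IsPModular p M) (hz : orderOf z = p ^ k)
    [Fintype (Subgroup.centralizer ({z} : Set G))]
    {b : Set (IrrCharacter (Subgroup.centralizer ({z} : Set G)))} (hb : IsPBlock M b)
    {χ : IrrCharacter G}
    (hnot : ¬ IsInducedBlock M (Subgroup.centralizer ({z} : Set G)) b (blockOf M (χ : G → ℂ)))
    (y : Subgroup.centralizer ({z} : Set G)) (hy : ¬ p ∣ orderOf y) :
    ∑ c : Subgroup.centralizer ({z} : Set G),
      blockCoeff b c * (χ : G → ℂ) ((c : G) * (z * (y : G))) = 0 := by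
  have := isPrime hM
  have := Fintype.ofFinite G
  have hzH : z ∈ Subgroup.centralizer ({z} : Set G) :=
    Subgroup.mem_centralizer_singleton_iff.mpr rfl
  obtain ⟨B₀, hB₀⟩ := inducedBlockDefined hM (isPGroup_zpowers (p := p) hz)
    (Subgroup.zpowers_le.mpr hzH) (by rw [BlocksCore.centralizer_zpowers])
    (centralizer_le_normalizer_zpowers z) hb
  have hz' : IsPPart p ((⟨z, hzH⟩ * y : Subgroup.centralizer ({z} : Set G)) : G) z :=
    ⟨(y : G), rfl, (Subgroup.mem_centralizer_singleton_iff.mp y.2).symm, ⟨k, hz⟩,
      by rwa [Subgroup.orderOf_coe]⟩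
  refine sum_blockCoeff_mul_eq_zero hM hb (isPBlock_blockOf χ) (⟨z, hzH⟩ * y) hz' le_rfl
    (fun η hη => ?_) (mem_blockOf_self χ)
  obtain ⟨ζ, hζ⟩ := isPBlock_nonempty hB₀.2.1
  have h1 := omega_induced hM hB₀ hη hζ (isIntClassFun_blockCoeff hM (isPBlock_blockOf χ))
  rw [omega_blockCoeff, Set.indicator_of_notMem, sub_zero] at h1
  · exact h1
  · exact fun hc => hnot (isPBlock_eq_of_mem hB₀.2.1 (isPBlock_blockOf χ) hζ hc ▸ hB₀)

omit [Fact p.Prime] in
theorem isClassFunction_translate (χ : IrrCharacter G) (z : G) :
    IsClassFunction (Subgroup.centralizer ({z} : Set G))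
      (fun c : Subgroup.centralizer ({z} : Set G) => (χ : G → ℂ) (z * (c : G))) := by
  have := Fintype.ofFinite G
  intro c d
  show (χ : G → ℂ) _ = (χ : G → ℂ) _
  rw [← irr_class χ (z * (c : G)) (d : G)]
  refine congrArg (χ : G → ℂ) ?_
  push_cast
  rw [← mul_assoc (d : G) z, Subgroup.mem_centralizer_singleton_iff.mp d.2]
  group

/-- The members of the principal block restricted to a section, through the principal block of
the centralizer. -/
theorem principal_apply_section (hM : IsPModular p M) (hz : orderOf z = p ^ k)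
    [Fintype (Subgroup.centralizer ({z} : Set G))]
    {χ : IrrCharacter G} (hχ : χ ∈ principalBlock M G)
    (y : Subgroup.centralizer ({z} : Set G)) (hy : ¬ p ∣ orderOf y) :
    ∑ c : Subgroup.centralizer ({z} : Set G),
      blockCoeff (principalBlock M (Subgroup.centralizer ({z} : Set G))) c *
        (χ : G → ℂ) ((c : G) * (z * (y : G))) = (χ : G → ℂ) (z * (y : G)) := by
  classical
  have := isPrime hM
  have := Fintype.ofFinite G
  set f : (Subgroup.centralizer ({z} : Set G)) → ℂ := fun c => (χ : G → ℂ) (z * (c : G)) with hf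
  have hfc : IsClassFunction (Subgroup.centralizer ({z} : Set G)) f := isClassFunction_translate χ z
  have hT : ∀ b : Set (IrrCharacter (Subgroup.centralizer ({z} : Set G))), ∑ c : (Subgroup.centralizer ({z} : Set G)), blockCoeff b c *
      (χ : G → ℂ) ((c : G) * (z * (y : G))) = ∑ c : (Subgroup.centralizer ({z} : Set G)), blockCoeff b c * f (c * y) := fun b =>
    Finset.sum_congr rfl fun c _ => by
      rw [hf]
      show _ * (χ : G → ℂ) ((c : G) * (z * (y : G))) =
        _ * (χ : G → ℂ) (z * ((c * y : (Subgroup.centralizer ({z} : Set G))) : G))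
      rw [Subgroup.coe_mul, ← mul_assoc, ← mul_assoc,
        Subgroup.mem_centralizer_singleton_iff.mp c.2]
  have hzero : ∀ b : Set (IrrCharacter (Subgroup.centralizer ({z} : Set G))), IsPBlock M b → b ≠ principalBlock M (Subgroup.centralizer ({z} : Set G)) →
      blockPart b f y = 0 := by
    intro b hb hne
    rw [blockPart_eq_sum_blockCoeff b hfc, ← hT]
    refine sum_blockCoeff_section_eq_zero hM hz hb (fun hc => hne ?_) y hy
    refine eq_principal_of_induced hM ?_
    rwa [← blockOf_eq_of_sameBlock (M := M) hχ] at hc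
  rw [hT, ← blockPart_eq_sum_blockCoeff _ hfc]
  have hexp := congrFun (CharCore.eq_sum_classInner hfc) y
  simp only [Finset.sum_apply, Pi.smul_apply, smul_eq_mul] at hexp
  have hpart : ∀ b : Set (IrrCharacter (Subgroup.centralizer ({z} : Set G))), blockPart b f y =
      ∑ θ : IrrCharacter (Subgroup.centralizer ({z} : Set G)), if θ ∈ b then classInner f θ * (θ : (Subgroup.centralizer ({z} : Set G)) → ℂ) y else 0 := fun b => by
    rw [blockPart, finsum_mem_def, finsum_eq_sum_of_fintype]
    refine Finset.sum_congr rfl fun θ _ => ?_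
    by_cases hθ : θ ∈ b
    · rw [Set.indicator_of_mem hθ, if_pos hθ]
      congr!
    · rw [Set.indicator_of_notMem hθ, if_neg hθ]
  show blockPart (principalBlock M (Subgroup.centralizer ({z} : Set G))) f y = f y
  rw [hexp, hpart, ← Finset.sum_fiberwise Finset.univ
    (fun θ : IrrCharacter (Subgroup.centralizer ({z} : Set G)) => blockOf M (θ : (Subgroup.centralizer ({z} : Set G)) → ℂ)) (fun θ => classInner f θ * (θ : (Subgroup.centralizer ({z} : Set G)) → ℂ) y),
    Finset.sum_eq_single (principalBlock M (Subgroup.centralizer ({z} : Set G)))]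
  · rw [Finset.sum_filter]
    refine Finset.sum_congr rfl fun θ _ => ?_
    refine if_congr ⟨fun h => ?_, fun h => h ▸ mem_blockOf_self θ⟩ rfl rfl
    exact (isPBlock_eq_blockOf isPBlock_principal h).symm
  · intro b _ hne
    by_cases hb : IsPBlock M b
    · refine Eq.trans ?_ (hzero b hb hne)
      rw [Finset.sum_filter, hpart]
      refine Finset.sum_congr rfl fun θ _ => ?_
      refine if_congr ⟨fun h => h ▸ mem_blockOf_self θ, fun h => ?_⟩ rfl rfl
      exact (isPBlock_eq_blockOf hb h).symm
    · refine Finset.sum_eq_zero fun θ hθ => ?_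
      exact absurd ((Finset.mem_filter.mp hθ).2 ▸ isPBlock_blockOf θ) hb
  · simp

set_option maxHeartbeats 1000000 in
/-- Brauer: the norm of a `p`-section of the principal block. -/
theorem sum_principal_section_norm (hM : IsPModular p M) (hz : orderOf z = p ^ k)
    [Fintype G] [Fintype (Subgroup.centralizer ({z} : Set G))]
    (y : Subgroup.centralizer ({z} : Set G)) (hy : ¬ p ∣ orderOf y) :
    ∑ χ : IrrCharacter G, (principalBlock M G).indicator
        (fun χ => (χ : G → ℂ) (z * (y : G)) * (χ : G → ℂ) (z * (y : G))⁻¹) χ =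
      ∑ η : IrrCharacter (Subgroup.centralizer ({z} : Set G)),
        (principalBlock M (Subgroup.centralizer ({z} : Set G))).indicator
          (fun η => (η : Subgroup.centralizer ({z} : Set G) → ℂ) y *
            (η : Subgroup.centralizer ({z} : Set G) → ℂ) y⁻¹) η := by
  classical
  have := isPrime hM
  have hzH : z ∈ (Subgroup.centralizer ({z} : Set G)) := Subgroup.mem_centralizer_singleton_iff.mpr rfl
  set zH : (Subgroup.centralizer ({z} : Set G)) := ⟨z, hzH⟩ with hzHdef
  set h : (Subgroup.centralizer ({z} : Set G)) := zH * y with hh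
  set b₀ := principalBlock M (Subgroup.centralizer ({z} : Set G)) with hb₀def
  set a := blockCoeff b₀ with ha
  have hb₀ : IsPBlock M b₀ := isPBlock_principal
  have hyz : (y : G) * z = z * y := Subgroup.mem_centralizer_singleton_iff.mp y.2
  have hCeq : Nat.card (Subgroup.centralizer ({(h : G)} : Set G)) =
      Nat.card (Subgroup.centralizer ({h} : Set (Subgroup.centralizer ({z} : Set G)))) := by
    refine Nat.card_congr
      { toFun := fun c => ⟨⟨c.1, ?_⟩, ?_⟩
        invFun := fun c => ⟨(c.1 : G), ?_⟩
        left_inv := fun c => rfl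
        right_inv := fun c => rfl }
    · obtain ⟨m, K, hK, hm⟩ : ∃ m : ℕ, ∃ K : G, K = (h : G) ^ m ∧ K = z := by
        obtain ⟨e, he1, he2⟩ := Nat.chineseRemainder
          (Nat.Coprime.pow_left k (((Nat.Prime.coprime_iff_not_dvd hM.1).mpr hy)) :
            (p ^ k).Coprime (orderOf y)) 1 0
        refine ⟨e, _, rfl, ?_⟩
        rw [show (h : G) = z * y from rfl,
          (show Commute z (y : G) from hyz.symm).mul_pow,
          show (y : G) ^ e = 1 from orderOf_dvd_iff_pow_eq_one.mp (by
            rw [Subgroup.orderOf_coe]; exact Nat.modEq_zero_iff_dvd.mp he2), mul_one]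
        conv_rhs => rw [← pow_one z]
        rw [pow_eq_pow_iff_modEq, hz]
        exact he1
      have hc := Subgroup.mem_centralizer_singleton_iff.mp c.2
      rw [Subgroup.mem_centralizer_singleton_iff]
      have hp := (Commute.pow_right (show Commute (c : G) (h : G) from hc) m).eq
      rw [← hK, hm] at hp
      exact hp
    · exact Subgroup.mem_centralizer_singleton_iff.mpr
        (Subtype.ext (Subgroup.mem_centralizer_singleton_iff.mp c.2))
    · exact Subgroup.mem_centralizer_singleton_iff.mpr
        (congrArg Subtype.val (Subgroup.mem_centralizer_singleton_iff.mp c.2))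
  have e1 : ∀ χ : IrrCharacter G, (principalBlock M G).indicator
      (fun χ => (χ : G → ℂ) (z * (y : G)) * (χ : G → ℂ) (z * (y : G))⁻¹) χ =
      (∑ c : (Subgroup.centralizer ({z} : Set G)), a c * (χ : G → ℂ) ((c : G) * (z * (y : G)))) * (χ : G → ℂ) (z * (y : G))⁻¹ := by
    intro χ
    by_cases hχ : χ ∈ principalBlock M G
    · rw [Set.indicator_of_mem hχ, ha, hb₀def, principal_apply_section hM hz hχ y hy]
    · rw [Set.indicator_of_notMem hχ, ha, sum_blockCoeff_section_eq_zero hM hz hb₀
        (fun hc => hχ (eq_principal_of_inducing hM hc ▸ mem_blockOf_self χ)) y hy, zero_mul]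
  have e2 : ∀ η : IrrCharacter (Subgroup.centralizer ({z} : Set G)), b₀.indicator
      (fun η => (η : (Subgroup.centralizer ({z} : Set G)) → ℂ) y * (η : (Subgroup.centralizer ({z} : Set G)) → ℂ) y⁻¹) η =
      (∑ c : (Subgroup.centralizer ({z} : Set G)), a c * (η : (Subgroup.centralizer ({z} : Set G)) → ℂ) (c * h)) * (η : (Subgroup.centralizer ({z} : Set G)) → ℂ) h⁻¹ := by
    intro η
    rw [ha, sum_classFun_mul_translate _ (isClassFunction_blockCoeff b₀), omega_blockCoeff]
    by_cases hη : η ∈ b₀
    · rw [Set.indicator_of_mem hη, Set.indicator_of_mem hη, Pi.one_apply, one_mul]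
      obtain ⟨n, ρ, hρ, hρη⟩ := η.2
      obtain ⟨lam, hlam⟩ := CharClifford.exists_scalar_of_commute ρ (f := ρ zH) (fun g => by
        show ρ zH * ρ g = ρ g * ρ zH
        rw [← map_mul, ← map_mul]
        congr 1
        exact Subtype.ext (Subgroup.mem_centralizer_singleton_iff.mp g.2).symm)
      have hval : ∀ u : (Subgroup.centralizer ({z} : Set G)), (η : (Subgroup.centralizer ({z} : Set G)) → ℂ) (zH * u) = lam * (η : (Subgroup.centralizer ({z} : Set G)) → ℂ) u := fun u => by
        rw [← hρη]
        simp [Representation.character, map_mul, hlam]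
      have hnorm : lam * conj lam = 1 := by
        have h1 := hval 1
        rw [mul_one, irr_one_eq] at h1
        have h2 := CharCore.IsCharacter.norm_apply_le (CharCore.irr_isCharacter η) zH
        obtain ⟨m, hm⟩ : ∃ m : ℕ, zH ^ (m + 1) = 1 :=
          ⟨orderOf zH - 1, by rw [Nat.sub_add_cancel (orderOf_pos zH), pow_orderOf_eq_one]⟩
        have h3 : ∀ j : ℕ, (η : (Subgroup.centralizer ({z} : Set G)) → ℂ) (zH ^ j) = lam ^ j * (η : (Subgroup.centralizer ({z} : Set G)) → ℂ) 1 := by
          intro j
          induction j with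
          | zero => simp
          | succ j ih => rw [pow_succ', hval, ih, pow_succ]; ring
        have h4 := h3 (m + 1)
        rw [hm] at h4
        have h5 : lam ^ (m + 1) = 1 :=
          mul_right_cancel₀ (irr_one_ne_zero η) (by rw [one_mul]; exact h4.symm)
        rw [Complex.mul_conj, Complex.normSq_eq_norm_sq,
          Complex.norm_eq_one_of_pow_eq_one h5 (by omega)]
        simp
      rw [hh, hval, ← conj_irr η (zH * y), hval, map_mul, conj_irr]
      linear_combination -(η : (Subgroup.centralizer ({z} : Set G)) → ℂ) y * (η : (Subgroup.centralizer ({z} : Set G)) → ℂ) y⁻¹ * hnorm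
    · rw [Set.indicator_of_notMem hη, Set.indicator_of_notMem hη, zero_mul, zero_mul]
  rw [Finset.sum_congr rfl fun χ _ => e1 χ, Finset.sum_congr rfl fun η _ => e2 η]
  simp only [Finset.sum_mul, mul_assoc]
  rw [Finset.sum_comm, Finset.sum_comm (γ := IrrCharacter (Subgroup.centralizer ({z} : Set G)))]
  simp only [← Finset.mul_sum, sum_irr_mul_inv]
  rw [← sub_eq_zero, ← Finset.sum_sub_distrib]
  set F : (Subgroup.centralizer ({z} : Set G)) → ℂ := fun c => (if IsConj (c : G) (h : G) then (1 : ℂ) else 0) -
    if IsConj c h then (1 : ℂ) else 0 with hF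
  have hFc : IsClassFunction (Subgroup.centralizer ({z} : Set G)) F := by
    intro c d
    have hd : IsConj c (d * c * d⁻¹) := isConj_iff.mpr ⟨d, rfl⟩
    have hd' : IsConj (c : G) ((d * c * d⁻¹ : (Subgroup.centralizer ({z} : Set G))) : G) := isConj_iff.mpr ⟨d, rfl⟩
    simp only [hF]
    congr 1
    · exact if_congr ⟨fun q => hd'.trans q, fun q => hd'.symm.trans q⟩ rfl rfl
    · exact if_congr ⟨fun q => hd.trans q, fun q => hd.symm.trans q⟩ rfl rfl
  have hFsum : ∑ c : (Subgroup.centralizer ({z} : Set G)), a c * F (c * h) = 0 := by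
    rw [ha, ← blockPart_eq_sum_blockCoeff b₀ hFc, blockPart, finsum_mem_def,
      finsum_eq_sum_of_fintype]
    have key : ∀ c : (Subgroup.centralizer ({z} : Set G)), F c * ∑ θ : IrrCharacter (Subgroup.centralizer ({z} : Set G)), b₀.indicator
        (fun θ => (θ : (Subgroup.centralizer ({z} : Set G)) → ℂ) h * (θ : (Subgroup.centralizer ({z} : Set G)) → ℂ) c⁻¹) θ = 0 := by
      intro c
      by_cases hg : IsConj (c : G) (h : G)
      · by_cases hHc : IsConj c h
        · simp only [hF]
          rw [if_pos hg, if_pos hHc, sub_self, zero_mul]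
        · refine mul_eq_zero_of_right _ ?_
          have hP : IsPPart p h zH := ⟨y, rfl, Subtype.ext hyz.symm,
            ⟨k, by rw [Subgroup.orderOf_mk, hz]⟩, hy⟩
          obtain ⟨w, hw⟩ := exists_pPart (p := p) hM.1 c
          have horth := blockOrth_sections hM hb₀ hP hw (fun hconj => hHc ?_)
          · rw [← horth, finsum_mem_def, finsum_eq_sum_of_fintype]
          · obtain ⟨d, hd⟩ := isConj_iff.mp hconj
            have hwz : (w : G) = z := by
              rw [← hd]
              simp only [Subgroup.coe_mul, Subgroup.coe_inv]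
              rw [Subgroup.mem_centralizer_singleton_iff.mp d.2]
              simp
            obtain ⟨g, hgg⟩ := isConj_iff.mp hg
            have hwG : IsPPart p (c : G) (w : G) := by
              obtain ⟨v, h1, h2, ⟨j, hj⟩, h4⟩ := hw
              exact ⟨v, congrArg Subtype.val h1, congrArg Subtype.val h2.eq,
                ⟨j, by rw [Subgroup.orderOf_coe, hj]⟩, by rwa [Subgroup.orderOf_coe]⟩
            have hPG : IsPPart p (h : G) z :=
              ⟨(y : G), rfl, hyz.symm, ⟨k, hz⟩, by rwa [Subgroup.orderOf_coe]⟩
            have hu := isPPart_unique hM.1 (isPPart_conj hwG g) (hgg.symm ▸ hPG)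
            rw [hwz] at hu
            refine isConj_iff.mpr ⟨⟨g, ?_⟩, Subtype.ext hgg⟩
            rw [Subgroup.mem_centralizer_singleton_iff]
            exact mul_inv_eq_iff_eq_mul.mp hu
      · have hHc : ¬ IsConj c h := fun q => hg (by
          obtain ⟨d, hd⟩ := isConj_iff.mp q
          exact isConj_iff.mpr ⟨d, congrArg Subtype.val hd⟩)
        simp only [hF]
        rw [if_neg hg, if_neg hHc, sub_self, zero_mul]
    have hswap : ∀ θ : IrrCharacter (Subgroup.centralizer ({z} : Set G)), b₀.indicator
        (fun θ => classInner F (θ : (Subgroup.centralizer ({z} : Set G)) → ℂ) * (θ : (Subgroup.centralizer ({z} : Set G)) → ℂ) h) θ =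
        (Nat.card (Subgroup.centralizer ({z} : Set G)) : ℂ)⁻¹ * ∑ c : (Subgroup.centralizer ({z} : Set G)), F c *
          b₀.indicator (fun θ => (θ : (Subgroup.centralizer ({z} : Set G)) → ℂ) h * (θ : (Subgroup.centralizer ({z} : Set G)) → ℂ) c⁻¹) θ := by
      intro θ
      by_cases hθ : θ ∈ b₀
      · rw [Set.indicator_of_mem hθ, CharCore.classInner_eq_inv _ (CharCore.irr_isCharacter θ),
          mul_assoc, Finset.sum_mul]
        congr 1
        refine Finset.sum_congr rfl fun c _ => ?_
        rw [Set.indicator_of_mem hθ]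
        ring
      · simp [Set.indicator_of_notMem hθ]
    refine (Finset.sum_congr rfl (fun θ _ => ?_)).trans
      ((Finset.sum_congr rfl fun θ _ => hswap θ).trans ?_)
    · congr!
    · rw [← Finset.mul_sum, Finset.sum_comm]
      simp only [← Finset.mul_sum, key, Finset.sum_const_zero, mul_zero]
  calc _ = (Nat.card (Subgroup.centralizer ({h} : Set (Subgroup.centralizer ({z} : Set G)))) : ℂ) * ∑ c : (Subgroup.centralizer ({z} : Set G)), a c * F (c * h) := by
        rw [Finset.mul_sum]
        refine Finset.sum_congr rfl fun c _ => ?_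
        have ec : ((c * h : (Subgroup.centralizer ({z} : Set G))) : G) = (c : G) * (z * (y : G)) := rfl
        simp only [hF, ec]
        have g1 : ∀ x : G, IsConj x (z * (y : G)) →
            Nat.card (Subgroup.centralizer ({x} : Set G)) =
              Nat.card (Subgroup.centralizer ({h} : Set (Subgroup.centralizer ({z} : Set G)))) :=
          fun x hx => (natCard_centralizer_of_isConj hx).trans hCeq
        have g2 : IsConj (c * h) h →
            Nat.card (Subgroup.centralizer ({c * h} : Set (Subgroup.centralizer ({z} : Set G)))) =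
              Nat.card (Subgroup.centralizer ({h} : Set (Subgroup.centralizer ({z} : Set G)))) :=
          fun hx => natCard_centralizer_of_isConj hx
        have hhG : (h : G) = z * (y : G) := rfl
        rw [hhG]
        by_cases hc1 : IsConj ((c : G) * (z * (y : G))) (z * (y : G))
        · by_cases hc2 : IsConj (c * h) h
          · rw [if_pos hc1, if_pos hc2, if_pos hc1, if_pos hc2, g1 _ hc1, g2 hc2]; ring
          · rw [if_pos hc1, if_neg hc2, if_pos hc1, if_neg hc2, g1 _ hc1]; ring
        · have hc2 : ¬ IsConj (c * h) h := fun q => hc1 (by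
            obtain ⟨d, hd⟩ := isConj_iff.mp q
            exact isConj_iff.mpr ⟨d, congrArg Subtype.val hd⟩)
          rw [if_neg hc1, if_neg hc2, if_neg hc1, if_neg hc2]; ring
    _ = 0 := by rw [hFsum, mul_zero]

end Cfsg.Agent.BlocksDefect
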