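import Cfsg.Agent.Lib.BlocksDefect.Quotient
import Cfsg.Agent.Lib.CharClifford.Central
import Cfsg.Agent.Lib.BlocksCore.PPart

/-!
# Characters of full defect over a central `p`-subgroup

If `D` is a central `p`-subgroup and the `p`-part of `χ 1` is that of the index of `D`, the
block of `χ` has defect group `D` and `χ` vanishes off the sections of `D`.
-/

set_option linter.unusedSectionVars false

namespace Cfsg.Agent.BlocksDefect

open BlocksCore

variable {G : Type*} [Group G] [Finite G] {p : ℕ} {M : Ideal AlgInt} {D : Subgroup G}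

/-- The scalar by which a central element acts in `χ`. -/
noncomputable def cval (χ : IrrCharacter G) (u : G) : ℂ := (χ : G → ℂ) u / (χ : G → ℂ) 1

theorem apply_mul_of_center (χ : IrrCharacter G) {u : G} (hu : u ∈ Subgroup.center G) (x : G) :
    (χ : G → ℂ) (x * u) = cval χ u * (χ : G → ℂ) x := by
  have := Fintype.ofFinite G
  obtain ⟨n, ρ, hρ, hρχ⟩ := χ.2
  obtain ⟨lam, hlam⟩ := CharClifford.exists_scalar_of_commute ρ (f := ρ u) (fun g => by
    show ρ u * ρ g = ρ g * ρ u
    rw [← map_mul, ← map_mul, Subgroup.mem_center_iff.mp hu g])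
  have hval : ∀ y : G, (χ : G → ℂ) (y * u) = lam * (χ : G → ℂ) y := fun y => by
    rw [← hρχ]
    simp [Representation.character, map_mul, hlam]
  have h1 := hval 1
  rw [one_mul] at h1
  rw [cval, h1, mul_div_cancel_right₀ _ (irr_one_ne_zero χ), hval]

theorem cval_one (χ : IrrCharacter G) : cval χ 1 = 1 := by
  have := Fintype.ofFinite G
  rw [cval, div_self (irr_one_ne_zero χ)]

theorem cval_mul (χ : IrrCharacter G) {u v : G} (hv : v ∈ Subgroup.center G) :
    cval χ (u * v) = cval χ v * cval χ u := by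
  rw [cval, apply_mul_of_center χ hv, mul_div_assoc]
  rfl

theorem cval_mul_inv (χ : IrrCharacter G) {u : G} (hu : u ∈ Subgroup.center G) :
    cval χ u * cval χ u⁻¹ = 1 := by
  rw [mul_comm, ← cval_mul χ (Subgroup.inv_mem _ hu), mul_inv_cancel, cval_one]

theorem cval_pow (χ : IrrCharacter G) {u : G} (hu : u ∈ Subgroup.center G) :
    ∀ j : ℕ, cval χ (u ^ j) = cval χ u ^ j
  | 0 => by rw [pow_zero, pow_zero, cval_one]
  | j + 1 => by rw [pow_succ, cval_mul χ hu, cval_pow χ hu j, pow_succ]; ring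

variable (hDZ : D ≤ Subgroup.center G)

include hDZ

omit [Finite G] in
theorem normal_of_le_center : D.Normal :=
  ⟨fun n hn g => by
    have h := Subgroup.mem_center_iff.mp (hDZ hn) g
    rw [h, mul_inv_cancel_right]
    exact hn⟩

/-- When `χ` is faithful on `D`, translation by `D` is free on the classes where `χ` is nonzero. -/
theorem eq_one_of_isConj_mul (χ : IrrCharacter G)
    (hf : ∀ u ∈ D, (χ : G → ℂ) u = (χ : G → ℂ) 1 → u = 1) {x u : G} (hu : u ∈ D)
    (hne : (χ : G → ℂ) x ≠ 0) (hc : IsConj x (x * u)) : u = 1 := by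
  have := Fintype.ofFinite G
  refine hf u hu ?_
  have h := classFun_eq_of_isConj (irr_class χ) hc
  rw [apply_mul_of_center χ (hDZ hu)] at h
  have h1 : cval χ u = 1 := mul_right_cancel₀ hne (h.trans (one_mul _).symm)
  rw [cval, div_eq_one_iff_eq (irr_one_ne_zero χ)] at h1
  exact h1

omit [Finite G] in
theorem coset_class_iff [D.Normal] (x g : G) :
    IsConj (QuotientGroup.mk x : G ⧸ D) (QuotientGroup.mk g) ↔ ∃ u ∈ D, IsConj x (g * u) := by
  constructor
  · intro h
    obtain ⟨c, hc⟩ := isConj_iff.mp h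
    induction c using QuotientGroup.induction_on with
    | H t =>
      rw [← QuotientGroup.mk_inv, ← QuotientGroup.mk_mul, ← QuotientGroup.mk_mul] at hc
      exact ⟨_, QuotientGroup.eq.mp hc.symm,
        isConj_iff.mpr ⟨t, (mul_inv_cancel_left g _).symm⟩⟩
  · rintro ⟨u, hu, h⟩
    obtain ⟨c, hc⟩ := isConj_iff.mp h
    refine isConj_iff.mpr ⟨c, ?_⟩
    rw [← QuotientGroup.mk_inv, ← QuotientGroup.mk_mul, ← QuotientGroup.mk_mul, hc,
      QuotientGroup.mk_mul, (QuotientGroup.eq_one_iff u).mpr hu, mul_one]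

/-- The sum over `G` of a product is `|D|` times a combination over the classes of `G ⧸ D`. -/
theorem sum_eq_card_mul_classes [D.Normal] [Fintype G] [Fintype (ConjClasses (G ⧸ D))]
    (χ ψ : IrrCharacter G) (hf : ∀ u ∈ D, (χ : G → ℂ) u = (χ : G → ℂ) 1 → u = 1)
    (hψ : ∀ u ∈ D, cval ψ u = cval χ u) (r : ConjClasses (G ⧸ D) → G)
    (hr : ∀ C, ConjClasses.mk (QuotientGroup.mk (r C) : G ⧸ D) = C) :
    ∑ g : G, (χ : G → ℂ) g⁻¹ * (ψ : G → ℂ) g = (Nat.card D : ℂ) * ((ψ : G → ℂ) 1 *
      ∑ C : ConjClasses (G ⧸ D), centralChar (ψ : G → ℂ) (r C) * (χ : G → ℂ) (r C)⁻¹) := by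
  classical
  rw [← Finset.sum_fiberwise Finset.univ
    (fun g : G => ConjClasses.mk (QuotientGroup.mk g : G ⧸ D)), Finset.mul_sum, Finset.mul_sum]
  refine Finset.sum_congr rfl fun C _ => ?_
  set x := r C with hx
  have hinv : ∀ {y : G} {u : G}, IsConj x y → u ∈ D →
      (χ : G → ℂ) (y * u)⁻¹ * (ψ : G → ℂ) (y * u) = (χ : G → ℂ) x⁻¹ * (ψ : G → ℂ) x := by
    intro y u hy hu
    have huc := hDZ hu
    rw [show (y * u)⁻¹ = y⁻¹ * u⁻¹ by rw [mul_inv_rev, Subgroup.mem_center_iff.mp (inv_mem huc)],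
      apply_mul_of_center χ (inv_mem huc), apply_mul_of_center ψ huc, hψ u hu]
    have e : IsConj x⁻¹ y⁻¹ := by
      obtain ⟨c, rfl⟩ := isConj_iff.mp hy
      exact isConj_iff.mpr ⟨c, by group⟩
    rw [classFun_eq_of_isConj (irr_class χ) e, classFun_eq_of_isConj (irr_class ψ) hy]
    linear_combination (χ : G → ℂ) x⁻¹ * (ψ : G → ℂ) x * cval_mul_inv χ huc
  have hfib : ∀ g, ConjClasses.mk (QuotientGroup.mk g : G ⧸ D) = C ↔
      ∃ u ∈ D, ∃ y, IsConj x y ∧ y * u = g := by
    intro g
    rw [← hr C, ← hx, eq_comm, ConjClasses.mk_eq_mk_iff_isConj, coset_class_iff hDZ]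
    constructor
    · rintro ⟨u, hu, h⟩
      exact ⟨u⁻¹, D.inv_mem hu, g * u, h, mul_inv_cancel_right g u⟩
    · rintro ⟨u, hu, y, hy, rfl⟩
      exact ⟨u⁻¹, D.inv_mem hu, by rwa [mul_inv_cancel_right]⟩
  by_cases hne : (χ : G → ℂ) x⁻¹ = 0
  · rw [Finset.sum_eq_zero, hne, mul_zero, mul_zero, mul_zero]
    intro g hg
    obtain ⟨u, hu, y, hy, rfl⟩ := (hfib g).mp (Finset.mem_filter.mp hg).2
    rw [hinv hy hu, hne, zero_mul]
  have hfree : ∀ u ∈ D, IsConj x (x * u) → u = 1 := fun u hu hc => by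
    refine eq_one_of_isConj_mul hDZ χ hf hu (fun h0 => hne ?_) hc
    rw [← conj_irr, h0, map_zero]
  have := Fintype.ofFinite D
  have hcard : (Finset.univ.filter
      (fun g : G => ConjClasses.mk (QuotientGroup.mk g : G ⧸ D) = C)).card =
      Nat.card D * (Subgroup.centralizer ({x} : Set G)).index := by
    rw [← natCard_isConj, ← Nat.card_prod, Nat.card_eq_fintype_card, ← Finset.card_univ]
    refine (Finset.card_bij (fun (q : D × {y : G // IsConj x y}) _ => (q.2 : G) * q.1)
      (fun q _ => Finset.mem_filter.mpr ⟨Finset.mem_univ _, (hfib _).mpr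
        ⟨q.1, q.1.2, q.2, q.2.2, rfl⟩⟩) ?_ ?_).symm
    · intro q _ q' _ h
      have e : (q.2 : G) = q'.2 * ((q'.1 : G) * (q.1 : G)⁻¹) := by
        rw [← mul_assoc, ← h, mul_inv_cancel_right]
      have hconj : IsConj (q'.2 : G) ((q'.2 : G) * ((q'.1 : G) * (q.1 : G)⁻¹)) :=
        e ▸ q'.2.2.symm.trans q.2.2
      have hd : (q'.1 : G) * (q.1 : G)⁻¹ ∈ D := D.mul_mem q'.1.2 (D.inv_mem q.1.2)
      have h1 : (q'.1 : G) * (q.1 : G)⁻¹ = 1 := by
        obtain ⟨c, hc⟩ := isConj_iff.mp q'.2.2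
        refine hfree _ hd ?_
        have hz : Commute c ((q'.1 : G) * (q.1 : G)⁻¹) := Subgroup.mem_center_iff.mp (hDZ hd) c
        refine q'.2.2.trans (hconj.trans (isConj_iff.mpr ⟨c⁻¹, ?_⟩))
        rw [← hc]
        calc c⁻¹ * (c * x * c⁻¹ * ((q'.1 : G) * (q.1 : G)⁻¹)) * c⁻¹⁻¹
            = x * (c⁻¹ * ((q'.1 : G) * (q.1 : G)⁻¹) * c) := by group
          _ = x * ((q'.1 : G) * (q.1 : G)⁻¹) := by
              rw [hz.inv_left.eq, inv_mul_cancel_right]
      rw [h1, mul_one] at e
      exact Prod.ext (Subtype.ext (mul_inv_eq_one.mp h1).symm) (Subtype.ext e)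
    · intro g hg
      obtain ⟨u, hu, y, hy, rfl⟩ := (hfib g).mp (Finset.mem_filter.mp hg).2
      exact ⟨(⟨u, hu⟩, ⟨y, hy⟩), Finset.mem_univ _, rfl⟩
  have hconst : ∀ g ∈ Finset.univ.filter
      (fun g : G => ConjClasses.mk (QuotientGroup.mk g : G ⧸ D) = C),
      (χ : G → ℂ) g⁻¹ * (ψ : G → ℂ) g = (χ : G → ℂ) x⁻¹ * (ψ : G → ℂ) x := by
    intro g hg
    obtain ⟨u, hu, y, hy, rfl⟩ := (hfib g).mp (Finset.mem_filter.mp hg).2
    exact hinv hy hu
  rw [Finset.sum_congr rfl hconst, Finset.sum_const, nsmul_eq_mul, hcard, centralChar,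
    Nat.cast_mul, ← mul_assoc ((ψ : G → ℂ) 1), mul_div_cancel₀ _ (irr_one_ne_zero ψ)]
  ring

variable [Fact p.Prime]

/-- A `p`-element of `D` removes the `p`-part. -/
theorem exists_regular_translate {g x : G} (hx : IsPPart p g x) (hxD : x ∈ D) :
    ∃ u ∈ D, ¬ p ∣ orderOf (g * u) := by
  obtain ⟨y, hxy, hc, -, hy⟩ := hx
  refine ⟨x⁻¹, D.inv_mem hxD, ?_⟩
  rwa [← hxy, hc.eq, mul_inv_cancel_right]

/-- The main computation in the case where `χ` is faithful on `D`. -/
theorem laradji_faithful (hM : IsPModular p M) (hD : IsPGroup p D) (χ : IrrCharacter G)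
    (hf : ∀ u ∈ D, (χ : G → ℂ) u = (χ : G → ℂ) 1 → u = 1)
    (hdeg : (charDegree (χ : G → ℂ)).factorization p = D.index.factorization p) :
    (∀ g x, IsPPart p g x → x ∉ D → (χ : G → ℂ) g = 0) ∧
    ∃ g, ¬ p ∣ orderOf g ∧ ¬ MemLocalIdeal M (centralChar (χ : G → ℂ) g) ∧
      ¬ MemLocalIdeal M ((χ : G → ℂ) g⁻¹) := by
  classical
  have := isPrime hM
  have := Fintype.ofFinite G
  have := normal_of_le_center hDZ
  have := Fintype.ofFinite D
  have : Finite (ConjClasses (G ⧸ D)) := Finite.of_surjective _ ConjClasses.mk_surjective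
  have := Fintype.ofFinite (ConjClasses (G ⧸ D))
  have hex : ∀ C : ConjClasses (G ⧸ D), ∃ g : G,
      ConjClasses.mk (QuotientGroup.mk g : G ⧸ D) = C := fun C => by
    obtain ⟨q, rfl⟩ := ConjClasses.mk_surjective C
    obtain ⟨g, rfl⟩ := QuotientGroup.mk_surjective q
    exact ⟨g, rfl⟩
  choose r hr using hex
  set S : IrrCharacter G → ℂ := fun ψ =>
    ∑ C : ConjClasses (G ⧸ D), centralChar (ψ : G → ℂ) (r C) * (χ : G → ℂ) (r C)⁻¹ with hS
  have hchar : ∀ ψ : IrrCharacter G,
      ∑ g : G, (χ : G → ℂ) g⁻¹ * (ψ : G → ℂ) g = if ψ = χ then (Nat.card G : ℂ) else 0 := fun ψ => by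
    rw [← sum_char_mul_inv ψ χ]
    exact Finset.sum_congr rfl fun g _ => mul_comm _ _
  have hSR : MemLocalRing M (S χ) := memLocalRing_sum fun C _ =>
    (localRing M).mul_mem (centralChar_memLocalRing χ _)
      (memLocalRing_of_isIntegral (isIntegral_irr χ _))
  have hSχ : ¬ MemLocalIdeal M (S χ) := by
    have h := sum_eq_card_mul_classes hDZ χ χ hf (fun _ _ => rfl) r hr
    rw [hchar, if_pos rfl, ← Subgroup.card_mul_index D, Nat.cast_mul, irr_one_eq] at h
    have h2 := mul_left_cancel₀ (Nat.cast_ne_zero.mpr (Nat.card_pos (α := D)).ne') h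
    exact (factorization_of_mul_eq hM Subgroup.FiniteIndex.index_ne_zero (charDegree_pos χ).ne'
      (memLocalRing_of_mem (one_mem _)) not_memLocalIdeal_one hSR
      (by rw [mul_one]; exact h2)).2 hdeg.ge
  have hsingle : ∀ ψ : IrrCharacter G, SameBlock M (χ : G → ℂ) (ψ : G → ℂ) →
      (∀ u ∈ D, cval ψ u = cval χ u) → ψ = χ := by
    intro ψ hψ hlam'
    by_contra hne
    have h := sum_eq_card_mul_classes hDZ χ ψ hf hlam' r hr
    rw [hchar, if_neg hne] at h
    have h2 : S ψ = 0 := by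
      rcases mul_eq_zero.mp h.symm with h1 | h1
      · exact absurd h1 (Nat.cast_ne_zero.mpr Nat.card_pos.ne')
      · exact (mul_eq_zero.mp h1).resolve_left (irr_one_ne_zero ψ)
    refine hSχ ?_
    have hd : MemLocalIdeal M (S χ - S ψ) := by
      simp only [hS, ← Finset.sum_sub_distrib, ← sub_mul]
      exact memLocalIdeal_sum fun C _ =>
        memLocalIdeal_mul_right (hψ _) (memLocalRing_of_isIntegral (isIntegral_irr χ _))
    rwa [h2, sub_zero] at hd
  have hB := isPBlock_blockOf (M := M) χ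
  have hvan : ∀ g x, IsPPart p g x → x ∉ D → (χ : G → ℂ) g⁻¹ = 0 := by
    intro g x hx hxD
    have hzero : ∀ u : D, blockCoeff (blockOf M (χ : G → ℂ)) (g * u) = 0 := fun u => by
      refine blockCoeff_eq_zero_of_dvd_orderOf hM hB (by_contra fun hreg => hxD ?_)
      have hu := hDZ u.2
      obtain ⟨j, hj⟩ := (IsPGroup.iff_orderOf.mp hD) u⁻¹
      have hpart : IsPPart p g ((u : G)⁻¹) :=
        ⟨g * u, by rw [← mul_assoc, ← Subgroup.mem_center_iff.mp (inv_mem hu) g,
            mul_assoc, inv_mul_cancel, mul_one],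
          (Subgroup.mem_center_iff.mp (inv_mem hu) _).symm,
          ⟨j, by rw [← hj, ← Subgroup.orderOf_coe, InvMemClass.coe_inv]⟩, hreg⟩
      rw [isPPart_unique hM.1 hx hpart]
      exact D.inv_mem u.2
    have hsum : ∑ u : D, cval χ (u : G) * blockCoeff (blockOf M (χ : G → ℂ)) (g * u) = 0 := by
      simp [hzero]
    have key : ∑ u : D, cval χ (u : G) * blockCoeff (blockOf M (χ : G → ℂ)) (g * u) =
        (Nat.card G : ℂ)⁻¹ * ((Nat.card D : ℂ) * ((χ : G → ℂ) 1 * (χ : G → ℂ) g⁻¹)) := by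
      simp only [blockCoeff_eq_sum, Finset.mul_sum]
      rw [Finset.sum_comm, Finset.sum_eq_single χ]
      · have e : ∀ u : D, cval χ (u : G) * ((Nat.card G : ℂ)⁻¹ *
            ((blockOf M (χ : G → ℂ)).indicator 1 χ * ((χ : G → ℂ) 1 * (χ : G → ℂ) (g * u)⁻¹))) =
            (Nat.card G : ℂ)⁻¹ * ((χ : G → ℂ) 1 * (χ : G → ℂ) g⁻¹) := fun u => by
          have hu := hDZ u.2
          rw [Set.indicator_of_mem (mem_blockOf_self χ), Pi.one_apply, one_mul,
            mul_inv_rev, ← Subgroup.mem_center_iff.mp (inv_mem hu), apply_mul_of_center χ (inv_mem hu)]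
          linear_combination (Nat.card G : ℂ)⁻¹ * (χ : G → ℂ) 1 * (χ : G → ℂ) g⁻¹ * cval_mul_inv χ hu
        rw [Finset.sum_congr rfl fun u _ => e u, Finset.sum_const, Finset.card_univ, nsmul_eq_mul,
          ← Nat.card_eq_fintype_card]
        ring
      · intro ψ _ hne
        by_cases hψ : ψ ∈ blockOf M (χ : G → ℂ)
        · obtain ⟨w, hw, hw'⟩ : ∃ w ∈ D, cval ψ w ≠ cval χ w := by
            by_contra hall
            push Not at hall
            exact hne (hsingle ψ hψ hall)
          have e : ∀ u : D, cval χ (u : G) * ((Nat.card G : ℂ)⁻¹ *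
              ((blockOf M (χ : G → ℂ)).indicator 1 ψ * ((ψ : G → ℂ) 1 * (ψ : G → ℂ) (g * u)⁻¹))) =
              (cval χ (u : G) * cval ψ (u : G)⁻¹) *
                ((Nat.card G : ℂ)⁻¹ * ((ψ : G → ℂ) 1 * (ψ : G → ℂ) g⁻¹)) := fun u => by
            have hu := hDZ u.2
            rw [Set.indicator_of_mem hψ, Pi.one_apply, one_mul, mul_inv_rev,
              ← Subgroup.mem_center_iff.mp (inv_mem hu), apply_mul_of_center ψ (inv_mem hu)]
            ring
          rw [Finset.sum_congr rfl fun u _ => e u, ← Finset.sum_mul]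
          refine mul_eq_zero_of_left ?_ _
          set A := ∑ u : D, cval χ (u : G) * cval ψ (u : G)⁻¹ with hA
          have hA' : A = cval χ w * cval ψ w⁻¹ * A := by
            rw [hA, Finset.mul_sum]
            refine (Fintype.sum_equiv (Equiv.mulRight (⟨w, hw⟩ : D)) _ _ fun u => ?_).symm
            simp only [Equiv.coe_mulRight, Subgroup.coe_mul, cval_mul χ (hDZ hw), mul_inv_rev,
              cval_mul ψ (inv_mem (hDZ u.2))]
            ring
          have h1 : cval χ w * cval ψ w⁻¹ ≠ 1 := fun h1 => hw' (by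
            linear_combination -(cval ψ w) * h1 + cval χ w * cval_mul_inv ψ (hDZ hw))
          by_contra hA0
          exact h1 (mul_right_cancel₀ hA0 (hA'.symm.trans (one_mul A).symm))
        · simp [Set.indicator_of_notMem hψ]
      · simp
    rw [key] at hsum
    simpa [irr_one_ne_zero χ] using hsum
  have hvan' : ∀ g x, IsPPart p g x → x ∉ D → (χ : G → ℂ) g = 0 := by
    intro g x hx hxD
    obtain ⟨y, hxy, hc, hk, hy⟩ := hx
    have := hvan g⁻¹ x⁻¹ ⟨y⁻¹, by rw [← hxy, hc.eq, mul_inv_rev], hc.inv_inv,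
      by simpa using hk, by simpa using hy⟩ (fun h => hxD (by simpa using D.inv_mem h))
    simpa using this
  refine ⟨hvan', ?_⟩
  obtain ⟨C, hC⟩ : ∃ C, ¬ MemLocalIdeal M (centralChar (χ : G → ℂ) (r C) * (χ : G → ℂ) (r C)⁻¹) := by
    by_contra hno
    push Not at hno
    exact hSχ (memLocalIdeal_sum fun C _ => hno C)
  obtain ⟨x, hx⟩ := exists_pPart (p := p) hM.1 (r C)
  have hxD : x ∈ D := by
    by_contra hn
    exact hC (by rw [hvan _ _ hx hn, mul_zero]; exact memLocalIdeal_zero)
  obtain ⟨u, hu, hreg⟩ := exists_regular_translate hDZ hx hxD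
  have huc := hDZ hu
  have hcen : Subgroup.centralizer ({r C * u} : Set G) = Subgroup.centralizer ({r C} : Set G) := by
    ext t
    simp only [Subgroup.mem_centralizer_singleton_iff]
    have hz := Subgroup.mem_center_iff.mp huc
    constructor
    · intro h
      refine mul_right_cancel (b := u) ?_
      rw [mul_assoc, h, mul_assoc, ← hz, ← mul_assoc]
    · intro h
      rw [← mul_assoc, h, mul_assoc, hz, ← mul_assoc]
  have hint : ∀ v : G, v ∈ Subgroup.center G → MemLocalRing M (cval χ v) := fun v hv => by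
    refine memLocalRing_of_isIntegral (IsIntegral.of_pow (orderOf_pos v) ?_)
    rw [← cval_pow χ hv, pow_orderOf_eq_one, cval_one]
    exact isIntegral_one
  refine ⟨r C * u, hreg, fun hc => ?_, fun hc => ?_⟩
  · refine hC (memLocalIdeal_mul_right ?_ (memLocalRing_of_isIntegral (isIntegral_irr χ _)))
    have := memLocalIdeal_mul_left (hint u⁻¹ (inv_mem huc)) hc
    rw [centralChar, hcen, apply_mul_of_center χ huc] at this
    refine (congrArg (MemLocalIdeal M) ?_).mp this
    rw [centralChar]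
    linear_combination ((Subgroup.centralizer ({r C} : Set G)).index : ℂ) * (χ : G → ℂ) (r C) /
      (χ : G → ℂ) 1 * cval_mul_inv χ huc
  · refine hC (memLocalIdeal_mul_left (centralChar_memLocalRing χ _) ?_)
    have := memLocalIdeal_mul_left (hint u huc) hc
    rw [mul_inv_rev, ← Subgroup.mem_center_iff.mp (inv_mem huc),
      apply_mul_of_center χ (inv_mem huc), ← mul_assoc, cval_mul_inv χ huc, one_mul] at this
    exact this

/-- Laradji's theorem. -/
theorem laradji (hM : IsPModular p M) (hD : IsPGroup p D) (χ : IrrCharacter G)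
    (hdeg : (charDegree (χ : G → ℂ)).factorization p = D.index.factorization p) :
    IsDefectGroup p M (blockOf M (χ : G → ℂ)) D ∧
      ∀ g x, IsPPart p g x → x ∉ D → (χ : G → ℂ) g = 0 := by
  classical
  have := isPrime hM
  have := Fintype.ofFinite G
  set K := D ⊓ CharCore.charKernel (CharCore.irr_isCharacter χ) with hKdef
  have hKZ : K ≤ Subgroup.center G := inf_le_left.trans hDZ
  have := normal_of_le_center hKZ
  have hKp : IsPGroup p K := hD.to_le inf_le_left
  obtain ⟨φ, hφ⟩ := exists_inflate_eq K χ (fun n hn => hn.2)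
  have := Fintype.ofFinite (G ⧸ K)
  have hsurj : Function.Surjective (QuotientGroup.mk' K) := QuotientGroup.mk'_surjective K
  have hDZ' : D.map (QuotientGroup.mk' K) ≤ Subgroup.center (G ⧸ K) := by
    rintro _ ⟨u, hu, rfl⟩
    rw [Subgroup.mem_center_iff]
    intro q
    obtain ⟨g, rfl⟩ := hsurj q
    rw [← map_mul, ← map_mul, Subgroup.mem_center_iff.mp (hDZ hu) g]
  have hφ1 : ∀ g : G, (χ : G → ℂ) g = (φ : G ⧸ K → ℂ) (QuotientGroup.mk g) := fun g => by
    rw [← hφ]; rfl
  have hfaith : ∀ u ∈ D.map (QuotientGroup.mk' K),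
      (φ : G ⧸ K → ℂ) u = (φ : G ⧸ K → ℂ) 1 → u = 1 := by
    rintro _ ⟨u, hu, rfl⟩ h
    rw [QuotientGroup.mk'_apply, ← QuotientGroup.mk_one, ← hφ1, ← hφ1] at h
    exact (QuotientGroup.eq_one_iff u).mpr ⟨hu, h⟩
  have hdeg' : (charDegree (φ : G ⧸ K → ℂ)).factorization p =
      (D.map (QuotientGroup.mk' K)).index.factorization p := by
    rw [Subgroup.index_map_eq _ hsurj (by rw [QuotientGroup.ker_mk']; exact inf_le_left), ← hdeg]
    simp only [charDegree, hφ1, QuotientGroup.mk_one]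
  obtain ⟨hvan, q, hq, hqc, hqv⟩ := laradji_faithful hDZ' hM (hD.map _) φ hfaith hdeg'
  refine ⟨?_, fun g x hx hxD => ?_⟩
  · obtain ⟨g, rfl⟩ := QuotientGroup.mk_surjective q
    obtain ⟨g', hg', hgg⟩ := exists_regular_in_coset hq
    rw [← hgg] at hqc hqv
    rw [← QuotientGroup.mk_inv, ← hφ1] at hqv
    have hidx : Subgroup.centralizer ({(QuotientGroup.mk g' : G ⧸ K)} : Set (G ⧸ K)) =
        (Subgroup.centralizer ({g'} : Set G)).map (QuotientGroup.mk' K) := by
      ext t
      constructor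
      · intro ht
        obtain ⟨s, rfl⟩ := hsurj t
        refine ⟨s, Subgroup.mem_centralizer_singleton_iff.mpr ?_, rfl⟩
        have h1 := Subgroup.mem_centralizer_singleton_iff.mp ht
        rw [QuotientGroup.mk'_apply, ← QuotientGroup.mk_mul, ← QuotientGroup.mk_mul] at h1
        have e : s * g' * s⁻¹ = g' := by
          refine eq_of_regular_of_coset hKp (by rwa [orderOf_conjugate]) hg' ?_ ?_
          · rw [Subgroup.mem_centralizer_iff]
            exact fun v hv => (Subgroup.mem_center_iff.mp (hKZ hv) _).symm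
          · rw [QuotientGroup.mk_mul, h1, ← QuotientGroup.mk_mul, mul_inv_cancel_right]
        exact mul_inv_eq_iff_eq_mul.mp e
      · rintro ⟨s, hs, rfl⟩
        rw [Subgroup.mem_centralizer_singleton_iff, QuotientGroup.mk'_apply,
          ← QuotientGroup.mk_mul, ← QuotientGroup.mk_mul,
          Subgroup.mem_centralizer_singleton_iff.mp hs]
    have hu : ¬ MemLocalIdeal M (centralChar (χ : G → ℂ) g') := by
      rw [centralChar, hφ1, hφ1, QuotientGroup.mk_one]
      rw [centralChar, hidx, Subgroup.index_map_eq _ hsurj ?_] at hqc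
      · exact hqc
      · rw [QuotientGroup.ker_mk']
        intro v hv
        exact Subgroup.mem_centralizer_singleton_iff.mpr
          (Subgroup.mem_center_iff.mp (hKZ hv) g').symm
    have h1 := index_factorization_le_of_centralChar hM χ hu
    have h2 := degree_factorization_le_of_apply hM χ hqv
    rw [centralizer_inv] at h2
    rw [hdeg, index_factorization] at h1 h2
    have hnorm := normal_of_le_center hDZ
    obtain ⟨e, he⟩ := IsPGroup.iff_card.mp hD
    have hDcard : D.index.factorization p + e = (Nat.card G).factorization p := by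
      rw [← Subgroup.card_mul_index D, he, Nat.factorization_mul (pow_ne_zero _ hM.1.ne_zero)
        Subgroup.FiniteIndex.index_ne_zero, Finsupp.add_apply,
        Nat.Prime.factorization_pow hM.1, Finsupp.single_eq_same]
      ring
    have hle := centralizer_factorization_le (p := p) g'
    have hv : (Nat.card (Subgroup.centralizer ({g'} : Set G))).factorization p = e := by omega
    obtain ⟨Q, hQ⟩ := exists_isSylowCent p g'
    have hB := isPBlock_blockOf (M := M) χ
    obtain ⟨E, hE⟩ := exists_isDefectGroup hM hB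
    have h3 := (defectGroup_subConj_of_centralChar hM hB hE (mem_blockOf_self χ) hQ hu).card_dvd
    rw [hQ.natCard, hv, ← he] at h3
    have h4 := le_defectGroup D hM hD hB hE
    rwa [Subgroup.eq_of_le_of_card_ge h4 (Nat.le_of_dvd Nat.card_pos h3)]
  · rw [hφ1]
    obtain ⟨y, hxy, hc, ⟨j, hj⟩, hy⟩ := hx
    obtain ⟨i, -, hi⟩ := (Nat.dvd_prime_pow hM.1).mp
      (hj ▸ orderOf_map_dvd (QuotientGroup.mk' K) x)
    refine hvan _ (QuotientGroup.mk x) ⟨QuotientGroup.mk y, by rw [← hxy]; rfl,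
      hc.map (QuotientGroup.mk' K), ⟨i, hi⟩,
      fun h => hy (h.trans (orderOf_map_dvd (QuotientGroup.mk' K) y))⟩ ?_
    rintro ⟨u, hu, hux⟩
    refine hxD ?_
    have := QuotientGroup.eq.mp hux
    have h5 := D.mul_mem hu (inf_le_left (a := D) this)
    rwa [mul_inv_cancel_left] at h5

end Cfsg.Agent.BlocksDefect
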