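import Cfsg.Agent.Lib.BlocksDefect.Induced
import Cfsg.Agent.Lib.CharCore.Linear

/-!
# Normal subgroups in kernels of block members

A normal `p'`-subgroup in the kernel of one member lies in that of every member; a normal
`p`-subgroup lies in the kernel of some member of every block; central character values of
inflated characters are computed in the quotient.
-/

namespace Cfsg.Agent.BlocksDefect

open BlocksCore

variable {G : Type*} [Group G] [Finite G] {p : ℕ} {M : Ideal AlgInt}

/-- The averaging idempotent of a subgroup, as a function on the group. -/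
noncomputable def subInd (N : Subgroup G) : G → ℂ :=
  (N : Set G).indicator fun _ => (Nat.card N : ℂ)⁻¹

omit [Finite G] in
theorem subInd_apply_of_mem {N : Subgroup G} {x : G} (h : x ∈ N) :
    subInd N x = (Nat.card N : ℂ)⁻¹ :=
  Set.indicator_of_mem (show x ∈ (N : Set G) from h) _

omit [Finite G] in
theorem subInd_apply_of_notMem {N : Subgroup G} {x : G} (h : x ∉ N) : subInd N x = 0 :=
  Set.indicator_of_notMem (show x ∉ (N : Set G) from h) _

omit [Finite G] in
theorem isClassFunction_subInd (N : Subgroup G) [hN : N.Normal] :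
    IsClassFunction G (subInd N) := by
  intro g h
  by_cases hg : g ∈ N
  · rw [subInd_apply_of_mem hg, subInd_apply_of_mem (hN.conj_mem g hg h)]
  · rw [subInd_apply_of_notMem hg, subInd_apply_of_notMem]
    intro hc
    exact hg (by simpa [mul_assoc] using hN.conj_mem _ hc h⁻¹)

omit [Finite G] in
theorem sum_subInd_mul [Fintype G] (N : Subgroup G) [Fintype N] (f : G → ℂ) :
    ∑ x, subInd N x * f x = (Nat.card N : ℂ)⁻¹ * ∑ n : N, f n := by
  classical
  rw [Finset.mul_sum, ← Finset.sum_subset (Finset.subset_univ ((N : Set G).toFinset))]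
  · refine (Finset.sum_subtype (p := fun x => x ∈ N) (F := inferInstance) _ (fun x => by simp) _).trans ?_
    exact Finset.sum_congr rfl fun n _ => by rw [subInd_apply_of_mem n.2]
  · intro x _ hx
    rw [subInd_apply_of_notMem (by simpa using hx), zero_mul]

theorem conv_subInd_self (N : Subgroup G) : conv (subInd N) (subInd N) = subInd N := by
  classical
  have := Fintype.ofFinite G
  have := Fintype.ofFinite N
  funext x
  rw [conv_apply, sum_subInd_mul N (fun y => subInd N (y⁻¹ * x))]
  by_cases hx : x ∈ N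
  · rw [subInd_apply_of_mem hx, Finset.sum_congr rfl (fun n _ =>
      subInd_apply_of_mem (N.mul_mem (N.inv_mem n.2) hx)), Finset.sum_const, Finset.card_univ,
      nsmul_eq_mul, ← Nat.card_eq_fintype_card]
    field_simp
  · rw [subInd_apply_of_notMem hx, Finset.sum_eq_zero, mul_zero]
    intro n _
    refine subInd_apply_of_notMem fun h => hx ?_
    simpa using N.mul_mem n.2 h

omit [Finite G] in
theorem omega_subInd_eq [Fintype G] (χ : IrrCharacter G) (N : Subgroup G) [Fintype N] :
    omega (χ : G → ℂ) (subInd N) = (Nat.card N : ℂ)⁻¹ * (∑ n : N, (χ : G → ℂ) n) /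
      (χ : G → ℂ) 1 := by
  rw [omega_eq_sum, sum_subInd_mul]

theorem omega_subInd_zero_or_one (χ : IrrCharacter G) (N : Subgroup G) [N.Normal] :
    omega (χ : G → ℂ) (subInd N) = 0 ∨ omega (χ : G → ℂ) (subInd N) = 1 := by
  have := Fintype.ofFinite G
  have h := omega_conv χ (isClassFunction_subInd N) (isClassFunction_subInd N)
  rw [conv_subInd_self] at h
  rcases eq_or_ne (omega (χ : G → ℂ) (subInd N)) 0 with h0 | h0
  · exact Or.inl h0
  · exact Or.inr (mul_left_cancel₀ h0 (by rw [mul_one]; exact h.symm))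

theorem omega_subInd_eq_one_iff (χ : IrrCharacter G) (N : Subgroup G) :
    omega (χ : G → ℂ) (subInd N) = 1 ↔ ∀ n ∈ N, (χ : G → ℂ) n = (χ : G → ℂ) 1 := by
  classical
  have := Fintype.ofFinite G
  have := Fintype.ofFinite N
  have hN : (Nat.card N : ℂ) ≠ 0 := Nat.cast_ne_zero.mpr Nat.card_pos.ne'
  rw [omega_subInd_eq, div_eq_one_iff_eq (irr_one_ne_zero χ), inv_mul_eq_iff_eq_mul₀ hN]
  constructor
  · intro h n hn
    have hd : (χ : G → ℂ) 1 = ((charDegree (χ : G → ℂ) : ℝ) : ℂ) := by
      rw [Complex.ofReal_natCast, ← irr_one_eq]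
    have hle : ∀ m : N, ((χ : G → ℂ) m).re ≤ (charDegree (χ : G → ℂ) : ℝ) := fun m => by
      refine (Complex.re_le_norm _).trans ?_
      refine (CharCore.IsCharacter.norm_apply_le (CharCore.irr_isCharacter χ) _).trans_eq ?_
      rw [irr_one_eq, Complex.norm_natCast]
    have hsum : ∑ m : N, ((charDegree (χ : G → ℂ) : ℝ) - ((χ : G → ℂ) m).re) = 0 := by
      have := congrArg Complex.re h
      rw [Complex.re_sum, hd, ← Complex.ofReal_natCast, ← Complex.ofReal_mul,
        Complex.ofReal_re, Nat.card_eq_fintype_card] at this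
      rw [Finset.sum_sub_distrib, Finset.sum_const, Finset.card_univ, nsmul_eq_mul, this,
        sub_self]
    have hre := sub_eq_zero.mp ((Finset.sum_eq_zero_iff_of_nonneg
      (fun m _ => sub_nonneg.mpr (hle m))).mp hsum ⟨n, hn⟩ (Finset.mem_univ _))
    have hnorm := CharCore.IsCharacter.norm_apply_le (CharCore.irr_isCharacter χ) n
    rw [irr_one_eq, Complex.norm_natCast] at hnorm
    have him : ((χ : G → ℂ) n).im = 0 := by
      have h1 := Complex.sq_norm ((χ : G → ℂ) n)
      rw [Complex.normSq_apply] at h1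
      have h2 := pow_le_pow_left₀ (norm_nonneg _) hnorm 2
      rw [h1, ← show ((χ : G → ℂ) n).re = (charDegree (χ : G → ℂ) : ℝ) from hre.symm] at h2
      nlinarith [mul_self_nonneg ((χ : G → ℂ) n).im]
    rw [hd]
    exact Complex.ext (by rw [Complex.ofReal_re]; exact hre.symm)
      (by rw [Complex.ofReal_im]; exact him)
  · intro h
    rw [Finset.sum_congr rfl (fun (n : N) _ => h (n : G) n.2), Finset.sum_const, Finset.card_univ,
      nsmul_eq_mul, ← Nat.card_eq_fintype_card]

/-- A normal subgroup over whose elements the values do not sum to zero is in the kernel. -/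
theorem kernel_of_sum_ne_zero (χ : IrrCharacter G) (N : Subgroup G) [N.Normal] [Fintype N]
    (h : ∑ n : N, (χ : G → ℂ) n ≠ 0) : ∀ n ∈ N, (χ : G → ℂ) n = (χ : G → ℂ) 1 := by
  have := Fintype.ofFinite G
  rcases omega_subInd_zero_or_one χ N with h0 | h1
  · rw [omega_subInd_eq, div_eq_zero_iff, mul_eq_zero] at h0
    exact absurd h0 (by simp [h, irr_one_ne_zero χ])
  · exact (omega_subInd_eq_one_iff χ N).mp h1

/-- A normal `p'`-subgroup in the kernel of one member is in the kernel of all. -/
theorem kernel_of_sameBlock (hM : IsPModular p M) {χ ψ : IrrCharacter G}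
    (h : SameBlock M (χ : G → ℂ) (ψ : G → ℂ)) (N : Subgroup G) [N.Normal]
    (hN : ¬ p ∣ Nat.card N) (hk : ∀ n ∈ N, (χ : G → ℂ) n = (χ : G → ℂ) 1) :
    ∀ n ∈ N, (ψ : G → ℂ) n = (ψ : G → ℂ) 1 := by
  have := isPrime hM
  have := Fintype.ofFinite G
  have hint : IsIntClassFun M (subInd N) := ⟨isClassFunction_subInd N, fun x => by
    by_cases hx : x ∈ N
    · rw [subInd_apply_of_mem hx]; exact memLocalRing_natCast_inv hM hN
    · rw [subInd_apply_of_notMem hx]; exact memLocalRing_of_mem (zero_mem _)⟩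
  have hc := omega_sub_memLocalIdeal h hint
  rw [(omega_subInd_eq_one_iff χ N).mpr hk] at hc
  rcases omega_subInd_zero_or_one ψ N with h0 | h1
  · rw [h0, sub_zero] at hc
    exact absurd hc not_memLocalIdeal_one
  · exact (omega_subInd_eq_one_iff ψ N).mp h1

theorem sum_degree_mul_eq_blockCoeff [Fintype G] [Fintype (IrrCharacter G)]
    (B : Set (IrrCharacter G)) (g : G) :
    ∑ χ : IrrCharacter G, B.indicator 1 χ * ((χ : G → ℂ) 1 * (χ : G → ℂ) g) =
      (Nat.card G : ℂ) * blockCoeff B g⁻¹ := by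
  rw [blockCoeff_eq_sum, mul_inv_cancel_left₀ (Nat.cast_ne_zero.mpr Nat.card_pos.ne'), inv_inv]

omit [Finite G] in
theorem dvd_orderOf_of_isPGroup [Fact p.Prime] {Q : Subgroup G} (hQ : IsPGroup p Q) {x : G}
    (hx : x ∈ Q) (h1 : x ≠ 1) : p ∣ orderOf x := by
  have := hQ.dvd_orderOf (g := ⟨x, hx⟩) (by simpa [Subtype.ext_iff] using h1)
  rwa [Subgroup.orderOf_mk] at this

/-- The block idempotent does not vanish at `1`. -/
theorem blockCoeff_one_ne_zero {B : Set (IrrCharacter G)} (hB : B.Nonempty) :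
    blockCoeff B 1 ≠ 0 := by
  classical
  have := Fintype.ofFinite G
  have := Fintype.ofFinite (IrrCharacter G)
  obtain ⟨χ, hχ⟩ := hB
  have e : (∑ ψ : IrrCharacter G, B.indicator 1 ψ * ((ψ : G → ℂ) 1 * (ψ : G → ℂ) (1 : G)⁻¹)) =
      ((∑ ψ : IrrCharacter G, if ψ ∈ B then charDegree (ψ : G → ℂ) ^ 2 else 0 : ℕ) : ℂ) := by
    push_cast
    refine Finset.sum_congr rfl fun ψ _ => ?_
    by_cases h : ψ ∈ B
    · rw [if_pos h, Set.indicator_of_mem h, inv_one, irr_one_eq]; simp [sq]
    · rw [if_neg h, Set.indicator_of_notMem h, zero_mul]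
  rw [blockCoeff_eq_sum, e]
  refine mul_ne_zero (inv_ne_zero (Nat.cast_ne_zero.mpr Nat.card_pos.ne')) (Nat.cast_ne_zero.mpr ?_)
  intro h0
  have := Finset.sum_eq_zero_iff.mp h0 χ (Finset.mem_univ _)
  rw [if_pos hχ] at this
  exact (charDegree_pos χ).ne' (pow_eq_zero_iff (by norm_num) |>.mp this)

/-- Every block has a member with a given normal `p`-subgroup in its kernel. -/
theorem exists_mem_kernel_pSubgroup [Fact p.Prime] (hM : IsPModular p M)
    {B : Set (IrrCharacter G)} (hB : IsPBlock M B) (Q : Subgroup G) [Q.Normal]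
    (hQ : IsPGroup p Q) :
    ∃ χ ∈ B, ∀ n ∈ Q, ((χ : IrrCharacter G) : G → ℂ) n = (χ : G → ℂ) 1 := by
  classical
  have := isPrime hM
  have := Fintype.ofFinite G
  have := Fintype.ofFinite Q
  have := Fintype.ofFinite (IrrCharacter G)
  by_contra hno
  push Not at hno
  have hzero : ∑ n : Q, blockCoeff B ((n : G))⁻¹ = 0 := by
    refine mul_left_cancel₀ (Nat.cast_ne_zero.mpr (Nat.card_pos (α := G)).ne' : (_ : ℂ) ≠ 0) ?_
    rw [mul_zero, Finset.mul_sum]
    simp only [← sum_degree_mul_eq_blockCoeff]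
    rw [Finset.sum_comm]
    refine Finset.sum_eq_zero fun χ _ => ?_
    by_cases hχ : χ ∈ B
    · simp only [Set.indicator_of_mem hχ, Pi.one_apply, one_mul, ← Finset.mul_sum]
      by_contra hne
      obtain ⟨n, hn, hn'⟩ := hno χ hχ
      exact hn' (kernel_of_sum_ne_zero χ Q (fun h => hne (by rw [h, mul_zero])) n hn)
    · simp [Set.indicator_of_notMem hχ]
  rw [Fintype.sum_eq_single (1 : Q) fun n hn => blockCoeff_eq_zero_of_dvd_orderOf hM hB (by
    rw [orderOf_inv]
    exact dvd_orderOf_of_isPGroup hQ n.2 (fun h => hn (Subtype.ext h)))] at hzero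
  exact blockCoeff_one_ne_zero (isPBlock_nonempty hB) (by simpa using hzero)

variable (N : Subgroup G) [N.Normal]

/-- Push forward of a function to the quotient by a normal subgroup. -/
noncomputable def pushFun (a : G → ℂ) : G ⧸ N → ℂ :=
  fun q => ∑ᶠ x ∈ {x : G | (QuotientGroup.mk x : G ⧸ N) = q}, a x

omit [Finite G] [N.Normal] in
theorem pushFun_eq_sum [Fintype G] [DecidableEq (G ⧸ N)] (a : G → ℂ) (q : G ⧸ N) :
    pushFun N a q =
      ∑ x ∈ Finset.univ.filter (fun x : G => (QuotientGroup.mk x : G ⧸ N) = q), a x := by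
  rw [pushFun, finsum_mem_eq_toFinset_sum]
  exact Finset.sum_congr (by ext x; simp) fun _ _ => rfl

theorem isClassFunction_pushFun {a : G → ℂ} (ha : IsClassFunction G a) :
    IsClassFunction (G ⧸ N) (pushFun N a) := by
  classical
  have := Fintype.ofFinite G
  intro q r
  induction r using QuotientGroup.induction_on with
  | H h =>
    rw [pushFun_eq_sum, pushFun_eq_sum]
    refine Finset.sum_equiv (MulAut.conj h⁻¹).toEquiv (fun x => ?_) fun x _ => ?_
    · simp only [Finset.mem_filter, Finset.mem_univ, true_and, MulEquiv.toEquiv_eq_coe,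
        EquivLike.coe_coe, MulAut.conj_apply, QuotientGroup.mk_mul, QuotientGroup.mk_inv, inv_inv]
      constructor
      · intro hx; rw [hx]; group
      · intro hx; rw [← hx]; group
    · exact (ha x h⁻¹).symm

theorem isIntClassFun_pushFun [M.IsPrime] {a : G → ℂ} (ha : IsIntClassFun M a) :
    IsIntClassFun M (pushFun N a) := by
  classical
  have := Fintype.ofFinite G
  exact ⟨isClassFunction_pushFun N ha.1, fun q => by
    rw [pushFun_eq_sum]; exact memLocalRing_sum fun x _ => ha.2 x⟩

theorem omega_comp_mk (ψ : G ⧸ N → ℂ) (a : G → ℂ) :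
    omega (ψ ∘ QuotientGroup.mk) a = omega ψ (pushFun N a) := by
  classical
  have := Fintype.ofFinite G
  have := Fintype.ofFinite (G ⧸ N)
  rw [omega_eq_sum, omega_eq_sum, Function.comp_apply, QuotientGroup.mk_one]
  congr 1
  rw [← Finset.sum_fiberwise Finset.univ (fun x : G => (QuotientGroup.mk x : G ⧸ N))]
  refine Finset.sum_congr rfl fun q _ => ?_
  rw [pushFun_eq_sum, Finset.sum_mul]
  refine Finset.sum_congr rfl fun x hx => ?_
  rw [Function.comp_apply, (Finset.mem_filter.mp hx).2]

/-- An irreducible character of the quotient, inflated. -/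
def inflate (ψ : IrrCharacter (G ⧸ N)) : IrrCharacter G :=
  ⟨(ψ : G ⧸ N → ℂ) ∘ QuotientGroup.mk,
    CharCore.isIrrCharacter_comp_surjective ψ.2 (QuotientGroup.mk' N)
      (QuotientGroup.mk'_surjective N)⟩

theorem exists_inflate_eq (χ : IrrCharacter G) (h : ∀ n ∈ N, (χ : G → ℂ) n = (χ : G → ℂ) 1) :
    ∃ ψ : IrrCharacter (G ⧸ N), inflate N ψ = χ := by
  obtain ⟨ψ, -, hirr, he⟩ := CharCore.IsCharacter.exists_quotient (CharCore.irr_isCharacter χ) N h
  exact ⟨⟨ψ, hirr χ.2⟩, Subtype.ext (funext fun g => (he g).symm)⟩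

/-- Inflation preserves the relation of being in the same block. -/
theorem sameBlock_inflate (hM : IsPModular p M) {χ ψ : IrrCharacter (G ⧸ N)}
    (h : SameBlock M (χ : G ⧸ N → ℂ) (ψ : G ⧸ N → ℂ)) :
    SameBlock M (inflate N χ : G → ℂ) (inflate N ψ : G → ℂ) := by
  have := isPrime hM
  have := Fintype.ofFinite G
  have := Fintype.ofFinite (G ⧸ N)
  refine (sameBlock_iff_omega _ _).mpr fun a ha => ?_
  rw [show ((inflate N χ : IrrCharacter G) : G → ℂ) = (χ : G ⧸ N → ℂ) ∘ QuotientGroup.mk from rfl,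
    show ((inflate N ψ : IrrCharacter G) : G → ℂ) = (ψ : G ⧸ N → ℂ) ∘ QuotientGroup.mk from rfl,
    omega_comp_mk, omega_comp_mk]
  exact omega_sub_memLocalIdeal h (isIntClassFun_pushFun N ha)

/-- If every integral class function of the quotient is a push forward of one of the group,
inflation reflects the relation of being in the same block. -/
theorem sameBlock_of_inflate (hM : IsPModular p M) {χ ψ : IrrCharacter (G ⧸ N)}
    (hlift : ∀ c : G ⧸ N → ℂ, IsIntClassFun M c →
      ∃ a : G → ℂ, IsIntClassFun M a ∧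
        omega (χ : G ⧸ N → ℂ) (pushFun N a) = omega (χ : G ⧸ N → ℂ) c ∧
        omega (ψ : G ⧸ N → ℂ) (pushFun N a) = omega (ψ : G ⧸ N → ℂ) c)
    (h : SameBlock M (inflate N χ : G → ℂ) (inflate N ψ : G → ℂ)) :
    SameBlock M (χ : G ⧸ N → ℂ) (ψ : G ⧸ N → ℂ) := by
  have := isPrime hM
  have := Fintype.ofFinite G
  have := Fintype.ofFinite (G ⧸ N)
  refine (sameBlock_iff_omega _ _).mpr fun c hc => ?_
  obtain ⟨a, ha, h1, h2⟩ := hlift c hc
  rw [← h1, ← h2, ← omega_comp_mk, ← omega_comp_mk]
  exact omega_sub_memLocalIdeal h ha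

variable [Fact p.Prime]

theorem orbit_sum_pushFun (hM : IsPModular p M) (hQ : IsPGroup p N) {g : G}
    (hg : ∀ x, IsConj g x → x ∉ Subgroup.centralizer (N : Set G)) (q : G ⧸ N) :
    MemLocalIdeal M (pushFun N (classInd g) q) := by
  classical
  have := isPrime hM
  have := Fintype.ofFinite G
  let _ : MulAction N G :=
    { smul := fun u y => (u : G) * y * (u : G)⁻¹
      one_smul := fun y => by
        change ((1 : N) : G) * y * ((1 : N) : G)⁻¹ = y
        simp
      mul_smul := fun u v y => by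
        change ((u * v : N) : G) * y * ((u * v : N) : G)⁻¹ =
          (u : G) * ((v : G) * y * (v : G)⁻¹) * (u : G)⁻¹
        simp [mul_assoc] }
  rw [pushFun_eq_sum, Finset.sum_filter]
  have key := memLocalIdeal_sum_sub_fixed (α := G) (P := N) hM hQ
    (fun x => if (QuotientGroup.mk x : G ⧸ N) = q then classInd g x else 0) ?_ ?_
  · rw [Finset.sum_eq_zero (s := Finset.univ.filter _), sub_zero] at key
    · exact key
    · intro x hx
      rw [Finset.mem_filter, MulAction.mem_fixedPoints] at hx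
      split_ifs with hq
      · refine classInd_apply_of_not_isConj fun hc => hg x hc ?_
        rw [Subgroup.mem_centralizer_iff]
        intro u hu
        exact mul_inv_eq_iff_eq_mul.mp (hx.2 ⟨u, hu⟩)
      · rfl
  · intro u x
    change (if (QuotientGroup.mk ((u : G) * x * (u : G)⁻¹) : G ⧸ N) = q then
      classInd g ((u : G) * x * (u : G)⁻¹) else 0) = _
    have hu : (QuotientGroup.mk (u : G) : G ⧸ N) = 1 := (QuotientGroup.eq_one_iff _).mpr u.2
    rw [QuotientGroup.mk_mul, QuotientGroup.mk_mul, QuotientGroup.mk_inv, hu, inv_one, one_mul,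
      mul_one, isClassFunction_classInd g x u]
  · intro x
    split_ifs
    · exact (isIntClassFun_classInd g).2 x
    · exact memLocalRing_of_mem (zero_mem _)

/-- Classes missing the centralizer of a normal `p`-subgroup are killed by every block. -/
theorem centralChar_memLocalIdeal_of_notMem (hM : IsPModular p M) (hQ : IsPGroup p N) {g : G}
    (hg : ∀ x, IsConj g x → x ∉ Subgroup.centralizer (N : Set G)) (χ : IrrCharacter G) :
    MemLocalIdeal M (centralChar (χ : G → ℂ) g) := by
  have := isPrime hM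
  have := Fintype.ofFinite G
  have := Fintype.ofFinite (G ⧸ N)
  obtain ⟨ψ, hψ, hk⟩ := exists_mem_kernel_pSubgroup hM (isPBlock_blockOf χ) N hQ
  obtain ⟨φ, rfl⟩ := exists_inflate_eq N ψ hk
  by_contra hu
  have hu' := centralChar_unit_of_mem hM (isPBlock_blockOf χ) (mem_blockOf_self χ) hψ hu
  rw [← omega_classInd (irr_class _)] at hu'
  change ¬ MemLocalIdeal M (omega ((φ : G ⧸ N → ℂ) ∘ QuotientGroup.mk) (classInd g)) at hu'
  rw [omega_comp_mk] at hu'
  obtain ⟨q, hq, -⟩ := exists_unit_class hM φ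
    (isIntClassFun_pushFun N (isIntClassFun_classInd g)) hu'
  exact hq (orbit_sum_pushFun N hM hQ hg q)

/-- A normal `p`-subgroup lies in every defect group. -/
theorem le_defectGroup (hM : IsPModular p M) (hQ : IsPGroup p N) {B : Set (IrrCharacter G)}
    (hB : IsPBlock M B) {D : Subgroup G} (hD : IsDefectGroup p M B D) : N ≤ D := by
  obtain ⟨g, hg, hS⟩ := isDefectGroup_iff.mp hD
  have := isPrime hM
  obtain ⟨χ, hχ⟩ := isPBlock_nonempty hB
  have hex : ∃ x, IsConj g x ∧ x ∈ Subgroup.centralizer (N : Set G) := by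
    by_contra hno
    exact hg.2.2 χ hχ (centralChar_memLocalIdeal_of_notMem N hM hQ
      (fun x hx hc => hno ⟨x, hx, hc⟩) χ)
  obtain ⟨x, hx, hxN⟩ := hex
  obtain ⟨y, hy⟩ := hS.subConj_of_isConj hQ hx hxN
  have : N.map (MulAut.conj y).toMonoidHom = N := by
    ext z
    rw [map_conj_mem_iff]
    refine ⟨fun h => ?_, fun h => ?_⟩
    · simpa [mul_assoc] using Subgroup.Normal.conj_mem inferInstance _ h y
    · simpa [mul_assoc] using Subgroup.Normal.conj_mem inferInstance _ h y⁻¹
  rwa [this] at hy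

end Cfsg.Agent.BlocksDefect
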