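import Cfsg.Agent.Lib.BlocksDefect.Lifting
import Cfsg.Agent.Lib.BlocksCore.WeakOrth

/-!
# The pairing on `p`-regular elements, defect and height zero

`regPair p χ θ` is the sum over the `p`-regular elements of `χ x * θ x⁻¹`, divided by `χ 1`: the
value of the central character of `χ` at the class function `regInv p θ`.  Modulo the local
ideal it depends only on the block of `χ`, and it is a unit exactly when `θ` has height zero
in that block.  This gives the order of the defect groups.
-/

namespace Cfsg.Agent.BlocksDefect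

open BlocksCore

open scoped ComplexConjugate

variable {G : Type*} [Group G] [Finite G] {p : ℕ} {M : Ideal AlgInt}

/-- The function `x ↦ θ x⁻¹` on `p`-regular elements, zero elsewhere. -/
noncomputable def regInv (p : ℕ) (θ : G → ℂ) : G → ℂ :=
  fun x => if p ∣ orderOf x then 0 else θ x⁻¹

/-- The regular pairing of `χ` and `θ`, normalised at `χ`. -/
noncomputable def regPair (p : ℕ) (χ θ : G → ℂ) : ℂ := omega χ (regInv p θ)

omit [Finite G] in
theorem orderOf_conjugate (g x : G) : orderOf (x * g * x⁻¹) = orderOf g := by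
  rw [← MulAut.conj_apply, MulEquiv.orderOf_eq]

omit [Finite G] in
theorem isClassFunction_regInv {θ : G → ℂ} (hθ : IsClassFunction G θ) :
    IsClassFunction G (regInv p θ) := by
  intro g h
  simp only [regInv, orderOf_conjugate, show (h * g * h⁻¹)⁻¹ = h * g⁻¹ * h⁻¹ by group, hθ g⁻¹ h]

theorem isIntClassFun_regInv [M.IsPrime] (θ : IrrCharacter G) :
    IsIntClassFun M (regInv p (θ : G → ℂ)) := by
  have := Fintype.ofFinite G
  refine ⟨isClassFunction_regInv (irr_class θ), fun x => ?_⟩
  unfold regInv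
  split_ifs
  · exact memLocalRing_of_mem (zero_mem _)
  · exact memLocalRing_of_isIntegral (isIntegral_irr θ _)

omit [Finite G] in
/-- Symmetry of the pairing. -/
theorem apply_one_mul_regPair [Fintype G] (χ θ : IrrCharacter G) :
    (χ : G → ℂ) 1 * regPair p (χ : G → ℂ) θ = (θ : G → ℂ) 1 * regPair p (θ : G → ℂ) χ := by
  rw [regPair, regPair, omega_eq_sum, omega_eq_sum, mul_div_cancel₀ _ (irr_one_ne_zero χ),
    mul_div_cancel₀ _ (irr_one_ne_zero θ)]
  refine Fintype.sum_equiv (Equiv.inv G) _ _ fun x => ?_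
  simp only [regInv, Equiv.inv_apply, orderOf_inv, inv_inv]
  split_ifs <;> ring

theorem regPair_eq_zero (hM : IsPModular p M) {χ θ : IrrCharacter G}
    (h : ¬ SameBlock M (χ : G → ℂ) (θ : G → ℂ)) : regPair p (χ : G → ℂ) θ = 0 := by
  classical
  have := Fintype.ofFinite G
  have h0 := sum_pRegular_mul_conj hM χ θ h
  rw [finsum_mem_def, finsum_eq_sum_of_fintype] at h0
  rw [regPair, omega_eq_sum, div_eq_zero_iff]
  refine Or.inl (h0 ▸ Finset.sum_congr rfl fun x _ => ?_)
  simp only [regInv, Set.indicator_apply, Set.mem_ofPred_eq, conj_irr]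
  split_ifs <;> ring

theorem regPair_congr (hM : IsPModular p M) {B : Set (IrrCharacter G)} (hB : IsPBlock M B)
    {χ χ' : IrrCharacter G} (hχ : χ ∈ B) (hχ' : χ' ∈ B) (θ : IrrCharacter G) :
    MemLocalIdeal M (regPair p (χ : G → ℂ) θ - regPair p (χ' : G → ℂ) θ) := by
  have := isPrime hM
  have := Fintype.ofFinite G
  exact omega_sub_memLocalIdeal (sameBlock_of_mem hB hχ hχ') (isIntClassFun_regInv θ)

theorem regPair_memLocalRing [M.IsPrime] (χ θ : IrrCharacter G) :
    MemLocalRing M (regPair p (χ : G → ℂ) θ) := by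
  have := Fintype.ofFinite G
  exact omega_memLocalRing χ (isIntClassFun_regInv θ)

theorem regPair_unit_congr (hM : IsPModular p M) {B : Set (IrrCharacter G)} (hB : IsPBlock M B)
    {χ χ' : IrrCharacter G} (hχ : χ ∈ B) (hχ' : χ' ∈ B) {θ : IrrCharacter G}
    (h : ¬ MemLocalIdeal M (regPair p (χ : G → ℂ) θ)) :
    ¬ MemLocalIdeal M (regPair p (χ' : G → ℂ) θ) := by
  have := isPrime hM
  exact fun hc => h (by simpa using memLocalIdeal_add (regPair_congr hM hB hχ hχ' θ) hc)

/-- If `n x = m y` with `x` a unit, then the `p`-part of `m` is at most that of `n`, and equality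
makes `y` a unit. -/
theorem factorization_of_mul_eq (hM : IsPModular p M) {n m : ℕ} (hn : n ≠ 0) (_hm : m ≠ 0)
    {x y : ℂ} (hx : MemLocalRing M x) (hxu : ¬ MemLocalIdeal M x) (hy : MemLocalRing M y)
    (h : (n : ℂ) * x = (m : ℂ) * y) :
    m.factorization p ≤ n.factorization p ∧
      (n.factorization p ≤ m.factorization p → ¬ MemLocalIdeal M y) := by
  have := isPrime hM
  have hp0 : (p : ℂ) ≠ 0 := Nat.cast_ne_zero.mpr hM.1.ne_zero
  set a := n.factorization p with ha
  set b := m.factorization p with hb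
  have hn' := Nat.ordProj_mul_ordCompl_eq_self n p
  have hm' := Nat.ordProj_mul_ordCompl_eq_self m p
  set n' := n / p ^ a with hn'def
  set m' := m / p ^ b with hm'def
  rw [← hn', ← hm', Nat.cast_mul, Nat.cast_mul, Nat.cast_pow, Nat.cast_pow] at h
  have hnx : ¬ MemLocalIdeal M ((n' : ℂ) * x) := fun hc =>
    ((memLocalIdeal_mem_or_mem (memLocalRing_natCast _) hx hc).elim
      (fun h1 => Nat.not_dvd_ordCompl hM.1 hn ((memLocalIdeal_natCast_iff hM _).mp h1)) hxu)
  rw [← ha, ← hb] at h
  have hba : b ≤ a := by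
    by_contra hlt
    obtain ⟨k, hk⟩ := Nat.exists_eq_add_of_lt (not_le.mp hlt)
    rw [hk, pow_add, pow_add, mul_assoc, mul_assoc, mul_assoc, mul_assoc] at h
    refine hnx ?_
    rw [mul_left_cancel₀ (pow_ne_zero a hp0) h]
    refine memLocalIdeal_mul_left ((localRing M).pow_mem (memLocalRing_natCast p) k) ?_
    refine memLocalIdeal_mul_right ?_ ((localRing M).mul_mem (memLocalRing_natCast _) hy)
    rw [pow_one, memLocalIdeal_natCast_iff hM]
  refine ⟨hba, fun hle hyI => ?_⟩
  · have hab : a = b := le_antisymm hle hba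
    rw [hab, mul_assoc, mul_assoc] at h
    exact hnx (mul_left_cancel₀ (pow_ne_zero b hp0) h ▸
      memLocalIdeal_mul_left (memLocalRing_natCast _) hyI)

theorem apply_one_mul_centralChar (χ : IrrCharacter G) (g : G) :
    (charDegree (χ : G → ℂ) : ℂ) * centralChar (χ : G → ℂ) g =
      ((Subgroup.centralizer ({g} : Set G)).index : ℂ) * (χ : G → ℂ) g := by
  have := Fintype.ofFinite G
  rw [← irr_one_eq, centralChar, mul_div_cancel₀ _ (irr_one_ne_zero χ)]

/-- A unit central character value bounds the `p`-part of the class size by that of the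
degree. -/
theorem index_factorization_le_of_centralChar (hM : IsPModular p M) (χ : IrrCharacter G) {g : G}
    (h : ¬ MemLocalIdeal M (centralChar (χ : G → ℂ) g)) :
    ((Subgroup.centralizer ({g} : Set G)).index).factorization p ≤
      (charDegree (χ : G → ℂ)).factorization p := by
  have := isPrime hM
  have := Fintype.ofFinite G
  exact (factorization_of_mul_eq hM (charDegree_pos χ).ne' Subgroup.FiniteIndex.index_ne_zero
    (centralChar_memLocalRing χ g) h (memLocalRing_of_isIntegral (isIntegral_irr χ g))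
    (apply_one_mul_centralChar χ g)).1

/-- A unit character value bounds the `p`-part of the degree by that of the class size. -/
theorem degree_factorization_le_of_apply (hM : IsPModular p M) (χ : IrrCharacter G) {g : G}
    (h : ¬ MemLocalIdeal M ((χ : G → ℂ) g)) :
    (charDegree (χ : G → ℂ)).factorization p ≤
      ((Subgroup.centralizer ({g} : Set G)).index).factorization p := by
  have := isPrime hM
  have := Fintype.ofFinite G
  exact (factorization_of_mul_eq hM Subgroup.FiniteIndex.index_ne_zero (charDegree_pos χ).ne'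
    (memLocalRing_of_isIntegral (isIntegral_irr χ g)) h (centralChar_memLocalRing χ g)
    (apply_one_mul_centralChar χ g).symm).1

omit [Finite G] in
theorem centralizer_inv (g : G) :
    Subgroup.centralizer ({g⁻¹} : Set G) = Subgroup.centralizer ({g} : Set G) := by
  ext y
  simp only [mem_centralizer_singleton]
  constructor <;> intro h
  · simpa using (Commute.inv_right (show Commute y g⁻¹ from h)).eq
  · exact (Commute.inv_right (show Commute y g from h)).eq

variable [Fact p.Prime] {B : Set (IrrCharacter G)}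

theorem exists_regPair_unit (hM : IsPModular p M) (hB : IsPBlock M B) :
    ∃ θ ∈ B, ∀ χ ∈ B, ¬ MemLocalIdeal M (regPair p ((χ : IrrCharacter G) : G → ℂ) θ) := by
  classical
  have := isPrime hM
  have := Fintype.ofFinite G
  have := Fintype.ofFinite (IrrCharacter G)
  obtain ⟨χ, hχ⟩ := isPBlock_nonempty hB
  have hf := isIntClassFun_blockCoeff hM hB
  obtain ⟨c, hc, hcx⟩ := exists_lift (p := p) hM (a := fun x => blockCoeff B x⁻¹)
    ⟨fun g h => by simp only [show (h * g * h⁻¹)⁻¹ = h * g⁻¹ * h⁻¹ by group, hf.1 g⁻¹ h],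
      fun g => hf.2 _⟩
  have hsum : blockCoeff B = ∑ θ : IrrCharacter G, c θ • regInv p (θ : G → ℂ) := by
    funext x
    rw [Finset.sum_apply]
    simp only [Pi.smul_apply, regInv, smul_eq_mul, mul_ite, mul_zero]
    by_cases hx : p ∣ orderOf x
    · simp [hx, blockCoeff_eq_zero_of_dvd_orderOf hM hB hx]
    · simp only [hx, if_false]
      rw [← hcx x⁻¹ (by rwa [orderOf_inv]), inv_inv]
  have h1 : ¬ MemLocalIdeal M (∑ θ : IrrCharacter G, c θ * regPair p (χ : G → ℂ) θ) := by
    have e : ∑ θ : IrrCharacter G, c θ * regPair p (χ : G → ℂ) θ = 1 := by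
      have := omega_blockCoeff B χ
      rw [hsum, omega_sum, Set.indicator_of_mem hχ] at this
      simpa [omega_smul, regPair] using this
    rw [e]
    exact not_memLocalIdeal_one
  obtain ⟨θ, hθ⟩ : ∃ θ : IrrCharacter G, ¬ MemLocalIdeal M (regPair p (χ : G → ℂ) θ) := by
    by_contra hno
    push Not at hno
    exact h1 (memLocalIdeal_sum fun θ _ => memLocalIdeal_mul_left (hc θ) (hno θ))
  refine ⟨θ, ?_, fun χ' hχ' => regPair_unit_congr hM hB hχ hχ' hθ⟩
  rw [isPBlock_eq_blockOf hB hχ]
  by_contra hn
  exact hθ (regPair_eq_zero hM hn ▸ memLocalIdeal_zero)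

/-- There is a member with unit pairing and least `p`-part of degree. -/
theorem exists_regPair_unit_min (hM : IsPModular p M) (hB : IsPBlock M B) :
    ∃ θ ∈ B, (∀ χ ∈ B, ¬ MemLocalIdeal M (regPair p ((χ : IrrCharacter G) : G → ℂ) θ)) ∧
      ∀ χ ∈ B, (charDegree (θ : G → ℂ)).factorization p ≤
        (charDegree ((χ : IrrCharacter G) : G → ℂ)).factorization p := by
  have := isPrime hM
  have := Fintype.ofFinite G
  obtain ⟨θ, hθB, hθ⟩ := exists_regPair_unit hM hB
  refine ⟨θ, hθB, hθ, fun χ hχ => ?_⟩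
  refine (factorization_of_mul_eq hM (charDegree_pos χ).ne' (charDegree_pos θ).ne'
    (regPair_memLocalRing (p := p) χ θ) (hθ χ hχ) (regPair_memLocalRing (p := p) θ χ) ?_).1
  rw [← irr_one_eq, ← irr_one_eq]
  exact apply_one_mul_regPair χ θ

omit [Finite G] [Fact p.Prime] in
theorem blockHeight_eq_zero_iff {χ : IrrCharacter G} (hχ : χ ∈ B) :
    blockHeight p B (χ : G → ℂ) = 0 ↔
      ∀ ψ ∈ B, (charDegree (χ : G → ℂ)).factorization p ≤
        (charDegree ((ψ : IrrCharacter G) : G → ℂ)).factorization p := by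
  rw [blockHeight, Nat.sub_eq_zero_iff_le]
  refine ⟨fun h ψ hψ => h.trans (Nat.sInf_le ⟨ψ, hψ, rfl⟩), fun h => ?_⟩
  obtain ⟨ψ, hψ, heq⟩ := Nat.sInf_mem (Set.Nonempty.image
    (fun χ : IrrCharacter G => (charDegree (χ : G → ℂ)).factorization p) ⟨χ, hχ⟩)
  exact (h ψ hψ).trans heq.le

/-- The pairing with a member of the block is a unit exactly at height zero. -/
theorem regPair_unit_iff (hM : IsPModular p M) (hB : IsPBlock M B) {χ θ : IrrCharacter G}
    (hχ : χ ∈ B) (hθ : θ ∈ B) :
    ¬ MemLocalIdeal M (regPair p (χ : G → ℂ) θ) ↔ blockHeight p B (θ : G → ℂ) = 0 := by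
  have := isPrime hM
  have := Fintype.ofFinite G
  obtain ⟨θ₀, h₀B, h₀, hmin⟩ := exists_regPair_unit_min hM hB
  rw [blockHeight_eq_zero_iff hθ]
  constructor
  · intro hu ψ hψ
    refine (factorization_of_mul_eq hM (charDegree_pos ψ).ne' (charDegree_pos θ).ne'
      (regPair_memLocalRing (p := p) ψ θ) (regPair_unit_congr hM hB hχ hψ hu)
      (regPair_memLocalRing (p := p) θ ψ) ?_).1
    rw [← irr_one_eq, ← irr_one_eq]
    exact apply_one_mul_regPair ψ θ
  · intro hmθ
    refine regPair_unit_congr hM hB h₀B hχ ?_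
    refine (factorization_of_mul_eq hM (charDegree_pos θ).ne' (charDegree_pos θ₀).ne'
      (regPair_memLocalRing (p := p) θ θ₀) (h₀ θ hθ) (regPair_memLocalRing (p := p) θ₀ θ) ?_).2
      (hmθ θ₀ h₀B)
    rw [← irr_one_eq, ← irr_one_eq]
    exact apply_one_mul_regPair θ θ₀

/-- The pairing is a unit exactly at the height zero members of the block. -/
theorem regPair_unit_iff_mem (hM : IsPModular p M) (hB : IsPBlock M B) {χ θ : IrrCharacter G}
    (hχ : χ ∈ B) :
    ¬ MemLocalIdeal M (regPair p (χ : G → ℂ) θ) ↔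
      θ ∈ B ∧ blockHeight p B (θ : G → ℂ) = 0 := by
  have := isPrime hM
  refine ⟨fun h => ?_, fun h => (regPair_unit_iff hM hB hχ h.1).mpr h.2⟩
  have hθ : θ ∈ B := by
    rw [isPBlock_eq_blockOf hB hχ]
    by_contra hn
    exact h (regPair_eq_zero hM hn ▸ memLocalIdeal_zero)
  exact ⟨hθ, (regPair_unit_iff hM hB hχ hθ).mp h⟩

theorem exists_height_zero (hM : IsPModular p M) (hB : IsPBlock M B) :
    ∃ θ ∈ B, blockHeight p B ((θ : IrrCharacter G) : G → ℂ) = 0 := by
  obtain ⟨θ, hθ, -, hmin⟩ := exists_regPair_unit_min hM hB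
  exact ⟨θ, hθ, (blockHeight_eq_zero_iff hθ).mpr hmin⟩

omit [Fact p.Prime] in
theorem index_factorization (g : G) :
    ((Subgroup.centralizer ({g} : Set G)).index).factorization p =
      (Nat.card G).factorization p -
        (Nat.card (Subgroup.centralizer ({g} : Set G))).factorization p := by
  have h := congrArg (fun n => n.factorization p)
    (Subgroup.card_mul_index (Subgroup.centralizer ({g} : Set G)))
  simp only [Nat.factorization_mul Nat.card_pos.ne' Subgroup.FiniteIndex.index_ne_zero,
    Finsupp.add_apply] at h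
  omega

omit [Fact p.Prime] in
theorem centralizer_factorization_le (g : G) :
    (Nat.card (Subgroup.centralizer ({g} : Set G))).factorization p ≤
      (Nat.card G).factorization p :=
  (Nat.factorization_le_iff_dvd Nat.card_pos.ne' Nat.card_pos.ne').mpr
    (Subgroup.card_subgroup_dvd_card _) p

/-- The least `p`-part of a degree in `B`, and the order of a defect group. -/
theorem defectGroup_natCard (hM : IsPModular p M) (hB : IsPBlock M B) {D : Subgroup G}
    (hD : IsDefectGroup p M B D) : Nat.card D = p ^ blockDefect p B := by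
  have := isPrime hM
  have := Fintype.ofFinite G
  obtain ⟨g, hg, hS⟩ := isDefectGroup_iff.mp hD
  obtain ⟨θ, hθ, hu, hmin⟩ := exists_regPair_unit_min hM hB
  have hinf : sInf ((fun χ : IrrCharacter G => (charDegree (χ : G → ℂ)).factorization p) '' B) =
      (charDegree (θ : G → ℂ)).factorization p := by
    refine le_antisymm (Nat.sInf_le ⟨θ, hθ, rfl⟩) ?_
    obtain ⟨ψ, hψ, heq⟩ := Nat.sInf_mem (Set.Nonempty.image
      (fun χ : IrrCharacter G => (charDegree (χ : G → ℂ)).factorization p) ⟨θ, hθ⟩)
    exact heq ▸ hmin ψ hψ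
  rw [blockDefect, hinf, hS.natCard]
  congr 1
  have hlow := index_factorization_le_of_centralChar hM θ (hg.2.2 θ hθ)
  obtain ⟨y, hy1, hy2⟩ := exists_unit_class hM θ (isIntClassFun_regInv θ) (hu θ hθ)
  have hyreg : ¬ p ∣ orderOf y := fun hd => hy1 (by
    rw [regInv, if_pos hd]
    exact memLocalIdeal_zero)
  have hyv : ¬ MemLocalIdeal M ((θ : G → ℂ) y⁻¹) := by rwa [regInv, if_neg hyreg] at hy1
  have hupp := degree_factorization_le_of_apply hM θ hyv
  rw [centralizer_inv] at hupp
  obtain ⟨Q, hQ⟩ := exists_isSylowCent p y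
  have hdvd := (defectGroup_subConj_of_centralChar hM hB hD hθ hQ hy2).card_dvd
  rw [hS.natCard, hQ.natCard] at hdvd
  have hle := (Nat.pow_dvd_pow_iff_le_right hM.1.one_lt).mp hdvd
  rw [index_factorization] at hlow hupp
  have := centralizer_factorization_le (p := p) g
  have := centralizer_factorization_le (p := p) y
  omega

end Cfsg.Agent.BlocksDefect
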