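import Cfsg.Agent.Lib.BlocksDefect.Covering
import Cfsg.Agent.Lib.BlocksCore.FirstMain
import Cfsg.Agent.S0916

/-!
# The extended first main theorem: blocks of `P · C(P)`
-/

set_option linter.unusedSectionVars false

namespace Cfsg.Agent.BlocksDefect

open BlocksCore

section General

variable {H : Type*} [Group H] [Finite H] {p : ℕ} {M : Ideal AlgInt}

/-- A union of blocks has an integral coefficient function. -/
theorem isIntClassFun_blockCoeff_saturated (hM : IsPModular p M) (A : Set (IrrCharacter H))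
    (hA : ∀ χ ψ : IrrCharacter H, χ ∈ A → SameBlock M (χ : H → ℂ) (ψ : H → ℂ) → ψ ∈ A) :
    IsIntClassFun M (blockCoeff A) := by
  classical
  have := isPrime hM
  have := Fintype.ofFinite H
  have := finite_irr (G := H)
  have := Fintype.ofFinite (IrrCharacter H)
  have hprod : (1 - ∏ χ ∈ Finset.univ.filter (· ∈ A),
      (1 - (blockOf M ((χ : IrrCharacter H) : H → ℂ)).indicator (1 : IrrCharacter H → ℂ))) ∈
      omegaRing M :=
    sub_mem (one_mem _) (prod_mem fun χ _ => sub_mem (one_mem _)
      (indicator_block_mem_omegaRing (isPBlock_blockOf χ)))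
  obtain ⟨c, hc, hcv⟩ := hprod
  convert hc using 1
  refine eq_of_omega_eq (isClassFunction_blockCoeff _) hc.1 fun θ => ?_
  rw [omega_blockCoeff, hcv θ, Pi.sub_apply, Pi.one_apply, Finset.prod_apply]
  by_cases hθ : θ ∈ A
  · rw [Set.indicator_of_mem hθ, Finset.prod_eq_zero
      (Finset.mem_filter.mpr ⟨Finset.mem_univ θ, hθ⟩)
      (by rw [Pi.sub_apply, Set.indicator_of_mem (mem_blockOf_self θ)]; simp), sub_zero,
      Pi.one_apply]
  · rw [Set.indicator_of_notMem hθ, Finset.prod_eq_one fun χ hχ => by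
      rw [Pi.sub_apply, Set.indicator_of_notMem fun h =>
        hθ (hA χ θ (Finset.mem_filter.mp hχ).2 h)]
      simp, sub_self]

/-- The character composed with an automorphism. -/
def twist (σ : H ≃* H) (θ : IrrCharacter H) : IrrCharacter H :=
  ⟨fun h => (θ : H → ℂ) (σ h),
    CharCore.isIrrCharacter_comp_surjective θ.2 σ.toMonoidHom σ.surjective⟩

theorem twist_symm_twist (σ : H ≃* H) (θ : IrrCharacter H) : twist σ (twist σ.symm θ) = θ :=
  Subtype.ext (funext fun h => congrArg (θ : H → ℂ) (σ.symm_apply_apply h))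

theorem omega_twist (σ : H ≃* H) (θ : IrrCharacter H) (a : H → ℂ) :
    omega (twist σ θ : H → ℂ) a = omega (θ : H → ℂ) (fun h => a (σ.symm h)) := by
  have := Fintype.ofFinite H
  rw [omega_eq_sum, omega_eq_sum]
  congr 1
  · exact Fintype.sum_equiv σ.toEquiv _ _ fun h => by simp [twist]
  · simp [twist]

theorem isClassFunction_comp_equiv (σ : H ≃* H) {a : H → ℂ} (ha : IsClassFunction H a) :
    IsClassFunction H (fun h => a (σ h)) := fun g h => by
  simp only [map_mul, map_inv]; exact ha _ _

theorem sameBlock_twist (hM : IsPModular p M) (σ : H ≃* H) {θ θ' : IrrCharacter H}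
    (h : SameBlock M (θ : H → ℂ) (θ' : H → ℂ)) :
    SameBlock M (twist σ θ : H → ℂ) (twist σ θ' : H → ℂ) := by
  have := isPrime hM
  have := Fintype.ofFinite H
  rw [sameBlock_iff_omega]
  intro a ha
  rw [omega_twist, omega_twist]
  exact omega_sub_memLocalIdeal h ⟨isClassFunction_comp_equiv σ.symm ha.1, fun x => ha.2 _⟩

theorem blockCoeff_comp_equiv (σ : H ≃* H) {A : Set (IrrCharacter H)}
    (hA : ∀ θ, twist σ.symm θ ∈ A ↔ θ ∈ A) (h : H) : blockCoeff A (σ h) = blockCoeff A h := by
  have := Fintype.ofFinite H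
  refine congrFun (eq_of_omega_eq (a := fun x => blockCoeff A (σ x))
    (isClassFunction_comp_equiv σ (isClassFunction_blockCoeff A))
    (isClassFunction_blockCoeff A) fun θ => ?_) h
  have e := omega_twist σ.symm θ (blockCoeff A)
  rw [MulEquiv.symm_symm] at e
  rw [← e, omega_blockCoeff, omega_blockCoeff]
  exact Set.indicator_eq_indicator (hA θ) rfl

end General

variable {G : Type*} [Group G] [Finite G] {p : ℕ} [Fact p.Prime] {M : Ideal AlgInt}
  {P K : Subgroup G}

/-- Conjugation by an element normalizing `K`. -/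
def normConj (n : G) (hn : ∀ k : G, k ∈ K ↔ n * k * n⁻¹ ∈ K) : K ≃* K where
  toFun k := ⟨n * k * n⁻¹, (hn k).mp k.2⟩
  invFun k := ⟨n⁻¹ * k * n, (hn _).mpr (by
    rw [show n * (n⁻¹ * (k : G) * n) * n⁻¹ = k by group]; exact k.2)⟩
  left_inv k := Subtype.ext (by simp only; group)
  right_inv k := Subtype.ext (by simp only; group)
  map_mul' a b := Subtype.ext (by simp only [Subgroup.coe_mul]; group)

theorem mem_sup_centralizer_iff {n : G} (hn : n ∈ Subgroup.normalizer (P : Set G)) (k : G) :
    k ∈ P ⊔ Subgroup.centralizer (P : Set G) ↔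
      n * k * n⁻¹ ∈ P ⊔ Subgroup.centralizer (P : Set G) := by
  have := Fintype.ofFinite G
  have h : ∀ {m : G}, m ∈ Subgroup.normalizer (P : Set G) → ∀ {x : G},
      x ∈ P ⊔ Subgroup.centralizer (P : Set G) →
        m * x * m⁻¹ ∈ P ⊔ Subgroup.centralizer (P : Set G) := by
    intro m hm x hx
    have hle : (P ⊔ Subgroup.centralizer (P : Set G)).map (MulAut.conj m).toMonoidHom ≤
        P ⊔ Subgroup.centralizer (P : Set G) := by
      rw [Subgroup.map_sup]
      refine sup_le_sup ?_ ?_
      · rintro _ ⟨u, hu, rfl⟩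
        exact (Subgroup.mem_normalizer_iff.mp hm u).mp hu
      · rintro _ ⟨u, hu, rfl⟩
        exact (conj_mem_centralizer_iff hm).mpr hu
    exact hle ⟨x, hx, rfl⟩
  refine ⟨h hn, fun hk => ?_⟩
  have := h (inv_mem hn) hk
  rwa [show n⁻¹ * (n * k * n⁻¹) * n⁻¹⁻¹ = k by group] at this

theorem mem_iff_of_eq_sup (hK : K = P ⊔ Subgroup.centralizer (P : Set G)) {n : G}
    (hn : n ∈ Subgroup.normalizer (P : Set G)) (k : G) : k ∈ K ↔ n * k * n⁻¹ ∈ K := by
  subst hK
  exact mem_sup_centralizer_iff hn k

/-- Every block inducing `B` from `P · C(P)` has defect group `P`. -/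
theorem defectGroup_of_inducing (hM : IsPModular p M) {B : Set (IrrCharacter G)}
    (hB : IsPBlock M B) (hBP : IsDefectGroup p M B P) (hPK : P ≤ K)
    (hKN : K ≤ Subgroup.normalizer (P : Set G)) {b : Set (IrrCharacter K)}
    (hind : IsInducedBlock M K b B) : IsDefectGroup p M b (P.subgroupOf K) := by
  have := isPrime hM
  have hP := isPGroup_of_isDefectGroup hBP
  obtain ⟨E', hE'⟩ := exists_isDefectGroup hM hind.1
  haveI : (P.subgroupOf K).Normal := Subgroup.normal_subgroupOf_of_le_normalizer hKN
  have hPE := le_defectGroup (P.subgroupOf K) hM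
    (hP.of_equiv (Subgroup.subgroupOfEquivOfLe hPK).symm) hind.1 hE'
  obtain ⟨E, hE, hle⟩ := exists_defectGroup_ge hM hind hE'
  obtain ⟨x, hx⟩ := isConj_defectGroup hM hB hBP hE
  have h4 : Nat.card E = Nat.card P := by rw [← hx]; exact natCard_map_conj P x
  have h5 : Nat.card E' ≤ Nat.card P := by
    rw [← h4, Nat.card_congr
      (Subgroup.equivMapOfInjective E' _ (Subgroup.subtype_injective _)).toEquiv]
    exact Subgroup.card_le_of_le hle
  have h6 : P.subgroupOf K = E' := Subgroup.eq_of_le_of_card_ge hPE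
    (h5.trans (Nat.card_congr (Subgroup.subgroupOfEquivOfLe hPK).toEquiv).ge)
  rwa [h6]

/-- Blocks of `P · C(P)` inducing `B` are conjugate under the normalizer of `P`. -/
theorem conj_of_inducing (hM : IsPModular p M) {B : Set (IrrCharacter G)}
    (hB : IsPBlock M B) (hBP : IsDefectGroup p M B P)
    (hK : K = P ⊔ Subgroup.centralizer (P : Set G)) {b b' : Set (IrrCharacter K)}
    (hb : IsInducedBlock M K b B) (hb' : IsInducedBlock M K b' B) :
    ∃ n, ∃ hn : n ∈ Subgroup.normalizer (P : Set G),
      ∀ θ ∈ b, twist (normConj n (mem_iff_of_eq_sup hK hn)) θ ∈ b' := by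
  classical
  have := isPrime hM
  have := Fintype.ofFinite G
  have := Fintype.ofFinite K
  have hP := isPGroup_of_isDefectGroup hBP
  have hPK : P ≤ K := hK ▸ le_sup_left
  have hCK : Subgroup.centralizer (P : Set G) ≤ K := hK ▸ le_sup_right
  have hKN : K ≤ Subgroup.normalizer (P : Set G) := hK ▸
    sup_le Subgroup.le_normalizer (Subgroup.centralizer_le_normalizer _)
  obtain ⟨ξ, hξ⟩ := isPBlock_nonempty hb.1
  obtain ⟨ξ', hξ'⟩ := isPBlock_nonempty hb'.1
  obtain ⟨χ, hχ⟩ := isPBlock_nonempty hB
  obtain ⟨g, hg, hS⟩ := isDefectGroup_iff.mp hBP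
  set O : Set (IrrCharacter K) := {θ | ∃ n, ∃ hn : n ∈ Subgroup.normalizer (P : Set G),
    twist (normConj n (mem_iff_of_eq_sup hK hn)) θ ∈ b'} with hO
  suffices ξ ∈ O by
    obtain ⟨n, hn, hmem⟩ := this
    refine ⟨n, hn, fun θ hθ => ?_⟩
    rw [isPBlock_eq_blockOf hb'.1 hmem]
    exact sameBlock_twist hM _ (sameBlock_of_mem hb.1 hξ hθ)
  by_contra hξO
  have hsat : ∀ θ θ' : IrrCharacter K, θ ∈ O → SameBlock M (θ : K → ℂ) (θ' : K → ℂ) → θ' ∈ O := by
    rintro θ θ' ⟨n, hn, hmem⟩ hsame
    refine ⟨n, hn, ?_⟩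
    rw [isPBlock_eq_blockOf hb'.1 hmem]
    exact sameBlock_twist hM _ hsame
  set e := blockCoeff O with he
  have heI : IsIntClassFun M e := isIntClassFun_blockCoeff_saturated hM O hsat
  have heinv : ∀ m (hm : m ∈ Subgroup.normalizer (P : Set G)) (k : K),
      e (normConj m (mem_iff_of_eq_sup hK hm) k) = e k := by
    intro m hm k
    refine blockCoeff_comp_equiv _ (fun θ => ?_) k
    constructor
    · rintro ⟨n, hn, hmem⟩
      refine ⟨m⁻¹ * n, mul_mem (inv_mem hm) hn, ?_⟩
      convert hmem using 1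
      refine Subtype.ext (funext fun h => congrArg (θ : K → ℂ) (Subtype.ext ?_))
      show m⁻¹ * n * (h : G) * (m⁻¹ * n)⁻¹ = m⁻¹ * (n * (h : G) * n⁻¹) * m
      group
    · rintro ⟨n, hn, hmem⟩
      refine ⟨m * n, mul_mem hm hn, ?_⟩
      convert hmem using 1
      refine Subtype.ext (funext fun h => congrArg (θ : K → ℂ) (Subtype.ext ?_))
      show m⁻¹ * (m * n * (h : G) * (m * n)⁻¹) * m = n * (h : G) * n⁻¹
      group
  set A : G → ℂ := extFun e with hA
  set Bf : G → ℂ := ((Subgroup.centralizer (P : Set G) : Subgroup G) : Set G).indicator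
    (classInd g) with hBf
  have hAs : ∀ x, x ∉ K → A x = 0 := fun x hx => extFun_notMem e hx
  have hAinv : ∀ m ∈ Subgroup.normalizer (P : Set G), ∀ y, A (m * y * m⁻¹) = A y := by
    intro m hm y
    by_cases hy : y ∈ K
    · exact (extFun_coe e ⟨_, (mem_iff_of_eq_sup hK hm y).mp hy⟩).trans
        ((heinv m hm ⟨y, hy⟩).trans (extFun_coe e ⟨y, hy⟩).symm)
    · rw [hAs y hy, hAs _ fun h => hy ((mem_iff_of_eq_sup hK hm y).mpr h)]
  have hBinv : ∀ m ∈ Subgroup.normalizer (P : Set G), ∀ y, Bf (m * y * m⁻¹) = Bf y := by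
    intro m hm y
    simp only [hBf, Set.indicator_apply, SetLike.mem_coe, conj_mem_centralizer_iff hm,
      isClassFunction_classInd g y m]
  have hAR : ∀ y, MemLocalRing M (A y) := fun y => by
    by_cases hy : y ∈ K
    · rw [show A y = e ⟨y, hy⟩ from extFun_coe e ⟨y, hy⟩]; exact heI.2 _
    · rw [hAs y hy]; exact (localRing M).zero_mem
  have hBR : ∀ y, MemLocalRing M (Bf y) := fun y => by
    simp only [hBf, Set.indicator_apply]
    split_ifs
    · exact (isIntClassFun_classInd g).2 y
    · exact (localRing M).zero_mem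
  have hresB : res K Bf = brRes P K (classInd g) := by
    funext k
    simp only [res, hBf, brRes, Set.indicator_apply, SetLike.mem_coe, Set.mem_setOf_eq]
  set f : G → ℂ := conv A Bf with hf
  have hresf : res K f = conv e (brRes P K (classInd g)) := by
    rw [hf, res_conv hAs, hresB, hA, res_extFun]
  have hfinv : ∀ m ∈ Subgroup.normalizer (P : Set G), ∀ z, f (m * z * m⁻¹) = f z := by
    intro m hm z
    rw [hf, conv_apply, conv_apply]
    refine (Fintype.sum_equiv (MulAut.conj m).toEquiv _ _ fun y => ?_).symm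
    simp only [MulEquiv.toEquiv_eq_coe, EquivLike.coe_coe, MulAut.conj_apply]
    rw [hAinv m hm, show (m * y * m⁻¹)⁻¹ * (m * z * m⁻¹) = m * (y⁻¹ * z) * m⁻¹ by group,
      hBinv m hm]
  have hfR : ∀ z, MemLocalRing M (f z) := fun z => by
    rw [hf, conv_apply]
    exact memLocalRing_sum fun y _ => (localRing M).mul_mem (hAR y) (hBR _)
  have hfI : IsIntClassFun M (res K f) := by
    rw [hresf]; exact isIntClassFun_conv heI (isIntClassFun_brRes hKN (isIntClassFun_classInd g))
  -- `f` is small on classes whose defect group is larger than `P`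
  have hsmall : ∀ z ∈ Subgroup.centralizer (P : Set G), ¬ MemLocalIdeal M (f z) →
      IsSylowCent p z P := by
    intro z hz hu
    set L : Subgroup G := Subgroup.centralizer ({z} : Set G) ⊓ Subgroup.normalizer (P : Set G)
      with hL
    have hPL : P ≤ L := le_inf (le_centralizer_singleton_iff.mpr hz) Subgroup.le_normalizer
    obtain ⟨Q, hQ⟩ := (hP.of_equiv (Subgroup.subgroupOfEquivOfLe hPL).symm).exists_le_sylow
    set Q' : Subgroup G := (Q : Subgroup L).map L.subtype with hQ'
    have hQp : IsPGroup p Q' := Q.isPGroup'.map _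
    have hQL : Q' ≤ L := Subgroup.map_subtype_le _
    have hPQ : P ≤ Q' := by
      rw [← Subgroup.map_subgroupOf_eq_of_le hPL]; exact Subgroup.map_mono hQ
    rw [hf, conv_apply] at hu
    obtain ⟨y, hy, -, hyB⟩ := exists_mem_centralizer_of_convSum hM hQp A Bf
      (fun u hu t => hAinv u (hQL hu).2 t) (fun u hu t => hBinv u (hQL hu).2 t) hAR hBR
      (le_centralizer_singleton_iff.mp (hQL.trans inf_le_left)) hu
    set w := y⁻¹ * z with hw
    have hwQ : w ∈ Subgroup.centralizer (Q' : Set G) :=
      mul_mem (inv_mem hy) (le_centralizer_singleton_iff.mp (hQL.trans inf_le_left))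
    have hgw : IsConj g w := by
      by_contra hn
      refine hyB ?_
      simp only [hBf, Set.indicator_apply, classInd_apply_of_not_isConj hn, ite_self]
      exact memLocalIdeal_zero
    have hcard := (hS.subConj_of_isConj hQp hgw hwQ).card_dvd
    have hQP : P = Q' := Subgroup.eq_of_le_of_card_ge hPQ (Nat.le_of_dvd Nat.card_pos hcard)
    exact (Cfsg.Agent.S0916.result p P hP).2 z hz ⟨Q, by rw [← hQ', ← hQP]⟩
  -- the class function of `G` with the same Brauer image
  let a : G → ℂ := fun x =>
    if h : ∃ z, IsSylowCent p z P ∧ IsConj x z then f h.choose else 0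
  have ha : IsIntClassFun M a := by
    refine ⟨fun x t => ?_, fun x => ?_⟩
    · have hxt : IsConj x (t * x * t⁻¹) := isConj_iff.mpr ⟨t, rfl⟩
      have hiff : (fun z => IsSylowCent p z P ∧ IsConj (t * x * t⁻¹) z) =
          fun z => IsSylowCent p z P ∧ IsConj x z :=
        funext fun z => propext (and_congr_right fun _ => ⟨hxt.trans, hxt.symm.trans⟩)
      simp only [a, hiff]
    · simp only [a]
      split_ifs
      · exact hfR _
      · exact (localRing M).zero_mem
  have hbr : ∀ k : K, MemLocalIdeal M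
      (brRes P K a k - ((Subgroup.centralizer (P : Set G) : Subgroup G) : Set G).indicator f k) := by
    intro k
    by_cases hk : (k : G) ∈ Subgroup.centralizer (P : Set G)
    · rw [brRes_of_mem _ hk, Set.indicator_of_mem (show (k : G) ∈ _ from hk)]
      simp only [a]
      split_ifs with h
      · obtain ⟨n, hn, e'⟩ := ((Cfsg.Agent.S0916.result p P hP).1 h.choose h.choose_spec.1).2
          h.choose (k : G) (IsConj.refl _) h.choose_spec.2.symm h.choose_spec.1.mem_centralizer hk
        have e'' : f (k : G) = f h.choose := (congrArg f e').symm.trans (hfinv n hn _)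
        rw [e'', sub_self]
        exact memLocalIdeal_zero
      · rw [zero_sub]
        refine memLocalIdeal_neg (by_contra fun hu => h ⟨k, hsmall k hk hu, IsConj.refl _⟩)
    · rw [brRes_of_notMem _ hk, Set.indicator_of_notMem (show (k : G) ∉ _ from hk), sub_self]
      exact memLocalIdeal_zero
  haveI : (P.subgroupOf K).Normal := Subgroup.normal_subgroupOf_of_le_normalizer hKN
  have hPKp := hP.of_equiv (Subgroup.subgroupOfEquivOfLe hPK).symm
  have hmain : ∀ η : IrrCharacter K,
      MemLocalIdeal M (omega (η : K → ℂ) (brRes P K a) - omega (η : K → ℂ) (res K f)) := by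
    intro η
    have : Finite (ConjClasses K) := Finite.of_surjective _ ConjClasses.mk_surjective
    have := Fintype.ofFinite (ConjClasses K)
    rw [BlocksDefect.omega_eq_sum_classes η (isIntClassFun_brRes hKN ha).1,
      BlocksDefect.omega_eq_sum_classes η hfI.1, ← Finset.sum_sub_distrib]
    refine memLocalIdeal_sum fun C _ => ?_
    rw [← sub_mul]
    by_cases hk : ((Quotient.out C : K) : G) ∈ Subgroup.centralizer (P : Set G)
    · refine memLocalIdeal_mul_right ?_ (centralChar_memLocalRing η _)
      have := hbr (Quotient.out C)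
      rwa [Set.indicator_of_mem (show ((Quotient.out C : K) : G) ∈ _ from hk)] at this
    · refine memLocalIdeal_mul_left ((localRing M).sub_mem
        ((isIntClassFun_brRes hKN ha).2 _) (hfI.2 _))
        (centralChar_memLocalIdeal_of_notMem (P.subgroupOf K) hM hPKp (fun x hx hc => hk ?_) η)
      obtain ⟨t, ht⟩ := isConj_iff.mp hx
      rw [← conj_mem_centralizer_iff (hKN t.2)]
      have hc' : (x : G) ∈ Subgroup.centralizer (P : Set G) := mem_centralizer_of_subgroupOf hPK hc
      rw [← ht] at hc'
      simpa using hc'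
  have hval : ∀ (η : IrrCharacter K) (c : Set (IrrCharacter K)),
      IsInducedBlock M K c B → η ∈ c →
      MemLocalIdeal M (omega (η : K → ℂ) e * omega (η : K → ℂ) (brRes P K (classInd g)) -
        omega (χ : G → ℂ) a) ∧
      ¬ MemLocalIdeal M (omega (η : K → ℂ) (brRes P K (classInd g))) := by
    intro η c hc hη
    refine ⟨?_, fun h => hg.2.2 χ hχ ?_⟩
    · have h1 := memLocalIdeal_sub (omega_induced hM hc hη hχ ha)
        (omega_res_sub_brRes hM hP hPK hKN η ha)
      have h2 := memLocalIdeal_sub h1 (hmain η)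
      rw [hresf, omega_conv η heI.1 (isIntClassFun_brRes (M := M) hKN
        (isIntClassFun_classInd g)).1] at h2
      convert h2 using 1
      ring
    · have h1 := memLocalIdeal_sub (omega_induced hM hc hη hχ (isIntClassFun_classInd g))
        (omega_res_sub_brRes hM hP hPK hKN η (isIntClassFun_classInd g))
      rw [omega_classInd (irr_class χ)] at h1
      have h2 := memLocalIdeal_sub h h1
      convert h2 using 1
      ring
  have h1 := (hval ξ b hb hξ).1
  obtain ⟨h2, hu⟩ := hval ξ' b' hb' hξ'
  have hξ'O : ξ' ∈ O := ⟨1, one_mem _, by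
    convert hξ' using 1
    exact Subtype.ext (funext fun h => congrArg (ξ' : K → ℂ)
      (Subtype.ext (show (1 : G) * (h : G) * (1 : G)⁻¹ = h by group)))⟩
  rw [omega_blockCoeff, Set.indicator_of_notMem hξO, zero_mul] at h1
  rw [omega_blockCoeff, Set.indicator_of_mem hξ'O, Pi.one_apply, one_mul] at h2
  exact hu (by simpa using memLocalIdeal_sub h2 h1)

end Cfsg.Agent.BlocksDefect
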