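import Cfsg.Agent.Lib.BlocksDefect.LocalBlock
import Cfsg.Agent.Lib.BlocksDefect.ExtendedMain
import Cfsg.Agent.CharDeep.Deg.Basic
import Cfsg.Agent.Lib.CharClifford.Clifford
import Cfsg.Agent.Lib.BlocksDefect.PrincipalSection

/-!
# Blocks with a normal defect group: height zero and commutativity
-/

set_option linter.unusedSectionVars false

namespace Cfsg.Agent.BlocksDefect

open BlocksCore

universe u

variable {G : Type u} [Group G] [Finite G] {p : ℕ} [Fact p.Prime] {M : Ideal AlgInt}
  {P N : Subgroup G}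

theorem local_sup_eq_top (hN : N = P ⊔ Subgroup.centralizer (P : Set G)) :
    P.subgroupOf N ⊔ Subgroup.centralizer ((P.subgroupOf N : Subgroup N) : Set N) = ⊤ := by
  have := Fintype.ofFinite G
  have hPN : P ≤ N := hN ▸ le_sup_left
  have hCN : Subgroup.centralizer (P : Set G) ≤ N := hN ▸ le_sup_right
  have hc : Subgroup.centralizer ((P.subgroupOf N : Subgroup N) : Set N) =
      (Subgroup.centralizer (P : Set G)).subgroupOf N := by
    ext x
    rw [Subgroup.mem_subgroupOf]
    refine ⟨mem_centralizer_of_subgroupOf hPN, fun h => Subgroup.mem_centralizer_iff.mpr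
      fun y hy => Subtype.ext ?_⟩
    exact Subgroup.mem_centralizer_iff.mp h (y : G) hy
  rw [hc, ← Subgroup.subgroupOf_sup hPN hCN, ← hN, Subgroup.subgroupOf_self]

theorem index_sylowCent_not_dvd {g : G} (hS : IsSylowCent p g P) :
    ¬ p ∣ Nat.card (Subgroup.centralizer ({g} : Set G)) / Nat.card P := by
  rw [hS.natCard]
  exact Nat.not_dvd_ordCompl Fact.out Nat.card_pos.ne'

variable [P.Normal] [N.Normal]

/-- A `p`-element fixing a member with `P` in its kernel of the local block lies in `N`. -/
theorem mem_of_conjIrr_eq (hM : IsPModular p M) {B : Set (IrrCharacter G)}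
    (hN : N = P ⊔ Subgroup.centralizer (P : Set G)) {b : Set (IrrCharacter N)}
    (hind : IsInducedBlock M N b B) {g : G} (hg : IsDefectClass M B g) (hS : IsSylowCent p g P)
    {θ : IrrCharacter N} (hθ : θ ∈ b) {q : G} (hq : ∃ k, orderOf q = p ^ k)
    (hfix : conjIrr q θ = θ) : q ∈ N := by
  classical
  have := isPrime hM
  have := Fintype.ofFinite G
  have := Fintype.ofFinite N
  by_contra hqN
  obtain ⟨χ, hχ⟩ := isPBlock_nonempty hind.2.1
  have hu : ¬ MemLocalIdeal M (omega (θ : N → ℂ) (res N (classInd g))) := by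
    intro h
    rw [omega_res_classInd] at h
    exact hg.2.2 χ hχ (by simpa using memLocalIdeal_sub h (hind.2.2 θ hθ χ hχ g))
  refine hu ?_
  set a : N → ℂ := res N (classInd g) with ha
  have haI : IsIntClassFun M a :=
    ⟨isClassFunction_res N (isClassFunction_classInd g), fun x => (isIntClassFun_classInd g).2 _⟩
  have : Finite (ConjClasses N) := Finite.of_surjective _ ConjClasses.mk_surjective
  have := Fintype.ofFinite (ConjClasses N)
  rw [BlocksDefect.omega_eq_sum_classes θ haI.1]
  set f : ConjClasses N → ℂ := fun C => a (Quotient.out C) *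
    centralChar (θ : N → ℂ) (Quotient.out C) with hf
  set Q := Subgroup.zpowers q with hQ
  have hQp : IsPGroup p Q := by
    obtain ⟨k, hk⟩ := hq
    exact IsPGroup.of_card (n := k) (by rw [hQ, Nat.card_zpowers, hk])
  let σ : Q → N →* N := fun u => (MulAut.conjNormal (u : G) : N ≃* N).toMonoidHom
  letI : MulAction Q (ConjClasses N) :=
    { smul := fun u C => ConjClasses.map (σ u) C
      one_smul := fun C => by
        obtain ⟨n, rfl⟩ := ConjClasses.mk_surjective C
        exact congrArg ConjClasses.mk (Subtype.ext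
          (show ((1 : Q) : G) * (n : G) * ((1 : Q) : G)⁻¹ = n by simp))
      mul_smul := fun u v C => by
        obtain ⟨n, rfl⟩ := ConjClasses.mk_surjective C
        exact congrArg ConjClasses.mk (Subtype.ext
          (show ((u * v : Q) : G) * (n : G) * ((u * v : Q) : G)⁻¹ =
            (u : G) * ((v : G) * (n : G) * (v : G)⁻¹) * (u : G)⁻¹ by simp [mul_assoc])) }
  have hfixQ : ∀ u : Q, conjIrr (u : G) θ = θ := by
    rintro ⟨u, hu⟩
    obtain ⟨j, rfl⟩ : ∃ j : ℕ, q ^ j = u := by
      rwa [← Submonoid.mem_powers_iff, (isOfFinOrder_of_finite q).mem_powers_iff_mem_zpowers]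
    induction j with
    | zero => exact Subtype.ext (by simp [coe_conjIrr, conjFun_one])
    | succ j ih =>
      show conjIrr (q ^ (j + 1)) θ = θ
      rw [pow_succ, ← conjIrr_conjIrr, show conjIrr (q ^ j) θ = θ from
        ih (Subgroup.pow_mem _ (Subgroup.mem_zpowers q) j), hfix]
  have hfval : ∀ (u : Q) (n : N), f (ConjClasses.mk (σ u n)) = f (ConjClasses.mk n) := by
    intro u n
    have hval : ∀ m : N, f (ConjClasses.mk m) = a m * centralChar (θ : N → ℂ) m := by
      intro m
      have hm : IsConj (Quotient.out (ConjClasses.mk m)) m :=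
        ConjClasses.mk_eq_mk_iff_isConj.mp (Quotient.out_eq _)
      simp only [hf]
      rw [classFun_eq_of_isConj haI.1 hm, ← omega_classInd (irr_class θ),
        ← omega_classInd (irr_class θ) m]
      congr 2
      funext x
      by_cases hx : IsConj m x
      · rw [classInd_apply_of_isConj hx, classInd_apply_of_isConj (hm.trans hx)]
      · rw [classInd_apply_of_not_isConj hx,
          classInd_apply_of_not_isConj fun h => hx (hm.symm.trans h)]
    rw [hval, hval]
    congr 1
    · exact isClassFunction_classInd g (n : G) (u : G)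
    · rw [← omega_classInd (irr_class θ), ← omega_classInd (irr_class θ) n]
      have hcj : classInd n = conjFun (u : G) (classInd (σ u n)) := by
        funext x
        show classInd n x = classInd (σ u n) (σ u x)
        by_cases hx : IsConj n x
        · rw [classInd_apply_of_isConj hx, classInd_apply_of_isConj ((σ u).map_isConj hx)]
        · rw [classInd_apply_of_not_isConj hx, classInd_apply_of_not_isConj]
          intro h
          have h' := (MulAut.conjNormal (u : G) : N ≃* N).symm.toMonoidHom.map_isConj h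
          exact hx (by simpa [σ] using h')
      have hinv : conjIrr (u : G)⁻¹ θ = θ := by
        conv_lhs => rw [← hfixQ u]
        exact conjIrr_inv_self _ θ
      rw [hcj, omega_conjFun, hinv]
  have key := memLocalIdeal_sum_sub_fixed (α := ConjClasses N) (P := Q) hM hQp f
    (fun u C => by
      obtain ⟨n, rfl⟩ := ConjClasses.mk_surjective C
      exact hfval u n)
    (fun C => (localRing M).mul_mem (haI.2 _) (centralChar_memLocalRing θ _))
  have hzero : ∀ C ∈ MulAction.fixedPoints Q (ConjClasses N), f C = 0 := by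
    intro C hC
    simp only [hf]
    rw [mul_eq_zero]
    refine Or.inl (classInd_apply_of_not_isConj fun hgn => hqN ?_)
    set n := Quotient.out C with hn
    have h1 : ConjClasses.mk (σ ⟨q, Subgroup.mem_zpowers q⟩ n) = ConjClasses.mk n := by
      have h := hC ⟨q, Subgroup.mem_zpowers q⟩
      rw [← Quotient.out_eq C] at h
      exact h
    obtain ⟨m, hm⟩ := isConj_iff.mp (ConjClasses.mk_eq_mk_iff_isConj.mp h1)
    set t : G := (m : G) * q with ht
    have htc : t ∈ Subgroup.centralizer ({(n : G)} : Set G) := by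
      rw [mem_centralizer_singleton, ht]
      have hm' : (m : G) * (q * (n : G) * q⁻¹) * (m : G)⁻¹ = n := congrArg Subtype.val hm
      calc (m : G) * q * n = ((m : G) * (q * (n : G) * q⁻¹) * (m : G)⁻¹) * ((m : G) * q) := by group
        _ = n * ((m : G) * q) := by rw [hm']
    obtain ⟨x, hx⟩ := isConj_iff.mp hgn
    have hPn : P ≤ Subgroup.centralizer ({(n : G)} : Set G) := by
      intro u hu
      have hu' : x⁻¹ * u * x ∈ P := by
        simpa using ‹P.Normal›.conj_mem u hu x⁻¹
      have h := mem_centralizer_singleton.mp (hS.le_centralizer hu')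
      rw [mem_centralizer_singleton, ← hx]
      calc u * (x * g * x⁻¹) = x * ((x⁻¹ * u * x) * g) * x⁻¹ := by group
        _ = x * (g * (x⁻¹ * u * x)) * x⁻¹ := by rw [h]
        _ = x * g * x⁻¹ * u := by group
    have hcard : Nat.card (Subgroup.centralizer ({(n : G)} : Set G)) =
        Nat.card (Subgroup.centralizer ({g} : Set G)) := natCard_centralizer_of_isConj hgn.symm
    let π : Subgroup.centralizer ({(n : G)} : Set G) →* G ⧸ N :=
      (QuotientGroup.mk' N).comp (Subgroup.centralizer ({(n : G)} : Set G)).subtype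
    have hPN : P ≤ N := hN ▸ le_sup_left
    have hle : P.subgroupOf (Subgroup.centralizer ({(n : G)} : Set G)) ≤ π.ker := fun u hu =>
      (QuotientGroup.eq_one_iff (u : G)).mpr (hPN hu)
    have hrange : Nat.card π.range ∣
        Nat.card (Subgroup.centralizer ({(n : G)} : Set G)) / Nat.card P := by
      rw [← Nat.card_congr (Subgroup.subgroupOfEquivOfLe hPn).toEquiv, ← Subgroup.index_ker]
      refine (Subgroup.index_dvd_of_le hle).trans (dvd_of_eq ?_)
      exact (Nat.div_eq_of_eq_mul_right Nat.card_pos (Subgroup.card_mul_index _).symm).symm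
    rw [hcard] at hrange
    obtain ⟨k, hk⟩ := hq
    have hqn : (QuotientGroup.mk q : G ⧸ N) = π ⟨t, htc⟩ := by
      show _ = QuotientGroup.mk ((m : G) * q)
      rw [QuotientGroup.mk_mul, (QuotientGroup.eq_one_iff (m : G)).mpr m.2, one_mul]
    have hd1 : orderOf (QuotientGroup.mk q : G ⧸ N) ∣ p ^ k :=
      hk ▸ orderOf_map_dvd (QuotientGroup.mk' N) q
    have hd2 : orderOf (QuotientGroup.mk q : G ⧸ N) ∣ Nat.card π.range := by
      rw [hqn, ← Subgroup.orderOf_mk (H := π.range) (π ⟨t, htc⟩) ⟨_, rfl⟩]
      exact orderOf_dvd_natCard _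
    have h1' := Nat.eq_one_of_dvd_coprimes
      ((((Fact.out : p.Prime).coprime_iff_not_dvd).mpr (index_sylowCent_not_dvd hS)).pow_left k)
      hd1 (hd2.trans hrange)
    exact (QuotientGroup.eq_one_iff q).mp (orderOf_eq_one_iff.mp h1')
  rw [Finset.sum_eq_zero (s := Finset.univ.filter _)
    (fun C hC => hzero C (Finset.mem_filter.mp hC).2), sub_zero] at key
  exact key

/-- The orbit of a character of `N` fixed by no `p`-element outside `N`. -/
theorem index_factorization_le_orbit (θ : IrrCharacter N)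
    (h : ∀ q : G, (∃ k, orderOf q = p ^ k) → conjIrr q θ = θ → q ∈ N) [Fintype G] :
    N.index.factorization p ≤
      (CharClifford.conjOrbit N (θ : N → ℂ)).card.factorization p := by
  classical
  let I : Subgroup G :=
    { carrier := {x | conjIrr x θ = θ}
      one_mem' := Subtype.ext (by simp [coe_conjIrr, conjFun_one])
      mul_mem' := fun {x y} hx hy => by
        show conjIrr (x * y) θ = θ
        rw [← conjIrr_conjIrr, show conjIrr x θ = θ from hx, show conjIrr y θ = θ from hy]
      inv_mem' := fun {x} hx => by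
        show conjIrr x⁻¹ θ = θ
        conv_lhs => rw [← (show conjIrr x θ = θ from hx)]
        exact conjIrr_inv_self _ θ }
  have hval : ∀ x : G, CharClifford.conjFun N x (θ : N → ℂ) = (conjIrr x θ : N → ℂ) := fun x => rfl
  have hfib : ∀ x y : G, CharClifford.conjFun N x⁻¹ (θ : N → ℂ) = CharClifford.conjFun N y⁻¹ θ ↔
      x⁻¹ * y ∈ I := by
    intro x y
    rw [hval, hval]
    constructor
    · intro e
      show conjIrr (x⁻¹ * y) θ = θ
      rw [← conjIrr_conjIrr, show conjIrr x⁻¹ θ = conjIrr y⁻¹ θ from Subtype.ext e]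
      simpa using conjIrr_inv_self y⁻¹ θ
    · intro e
      have e' : conjIrr (x⁻¹ * y) θ = θ := e
      rw [← conjIrr_conjIrr] at e'
      have e'' := congrArg (conjIrr y⁻¹) e'
      rw [conjIrr_inv_self] at e''
      rw [e'']
  have hcard : (CharClifford.conjOrbit N (θ : N → ℂ)).card = I.index := by
    rw [Subgroup.index, ← Nat.card_eq_finsetCard]
    refine (Nat.card_eq_of_bijective
      (fun q : G ⧸ I => (⟨CharClifford.conjFun N (Quotient.out q)⁻¹ (θ : N → ℂ),
        (CharClifford.mem_conjOrbit N).mpr ⟨_, rfl⟩⟩ : CharClifford.conjOrbit N (θ : N → ℂ)))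
      ⟨fun q q' e => ?_, fun ψ => ?_⟩).symm
    · have h1 := (hfib _ _).mp (congrArg Subtype.val e)
      rw [← QuotientGroup.eq, QuotientGroup.out_eq', QuotientGroup.out_eq'] at h1
      exact h1
    · obtain ⟨ψ, hψ⟩ := ψ
      obtain ⟨x, rfl⟩ := (CharClifford.mem_conjOrbit N).mp hψ
      refine ⟨QuotientGroup.mk x⁻¹, Subtype.ext ?_⟩
      refine ((hfib _ x⁻¹).mpr ?_).trans (by rw [inv_inv])
      rw [← QuotientGroup.eq, QuotientGroup.out_eq']
  obtain ⟨S⟩ : Nonempty (Sylow p I) := inferInstance
  have hSN : (S : Subgroup I).map I.subtype ≤ N := by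
    rintro _ ⟨s, hs, rfl⟩
    refine h s ?_ s.2
    obtain ⟨k, hk⟩ := orderOf_pow_of_mem S.isPGroup' hs
    exact ⟨k, by rw [Subgroup.orderOf_coe, hk]⟩
  have hd := Subgroup.card_dvd_of_le hSN
  rw [← Nat.card_congr ((S : Subgroup I).equivMapOfInjective _ I.subtype_injective).toEquiv,
    S.card_eq_multiplicity] at hd
  have h1 := (Nat.Prime.pow_dvd_iff_le_factorization Fact.out Nat.card_pos.ne').mp hd
  have h2 : ∀ H : Subgroup G, (Nat.card H).factorization p + H.index.factorization p =
      (Nat.card G).factorization p := fun H => by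
    rw [← Subgroup.card_mul_index H, Nat.factorization_mul Nat.card_pos.ne'
      Subgroup.FiniteIndex.index_ne_zero, Finsupp.add_apply]
  have h3 := h2 I
  have h4 := h2 N
  rw [hcard]
  omega

omit [N.Normal] in
theorem blockDefect_add_index (hM : IsPModular p M) {B : Set (IrrCharacter G)}
    (hB : IsPBlock M B) (hD : IsDefectGroup p M B P) :
    blockDefect p B + P.index.factorization p = (Nat.card G).factorization p := by
  rw [← Subgroup.card_mul_index P, defectGroup_natCard hM hB hD, Nat.factorization_mul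
    (pow_ne_zero _ (Fact.out : p.Prime).ne_zero) Subgroup.FiniteIndex.index_ne_zero,
    Finsupp.add_apply, Nat.Prime.factorization_pow Fact.out, Finsupp.single_eq_same]

/-- With a normal defect group, all heights are zero exactly when it is abelian. -/
theorem height_zero_iff_abelian (hM : IsPModular p M) {B : Set (IrrCharacter G)}
    (hB : IsPBlock M B) (hPd : IsDefectGroup p M B P) :
    (∀ a ∈ P, ∀ c ∈ P, a * c = c * a) ↔ ∀ χ ∈ B, blockHeight p B (χ : G → ℂ) = 0 := by
  classical
  have := isPrime hM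
  have := Fintype.ofFinite G
  have hsum := blockDefect_add_index hM hB hPd
  have hPp := isPGroup_of_isDefectGroup hPd
  unfold blockDefect at hsum
  constructor
  · intro hab χ hχ
    have h1 := CharDeep.Deg.degree_dvd_index χ P hab
    have h2 := (Nat.factorization_le_iff_dvd (charDegree_pos χ).ne'
      Subgroup.FiniteIndex.index_ne_zero).mpr h1 p
    have h3 : sInf ((fun ψ : IrrCharacter G => (charDegree (ψ : G → ℂ)).factorization p) '' B) ≤
        (charDegree (χ : G → ℂ)).factorization p := Nat.sInf_le ⟨χ, hχ, rfl⟩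
    unfold blockHeight
    omega
  · intro hall
    by_contra hab
    haveI : (Subgroup.centralizer (P : Set G)).Normal := Subgroup.normal_centralizer
    obtain ⟨N₀, hN₀⟩ : ∃ N₀, N₀ = P ⊔ Subgroup.centralizer (P : Set G) := ⟨_, rfl⟩
    haveI : N₀.Normal := hN₀ ▸ Subgroup.sup_normal _ _
    have hPN : P ≤ N₀ := hN₀ ▸ le_sup_left
    have hCN : Subgroup.centralizer (P : Set G) ≤ N₀ := hN₀ ▸ le_sup_right
    have hNN : N₀ ≤ Subgroup.normalizer (P : Set G) := by
      rw [Subgroup.normalizer_eq_top]; exact le_top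
    obtain ⟨g, hg, hS⟩ := isDefectGroup_iff.mp hPd
    obtain ⟨b, hind⟩ := (exists_inducing_iff hM hPp hPN hCN hNN hB).mpr
      ⟨g, hS.mem_centralizer, hg.2.1⟩
    have hbP := defectGroup_of_inducing hM hB hPd hPN hNN hind
    have := Fintype.ofFinite N₀
    have := Fintype.ofFinite (P.subgroupOf N₀)
    have := Fintype.ofFinite {y : N₀ // ¬ p ∣ orderOf y}
    have hG := local_sup_eq_top hN₀
    have hPp' := hPp.of_equiv (Subgroup.subgroupOfEquivOfLe hPN).symm
    obtain ⟨θ₀, hθ₀, hk₀, hcore, -, hdeg₀, huniq⟩ := localBlock hM hPp' hG hind.1 hbP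
    obtain ⟨lam, hlam⟩ : ∃ lam : IrrCharacter (P.subgroupOf N₀),
        charDegree (lam : P.subgroupOf N₀ → ℂ) ≠ 1 := by
      by_contra hno
      push Not at hno
      refine hab fun a ha c hc => ?_
      exact congrArg (fun x : P.subgroupOf N₀ => ((x : N₀) : G))
        (CharDeep.Deg.commute_of_degree_one hno ⟨⟨a, hPN ha⟩, ha⟩ ⟨⟨c, hPN hc⟩, hc⟩)
    set θ : IrrCharacter N₀ := ⟨_, isIrrCharacter_tens hPp' hG hcore lam⟩ with hθ
    have hθb : θ ∈ b := tens_mem hM hPp' hG hind.1 hθ₀ hcore lam
    have hθdeg : charDegree (θ : N₀ → ℂ) =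
        charDegree (lam : P.subgroupOf N₀ → ℂ) * charDegree (θ₀ : N₀ → ℂ) := by
      have h1 : (θ : N₀ → ℂ) 1 = (lam : P.subgroupOf N₀ → ℂ) 1 * (θ₀ : N₀ → ℂ) 1 := by
        have h := tens_apply_mul hPp' hcore (lam : P.subgroupOf N₀ → ℂ) 1 (y := (1 : N₀))
          (by rw [orderOf_one]; exact (Fact.out : p.Prime).not_dvd_one) (Commute.one_right _)
        rw [mul_one, OneMemClass.coe_one] at h
        exact h
      rw [irr_one_eq, irr_one_eq, irr_one_eq, ← Nat.cast_mul, Nat.cast_inj] at h1
      exact h1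
    have hlamp : 1 ≤ (charDegree (lam : P.subgroupOf N₀ → ℂ)).factorization p := by
      obtain ⟨e, he⟩ := IsPGroup.iff_card.mp hPp'
      obtain ⟨i, -, hi⟩ := (Nat.dvd_prime_pow Fact.out).mp (he ▸ charDegree_dvd_card lam)
      rw [hi] at hlam ⊢
      rw [Nat.Prime.factorization_pow Fact.out, Finsupp.single_eq_same]
      exact Nat.one_le_iff_ne_zero.mpr fun h0 => hlam (by rw [h0, pow_zero])
    obtain ⟨χ, hχθ⟩ := exists_over (G := G) θ
    obtain ⟨χ₀, hχ₀⟩ := isPBlock_nonempty hB
    have hχB : χ ∈ B := by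
      rw [isPBlock_eq_blockOf hB hχ₀]
      intro z
      by_cases hz : z ∈ N₀
      · have h1 := omega_res_classInd_of_mem hχθ ⟨z, hz⟩
        rw [show centralChar (χ : G → ℂ) z = inducedCentralChar N₀ (θ : N₀ → ℂ) z from h1]
        simpa using memLocalIdeal_neg (hind.2.2 θ hθb χ₀ hχ₀ z)
      · have hzc : ∀ x, IsConj z x → x ∉ Subgroup.centralizer (P : Set G) := fun x hx hc => hz (by
          obtain ⟨t, rfl⟩ := isConj_iff.mp hx
          simpa [mul_assoc] using ‹N₀.Normal›.conj_mem _ (hCN hc) t⁻¹)
        exact memLocalIdeal_sub (centralChar_memLocalIdeal_of_notMem P hM hPp hzc χ₀)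
          (centralChar_memLocalIdeal_of_notMem P hM hPp hzc χ)
    have horb := index_factorization_le_orbit θ fun q hq hfix => by
      have hmem : conjIrr q θ₀ ∈ b := by
        rw [isPBlock_eq_blockOf hind.1 hθb]
        have hs : SameBlock M (conjIrr q θ : N₀ → ℂ) (conjIrr q θ₀ : N₀ → ℂ) :=
          sameBlock_twist hM (MulAut.conjNormal q : N₀ ≃* N₀) (sameBlock_of_mem hind.1 hθb hθ₀)
        rwa [hfix] at hs
      refine mem_of_conjIrr_eq hM hN₀ hind hg hS hθ₀ hq
        (huniq _ hmem fun x hx => ?_)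
      have hx' : (⟨q * (x : G) * q⁻¹, ‹N₀.Normal›.conj_mem _ x.2 q⟩ : N₀) ∈ P.subgroupOf N₀ :=
        Subgroup.mem_subgroupOf.mpr (‹P.Normal›.conj_mem _ hx q)
      have h1 := hk₀ _ hx'
      simp only [coe_conjIrr, BlocksDefect.conjFun]
      rw [h1]
      exact congrArg _ (Subtype.ext (by simp))
    obtain ⟨θ', e, hθ', he, hcl, hres⟩ := CharClifford.clifford_restrict N₀ χ.2
    -- the given constituent is a conjugate of `θ'`
    obtain ⟨x, hx⟩ := CharClifford.exists_conjFun_eq_of_constituents N₀ χ.2 hθ' θ.2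
      (by rw [hcl]; exact Nat.cast_ne_zero.mpr he.ne') hχθ
    have horbit : CharClifford.conjOrbit N₀ θ' = CharClifford.conjOrbit N₀ (θ : N₀ → ℂ) := by
      ext ψ
      rw [CharClifford.mem_conjOrbit, CharClifford.mem_conjOrbit, hx]
      constructor
      · rintro ⟨y, rfl⟩
        exact ⟨x⁻¹ * y, by rw [CharClifford.conjFun_conjFun, mul_inv_cancel_left]⟩
      · rintro ⟨y, rfl⟩
        exact ⟨x * y, (CharClifford.conjFun_conjFun N₀ _ _ _).symm⟩
    have hdegχ : charDegree (χ : G → ℂ) = e *
        ((CharClifford.conjOrbit N₀ (θ : N₀ → ℂ)).card * charDegree (θ : N₀ → ℂ)) := by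
      have h1 := congrFun hres 1
      rw [horbit] at h1
      simp only [Pi.smul_apply, Finset.sum_apply, smul_eq_mul, OneMemClass.coe_one] at h1
      have hone : ∀ ψ ∈ CharClifford.conjOrbit N₀ (θ : N₀ → ℂ), ψ 1 = (θ : N₀ → ℂ) 1 := by
        intro ψ hψ
        obtain ⟨y, rfl⟩ := (CharClifford.mem_conjOrbit N₀).mp hψ
        rw [CharClifford.conjFun_apply]
        exact congrArg _ (Subtype.ext (by simp))
      rw [Finset.sum_congr rfl hone, Finset.sum_const, nsmul_eq_mul] at h1
      rw [irr_one_eq, irr_one_eq] at h1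
      exact_mod_cast h1
    have hne1 : (CharClifford.conjOrbit N₀ (θ : N₀ → ℂ)).card ≠ 0 :=
      Finset.card_ne_zero.mpr ⟨_, (CharClifford.mem_conjOrbit N₀).mpr ⟨1, rfl⟩⟩
    have hfac : (charDegree (χ : G → ℂ)).factorization p = e.factorization p +
        ((CharClifford.conjOrbit N₀ (θ : N₀ → ℂ)).card.factorization p +
          ((charDegree (lam : P.subgroupOf N₀ → ℂ)).factorization p +
            (charDegree (θ₀ : N₀ → ℂ)).factorization p)) := by
      rw [hdegχ, hθdeg, Nat.factorization_mul he.ne' (Nat.mul_ne_zero hne1 (Nat.mul_ne_zero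
          (charDegree_pos lam).ne' (charDegree_pos θ₀).ne')), Finsupp.add_apply,
        Nat.factorization_mul hne1 (Nat.mul_ne_zero
          (charDegree_pos lam).ne' (charDegree_pos θ₀).ne'), Finsupp.add_apply,
        Nat.factorization_mul (charDegree_pos lam).ne' (charDegree_pos θ₀).ne', Finsupp.add_apply]
    have hrel : P.index.factorization p =
        (P.subgroupOf N₀).index.factorization p + N₀.index.factorization p := by
      rw [← Subgroup.relIndex_mul_index hPN, Subgroup.relIndex, Nat.factorization_mul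
        Subgroup.FiniteIndex.index_ne_zero Subgroup.FiniteIndex.index_ne_zero, Finsupp.add_apply]
    -- minimal degrees in `B`
    obtain ⟨χ₁, hχ₁, h0⟩ := exists_height_zero hM hB
    have hmin := (blockHeight_eq_zero_iff hχB).mp (hall χ hχB)
    have hge : sInf ((fun ψ : IrrCharacter G => (charDegree (ψ : G → ℂ)).factorization p) '' B) =
        (charDegree (χ : G → ℂ)).factorization p :=
      le_antisymm (Nat.sInf_le ⟨χ, hχB, rfl⟩) (le_csInf ⟨_, ⟨χ, hχB, rfl⟩⟩ fun y hy => by
        obtain ⟨ψ, hψ, rfl⟩ := hy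
        exact hmin ψ hψ)
    have hle : (charDegree (χ : G → ℂ)).factorization p ≤ (Nat.card G).factorization p :=
      (Nat.factorization_le_iff_dvd (charDegree_pos χ).ne' Nat.card_pos.ne').mpr
        (charDegree_dvd_card χ) p
    rw [hge] at hsum
    omega

end Cfsg.Agent.BlocksDefect
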