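import Cfsg.Agent.Lib.BlocksDefect.PowerTrace
import Cfsg.Agent.Lib.BlocksDefect.PrincipalSection
import Cfsg.Agent.Lib.BlocksCore.SecondBlock

/-!
# Külshammer's formula for the idempotent of the principal block
-/

set_option linter.unusedSectionVars false

namespace Cfsg.Agent.BlocksDefect

open BlocksCore MonoidAlgebra

variable {G : Type*} [Group G] [Finite G] {p : ℕ} {M : Ideal AlgInt}

section Residue

variable [M.IsPrime]

/-- The residue ring of the local ring. -/
abbrev Res (M : Ideal AlgInt) [M.IsPrime] := localRing M ⧸ localIdeal M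

open scoped Classical in
/-- Reduction modulo the local ideal (zero outside the local ring). -/
noncomputable def red (M : Ideal AlgInt) [M.IsPrime] (z : ℂ) : Res M :=
  if h : MemLocalRing M z then Ideal.Quotient.mk (localIdeal M) ⟨z, h⟩ else 0

theorem red_of_mem {z : ℂ} (h : MemLocalRing M z) :
    red M z = Ideal.Quotient.mk (localIdeal M) ⟨z, h⟩ := dif_pos h

theorem red_coe (z : localRing M) : red M (z : ℂ) = Ideal.Quotient.mk (localIdeal M) z :=
  red_of_mem z.2

theorem red_eq_zero {z : ℂ} (h : MemLocalIdeal M z) : red M z = 0 := by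
  rw [red_of_mem (memLocalRing_of_memLocalIdeal h), Ideal.Quotient.eq_zero_iff_mem]
  exact h

theorem red_eq_iff {a b : ℂ} (ha : MemLocalRing M a) (hb : MemLocalRing M b) :
    red M a = red M b ↔ MemLocalIdeal M (a - b) := by
  rw [red_of_mem ha, red_of_mem hb, Ideal.Quotient.eq, mem_localIdeal_iff]
  rfl

theorem red_mul {a b : ℂ} (ha : MemLocalRing M a) (hb : MemLocalRing M b) :
    red M (a * b) = red M a * red M b := by
  rw [red_of_mem ha, red_of_mem hb, red_of_mem ((localRing M).mul_mem ha hb), ← map_mul]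
  rfl

theorem red_sum {ι : Type*} (s : Finset ι) {f : ι → ℂ} (hf : ∀ i, MemLocalRing M (f i)) :
    red M (∑ i ∈ s, f i) = ∑ i ∈ s, red M (f i) := by
  rw [show ∑ i ∈ s, f i = ((∑ i ∈ s, (⟨f i, hf i⟩ : localRing M) : localRing M) : ℂ) by
    simp [AddSubmonoidClass.coe_finsetSum], red_coe, map_sum]
  exact Finset.sum_congr rfl fun i _ => (red_of_mem (hf i)).symm

theorem red_natCast (n : ℕ) : red M (n : ℂ) = (n : Res M) := by
  rw [show (n : ℂ) = ((n : localRing M) : ℂ) by simp, red_coe, map_natCast]

theorem charP_res (hM : IsPModular p M) : CharP (Res M) p := by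
  have : Nontrivial (Res M) := Ideal.Quotient.nontrivial_iff.mpr (localIdeal_isMaximal (M := M)).ne_top
  refine (CharP.charP_iff_prime_eq_zero hM.1).mpr ?_
  rw [← red_natCast, red_eq_zero ((memLocalIdeal_natCast_iff hM p).mpr dvd_rfl)]

variable [Fintype G]

/-- An integral function as an element of the residue group algebra. -/
noncomputable def toAlg (M : Ideal AlgInt) [M.IsPrime] (a : G → ℂ) :
    MonoidAlgebra (Res M) G :=
  ∑ x, red M (a x) • of (Res M) G x

theorem toAlg_classInd_one : toAlg M (classInd (1 : G)) = 1 := by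
  classical
  rw [toAlg, Finset.sum_eq_single 1]
  · rw [classInd_apply_of_isConj (IsConj.refl 1), map_one (of (Res M) G),
      show (1 : ℂ) = ((1 : localRing M) : ℂ) by simp, red_coe, map_one, one_smul]
  · intro x _ hx
    rw [classInd_apply_of_not_isConj fun h => hx (isConj_one_right.mp h),
      red_eq_zero memLocalIdeal_zero, zero_smul]
  · exact fun h => absurd (Finset.mem_univ _) h

theorem toAlg_conv {a b : G → ℂ} (ha : ∀ x, MemLocalRing M (a x))
    (hb : ∀ x, MemLocalRing M (b x)) : toAlg M (conv a b) = toAlg M a * toAlg M b := by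
  simp only [toAlg, Finset.sum_mul_sum, smul_mul_smul_comm, ← map_mul]
  rw [Finset.sum_congr rfl fun x _ => show red M (conv a b x) • of (Res M) G x =
    ∑ y, (red M (a y) * red M (b (y⁻¹ * x))) • of (Res M) G x by
      rw [← Finset.sum_smul, conv_apply,
        red_sum _ fun y => (localRing M).mul_mem (ha y) (hb _)]
      exact congrArg (· • of (Res M) G x)
        (Finset.sum_congr rfl fun y _ => red_mul (ha y) (hb _)), Finset.sum_comm]
  refine Finset.sum_congr rfl fun y _ => ?_
  exact Fintype.sum_equiv (Equiv.mulLeft y⁻¹) _ _ fun x => by simp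

/-- The class function whose central character is a power of that of `s`. -/
theorem exists_pow_fun {s : G → ℂ} (hs : IsIntClassFun M s) (n : ℕ) :
    ∃ c, IsIntClassFun M c ∧ (∀ χ : IrrCharacter G,
      omega (χ : G → ℂ) c = omega (χ : G → ℂ) s ^ n) ∧ toAlg M c = toAlg M s ^ n := by
  induction n with
  | zero =>
    exact ⟨classInd 1, isIntClassFun_classInd 1, fun χ => by rw [omega_classInd_one, pow_zero],
      by rw [pow_zero, toAlg_classInd_one]⟩
  | succ n ih =>
    obtain ⟨c, hc, hcω, hcA⟩ := ih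
    exact ⟨conv s c, isIntClassFun_conv hs hc,
      fun χ => by rw [omega_conv χ hs.1 hc.1, hcω, pow_succ'],
      by rw [toAlg_conv hs.2 hc.2, hcA, pow_succ']⟩

end Residue

/-- Külshammer's formula. -/
theorem kulshammer [Fact p.Prime] (hM : IsPModular p M) {g : G} (hg : ¬ p ∣ orderOf g) :
    MemLocalIdeal M (blockCoeff (principalBlock M G) g -
      (Nat.card {xy : G × G // (∃ k : ℕ, orderOf xy.1 = p ^ k) ∧ ¬ p ∣ orderOf xy.2 ∧
          xy.1 * xy.2 = g} : ℂ) / (Nat.card {y : G // ¬ p ∣ orderOf y} : ℂ)) := by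
  classical
  have := isPrime hM
  have := Fintype.ofFinite G
  have := charP_res (M := M) hM
  have hp : p.Prime := Fact.out
  set B := principalBlock M G with hBdef
  have hB : IsPBlock M B := isPBlock_principal
  have h1B : oneIrr G ∈ B := oneIrr_mem
  set R := Nat.card {y : G // ¬ p ∣ orderOf y} with hR
  set N := Nat.card {xy : G × G // (∃ k : ℕ, orderOf xy.1 = p ^ k) ∧ ¬ p ∣ orderOf xy.2 ∧
    xy.1 * xy.2 = g} with hN
  set e := blockCoeff B with he
  have heI : IsIntClassFun M e := isIntClassFun_blockCoeff hM hB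
  set s : G → ℂ := fun x => if p ∣ orderOf x then 0 else 1 with hs
  have hsI : IsIntClassFun M s := by
    refine ⟨fun x h => ?_, fun x => ?_⟩
    · simp only [hs, show orderOf (h * x * h⁻¹) = orderOf x from
        MulEquiv.orderOf_eq (MulAut.conj h) x]
    · simp only [hs]
      split_ifs
      · exact (localRing M).zero_mem
      · exact (localRing M).one_mem
  have hωs : omega (oneIrr G : G → ℂ) s = R := by
    rw [omega_eq_sum, coe_oneIrr, hR, Nat.card_eq_fintype_card, Fintype.card_subtype,
      Finset.natCast_card_filter, div_one]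
    exact Finset.sum_congr rfl fun x _ => by
      by_cases hx : p ∣ orderOf x <;> simp [hs, hx]
  have hout : ∀ χ : IrrCharacter G, χ ∉ B → omega (χ : G → ℂ) s = 0 := by
    intro χ hχ
    have hns : ¬ SameBlock M (χ : G → ℂ) (oneIrr G : G → ℂ) := fun h =>
      hχ (sameBlock_symm h)
    have h0 := sum_pRegular_mul_conj hM χ (oneIrr G) hns
    rw [finsum_mem_def, finsum_eq_sum_of_fintype] at h0
    rw [omega_eq_sum, div_eq_zero_iff]
    left
    rw [← h0]
    refine Finset.sum_congr rfl fun x _ => ?_
    by_cases hx : p ∣ orderOf x <;> simp [hs, hx, Set.indicator_apply, coe_oneIrr]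
  -- powers of `s - R e`
  set v : IrrCharacter G → ℂ := fun χ => omega (χ : G → ℂ) s with hv
  set ind : IrrCharacter G → ℂ := B.indicator 1 with hind
  set v₀ : IrrCharacter G → ℂ := v - (fun _ => (R : ℂ)) * ind with hv₀
  have hvmem : v ∈ omegaRing M := omega_mem_omegaRing hsI
  have hindmem : ind ∈ omegaRing M := indicator_block_mem_omegaRing hB
  have hRmem : (fun _ : IrrCharacter G => (R : ℂ)) * ind ∈ omegaRing M :=
    mul_mem (const_mem_omegaRing (natCast_mem (localRing M) R)) hindmem
  have hv₀mem : v₀ ∈ omegaRing M := sub_mem hvmem hRmem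
  have hv₀small : ∀ χ, MemLocalIdeal M (v₀ χ) := by
    intro χ
    by_cases hχ : χ ∈ B
    · simp only [hv₀, Pi.sub_apply, Pi.mul_apply, hv, hind, Set.indicator_of_mem hχ, Pi.one_apply,
        mul_one]
      rw [← hωs]
      exact omega_sub_memLocalIdeal (sameBlock_symm (sameBlock_of_mem hB h1B hχ)) hsI
    · simp only [hv₀, Pi.sub_apply, Pi.mul_apply, hv, hind, Set.indicator_of_notMem hχ, mul_zero,
        sub_zero, hout χ hχ]
      exact memLocalIdeal_zero
  obtain ⟨n₀, d, hdc, hdm, hdv⟩ := exists_small_pow hv₀mem hv₀small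
  -- the exponent
  set n := Nat.totient (orderOf g) * ((Nat.card G).factorization p + n₀ + 1) with hn
  have htot : 0 < Nat.totient (orderOf g) := Nat.totient_pos.mpr (orderOf_pos g)
  have hn' : (Nat.card G).factorization p + n₀ + 1 ≤ n := Nat.le_mul_of_pos_left _ htot
  set q := p ^ n with hq
  have hnq : n₀ + 1 ≤ q := by
    have := (Nat.lt_pow_self (n := n) hp.one_lt).le
    omega
  have hgq : g ^ q = g := by
    have h1 : q ≡ 1 [MOD orderOf g] := by
      rw [hq, hn, pow_mul]
      simpa using (Nat.ModEq.pow_totient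
        ((hp.coprime_iff_not_dvd.mpr hg))).pow ((Nat.card G).factorization p + n₀ + 1)
    simpa using pow_eq_pow_iff_modEq.mpr h1
  have hpel : ∀ x : G, x ^ q = 1 ↔ ∃ k : ℕ, orderOf x = p ^ k := by
    intro x
    rw [← orderOf_dvd_iff_pow_eq_one]
    constructor
    · intro h
      obtain ⟨i, -, hi⟩ := (Nat.dvd_prime_pow hp).mp h
      exact ⟨i, hi⟩
    · rintro ⟨k, hk⟩
      rw [hk, hq]
      refine Nat.pow_dvd_pow p ?_
      have h2 := (Nat.Prime.pow_dvd_iff_le_factorization hp Nat.card_pos.ne').mp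
        (hk ▸ orderOf_dvd_natCard x)
      omega
  -- `s ^ q` at `g`
  obtain ⟨c, hcI, hcω, hcA⟩ := exists_pow_fun hsI q
  obtain ⟨r, hr⟩ := exists_add_pow_prime_pow_eq hp (⟨v₀, hv₀mem⟩ : omegaRing (G := G) M)
    (⟨_, hRmem⟩ : omegaRing (G := G) M) n
  obtain ⟨rf, hrfI, hrfω⟩ := (((⟨v₀, hv₀mem⟩ : omegaRing (G := G) M) *
    ⟨_, hRmem⟩ * r : omegaRing (G := G) M)).2
  obtain ⟨f, hfI, hfω⟩ := (omegaRing (G := G) M).pow_mem hv₀mem (q - (n₀ + 1))
  have hsplit : c = conv f d + ((R : ℂ) ^ q) • e + (p : ℂ) • rf := by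
    refine eq_of_omega_eq hcI.1 (fun x h => ?_) fun χ => ?_
    · simp [isClassFunction_conv hfI.1 hdc x h, heI.1 x h, hrfI.1 x h]
    rw [hcω, omega_add, omega_add, omega_smul, omega_smul, omega_conv χ hfI.1 hdc,
      omega_blockCoeff, hfω, hdv, hrfω]
    have h1 := congrFun (congrArg Subtype.val hr) χ
    simp only [Subring.coe_add, Subring.coe_mul, Subring.coe_pow, Pi.add_apply, Pi.mul_apply,
      Pi.pow_apply, SubringClass.coe_natCast, Pi.natCast_apply] at h1 ⊢
    rw [show (omega (χ : G → ℂ) s) = v₀ χ + (R : ℂ) * ind χ by simp [hv₀, hv]]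
    rw [← pow_add, Nat.sub_add_cancel hnq, h1]
    have hi : (ind χ) ^ q = ind χ := by
      by_cases hχ : χ ∈ B <;>
        simp [hind, hχ, zero_pow (pow_ne_zero n hp.ne_zero), hq]
    rw [mul_pow, hi]
    ring
  have hcg : red M (c g) = (R : Res M) ^ q * red M (e g) := by
    rw [← red_natCast, show red M (R : ℂ) ^ q = red M ((R : ℂ) ^ q) from ?_, ← red_mul
      ((localRing M).pow_mem (natCast_mem _ R) q) (heI.2 g),
      red_eq_iff (hcI.2 g) ((localRing M).mul_mem ((localRing M).pow_mem (natCast_mem _ R) q)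
        (heI.2 g))]
    · rw [hsplit]
      simp only [Pi.add_apply, Pi.smul_apply, smul_eq_mul]
      have h1 : MemLocalIdeal M (conv f d g) := by
        rw [conv_apply]
        exact memLocalIdeal_sum fun y _ => memLocalIdeal_mul_left (hfI.2 y) (hdm _)
      have h2 : MemLocalIdeal M ((p : ℂ) * rf g) :=
        memLocalIdeal_mul_right ((memLocalIdeal_natCast_iff hM p).mpr dvd_rfl) (hrfI.2 g)
      convert memLocalIdeal_add h1 h2 using 1
      ring
    · rw [red_of_mem (natCast_mem (localRing M) R),
        red_of_mem ((localRing M).pow_mem (natCast_mem _ R) q), ← map_pow]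
      rfl
  -- the power trace
  set w : G → Res M := fun x => if x = 1 then 1 else 0 with hw
  set A := toAlg M s * of (Res M) G g⁻¹ with hA
  have hcomm : Commute (toAlg M s) (of (Res M) G g⁻¹) := by
    rw [Commute, SemiconjBy, toAlg, Finset.sum_mul, Finset.mul_sum]
    simp only [smul_mul_assoc, mul_smul_comm, ← map_mul]
    refine Fintype.sum_equiv (MulAut.conj g).toEquiv _ _ fun x => ?_
    simp only [MulEquiv.toEquiv_eq_coe, EquivLike.coe_coe, MulAut.conj_apply, hsI.1 x g]
    congr 2
    group
  have hcoeff : ∀ (a : G → ℂ) (t : G) (u : G → Res M),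
      wsum u (toAlg M a * of (Res M) G t) = ∑ x, red M (a x) * u (x * t) := fun a t u => by
    rw [toAlg, Finset.sum_mul, map_sum]
    refine Finset.sum_congr rfl fun x _ => ?_
    rw [smul_mul_assoc, ← map_mul, wsum_smul_of]
  have hL : wsum w (A ^ q) = red M (c g) := by
    rw [hA, hcomm.mul_pow, ← hcA, ← map_pow, inv_pow, hgq, hcoeff,
      Fintype.sum_eq_single g fun x hx => ?_]
    · simp [hw]
    · simp [hw, mul_inv_eq_one, hx]
  have hcoeffA : ∀ x, A.coeff x = red M (s (x * g)) := by
    intro x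
    have h1 := hcoeff s g⁻¹ (fun y => if y = x then 1 else 0)
    rw [← hA] at h1
    rw [Fintype.sum_eq_single (x * g) fun y hy => ?_] at h1
    · simpa [wsum] using h1
    · rw [if_neg fun e => hy (by rw [← e, inv_mul_cancel_right]), mul_zero]
  have hR' : ∑ x, A.coeff x * w (x ^ q) = (N : Res M) := by
    have e1 : ∀ x, A.coeff x * w (x ^ q) =
        if (∃ k : ℕ, orderOf x = p ^ k) ∧ ¬ p ∣ orderOf (x * g) then 1 else 0 := by
      intro x
      rw [hcoeffA, hw]
      simp only [hpel x, hs]
      by_cases h1 : ∃ k : ℕ, orderOf x = p ^ k <;> by_cases h2 : p ∣ orderOf (x * g) <;>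
        simp [h1, h2, ← red_natCast]
      · exact red_eq_zero memLocalIdeal_zero
      · simpa using red_natCast (M := M) 1
    rw [Finset.sum_congr rfl fun x _ => e1 x, ← Finset.natCast_card_filter,
      ← Fintype.card_subtype, ← Nat.card_eq_fintype_card, hN]
    congr 1
    refine Nat.card_congr
      { toFun := fun x => ⟨((x : G)⁻¹, (x : G) * g), by
          obtain ⟨k, hk⟩ := x.2.1
          exact ⟨k, by rw [orderOf_inv, hk]⟩, x.2.2, by simp⟩
        invFun := fun xy => ⟨(xy : G × G).1⁻¹, by
          obtain ⟨⟨a, b⟩, ⟨k, hk⟩, hb, hab⟩ := xy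
          refine ⟨⟨k, by rw [orderOf_inv, hk]⟩, ?_⟩
          dsimp only at hab hb ⊢
          rwa [← hab, inv_mul_cancel_left]⟩
        left_inv := fun x => by simp
        right_inv := fun xy => by
          obtain ⟨⟨a, b⟩, -, -, hab⟩ := xy
          dsimp only at hab
          simp [← hab] }
  have hmain := wsum_pow_prime_pow A n (w := w) (fun x y h => by
      simp only [hw]
      by_cases hx : x = 1
      · subst hx; rw [if_pos rfl, if_pos (isConj_one_right.mp h)]
      · rw [if_neg hx, if_neg fun hy => hx (by subst hy; exact isConj_one_left.mp h)])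
    (fun x => by simp only [hw]; split_ifs <;> simp [hp.ne_zero])
  rw [← hq, hR', hL, hcg] at hmain
  have hfrob : ∀ m : ℕ, (m : Res M) ^ q = m := fun m => by
    rw [hq, ← iterateFrobenius_def (R := Res M) p n, map_natCast]
  rw [hfrob, hfrob] at hmain
  have hRu : ¬ p ∣ R := by
    intro hdvd
    have h1 : MemLocalIdeal M (omega (oneIrr G : G → ℂ) s) := by
      rw [hωs]; exact (memLocalIdeal_natCast_iff hM R).mpr hdvd
    have h2 := (regPair_unit_iff hM hB h1B h1B).mpr (blockHeight_one B)
    refine h2 ?_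
    convert h1 using 1
    rw [regPair]
    congr 1
  rw [← red_natCast, ← red_natCast, ← red_mul (natCast_mem (localRing M) R) (heI.2 g),
    red_eq_iff ((localRing M).mul_mem (natCast_mem (localRing M) R) (heI.2 g)) (natCast_mem (localRing M) N)] at hmain
  have h3 := memLocalIdeal_mul_left (memLocalRing_natCast_inv hM hRu) hmain
  convert h3 using 1
  have hR0 : (R : ℂ) ≠ 0 := Nat.cast_ne_zero.mpr fun h => hRu (h ▸ dvd_zero p)
  field_simp

end Cfsg.Agent.BlocksDefect
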