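import Cfsg.Agent.Lib.BlocksDefect.Basic

/-!
# Lifting functions on `p`-regular classes

Every class function with local-integer values agrees on the `p`-regular elements with a
combination of irreducible characters with local-integer coefficients.
-/

namespace Cfsg.Agent.BlocksDefect

open BlocksCore

variable {G : Type*} [Group G] [Finite G] {p : ℕ} {M : Ideal AlgInt}

/-- The trace of an endomorphism of finite order is an algebraic integer. -/
theorem isIntegral_trace_of_pow_eq_one {V : Type*} [AddCommGroup V] [Module ℂ V]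
    [FiniteDimensional ℂ V] (T : Module.End ℂ V) {m : ℕ} (hm : 0 < m) (hT : T ^ m = 1) :
    IsIntegral ℤ (LinearMap.trace ℂ V T) := by
  obtain ⟨b, ω, hb⟩ := CharCore.exists_eigenbasis T hm hT
  rw [CharCore.trace_eq_sum_of_eigenbasis b ω T fun i => (hb i).2]
  exact IsIntegral.sum _ fun i _ => IsIntegral.of_pow hm ((hb i).1 ▸ isIntegral_one)

omit [Finite G] in
theorem pow_idempotent_split {R : Type*} [Ring R] {f e : R} (he : e * e = e) (hfe : f * e = e * f)
    (k : ℕ) : (f * e + (1 - e)) ^ k = f ^ k * e + (1 - e) := by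
  induction k with
  | zero => simp
  | succ k ih =>
    have h1 : (1 - e) * (f * e) = 0 := by
      rw [hfe, ← mul_assoc, sub_mul, one_mul, he, sub_self, zero_mul]
    have h2 : (f ^ k * e) * (1 - e) = 0 := by
      rw [mul_assoc, mul_sub, mul_one, he, sub_self, mul_zero]
    have h3 : (1 - e) * (1 - e) = 1 - e := by
      rw [mul_sub, mul_one, sub_mul, one_mul, he, sub_self, sub_zero]
    have h4 : (f ^ k * e) * (f * e) = f ^ (k + 1) * e := by
      rw [hfe, ← mul_assoc, mul_assoc (f ^ k), he, mul_assoc, ← hfe, ← mul_assoc, ← pow_succ]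
    rw [pow_succ, ih, add_mul, mul_add, mul_add, h1, h2, h3, h4, add_zero, zero_add]

/-- The average of a character over a coset `gP`, for `P` a subgroup centralized by `g`, is an
algebraic integer: it is the trace of `g` on the fixed space of `P`. -/
theorem isIntegral_coset_average [Fintype G] (χ : IrrCharacter G) (g : G) (P : Subgroup G)
    [Fintype P] (hg : g ∈ Subgroup.centralizer (P : Set G)) :
    IsIntegral ℤ ((Nat.card P : ℂ)⁻¹ * ∑ u : P, (χ : G → ℂ) (g * u)) := by
  obtain ⟨n, ρ, -, hρ⟩ := χ.2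
  set e : Module.End ℂ (Fin n → ℂ) := (Nat.card P : ℂ)⁻¹ • ∑ u : P, ρ (u : G) with he
  have hmul : ∀ v : P, ρ (v : G) * (∑ u : P, ρ (u : G)) = ∑ u : P, ρ (u : G) := fun v => by
    rw [Finset.mul_sum]
    refine Fintype.sum_equiv (Equiv.mulLeft v) _ _ fun u => ?_
    simp [map_mul]
  have hne : (Nat.card P : ℂ) ≠ 0 := Nat.cast_ne_zero.mpr Nat.card_pos.ne'
  have hee : e * e = e := by
    rw [he, smul_mul_smul_comm, Finset.sum_mul, Finset.sum_congr rfl (fun u _ => hmul u),
      Finset.sum_const, Finset.card_univ, ← Nat.card_eq_fintype_card,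
      ← Nat.cast_smul_eq_nsmul ℂ, smul_smul]
    congr 1
    field_simp
  have hfe : ρ g * e = e * ρ g := by
    rw [he, mul_smul_comm, smul_mul_assoc, Finset.mul_sum, Finset.sum_mul]
    congr 1
    refine Finset.sum_congr rfl fun u _ => ?_
    rw [← map_mul, ← map_mul, Subgroup.mem_centralizer_iff.mp hg u u.2]
  have hord : ρ g ^ orderOf g = 1 := by rw [← map_pow, pow_orderOf_eq_one, map_one]
  have hint := isIntegral_trace_of_pow_eq_one (ρ g * e + (1 - e)) (orderOf_pos g)
    (by rw [pow_idempotent_split hee hfe, hord, one_mul, add_sub_cancel])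
  have hid : IsIdempotentElem (1 - e) := (show IsIdempotentElem e from hee).one_sub
  rw [map_add] at hint
  have h1e : IsIntegral ℤ (LinearMap.trace ℂ _ (1 - e)) := by
    rw [(LinearMap.IsIdempotentElem.isProj_range _ hid).trace]
    exact isIntegral_algebraMap (R := ℤ) (x := (_ : ℤ))
  have := hint.sub h1e
  rw [add_sub_cancel_right] at this
  refine (congrArg (IsIntegral ℤ) ?_).mp this
  rw [he, mul_smul_comm, Finset.mul_sum, map_smul, map_sum, smul_eq_mul]
  refine congrArg _ (Finset.sum_congr rfl fun u _ => ?_)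
  rw [← map_mul, ← hρ]
  rfl

/-- The second orthogonality relation. -/
theorem sum_irr_mul_inv [Fintype G] [Fintype (IrrCharacter G)] (x y : G) [Decidable (IsConj x y)] :
    ∑ θ : IrrCharacter G, (θ : G → ℂ) x * (θ : G → ℂ) y⁻¹ =
      if IsConj x y then (Nat.card (Subgroup.centralizer ({x} : Set G)) : ℂ) else 0 := by
  classical
  set F : G → ℂ := fun z => ∑ θ : IrrCharacter G, (θ : G → ℂ) x * (θ : G → ℂ) z⁻¹ with hF
  have hFc : IsClassFunction G F := fun a b => Finset.sum_congr rfl fun θ _ => by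
    rw [show (b * a * b⁻¹)⁻¹ = b * a⁻¹ * b⁻¹ by group, irr_class θ a⁻¹ b]
  have hcc : IsClassFunction G
      ((Nat.card (Subgroup.centralizer ({x} : Set G)) : ℂ) • classInd x) := fun a b => by
    simp only [Pi.smul_apply, isClassFunction_classInd x a b]
  have h : F = (Nat.card (Subgroup.centralizer ({x} : Set G)) : ℂ) • classInd x := by
    refine eq_of_omega_eq hFc hcc fun ψ => ?_
    rw [omega_smul, omega_classInd (irr_class ψ), centralChar, ← mul_div_assoc, ← mul_assoc,
      ← Nat.cast_mul, Subgroup.card_mul_index, omega_eq_sum]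
    congr 1
    simp only [hF, Finset.sum_mul]
    rw [Finset.sum_comm]
    simp only [mul_assoc, ← Finset.mul_sum]
    have e : ∀ θ : IrrCharacter G,
        ∑ z : G, (θ : G → ℂ) z⁻¹ * (ψ : G → ℂ) z = if ψ = θ then (Nat.card G : ℂ) else 0 := by
      intro θ
      rw [← sum_char_mul_inv ψ θ]
      exact Finset.sum_congr rfl fun z _ => mul_comm _ _
    simp only [e, mul_ite, mul_zero, Finset.sum_ite_eq, Finset.mem_univ, if_true]
    ring
  show F y = _
  rw [h, Pi.smul_apply, smul_eq_mul]
  split_ifs with hc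
  · rw [classInd_apply_of_isConj hc, mul_one]
  · rw [classInd_apply_of_not_isConj hc, mul_zero]

omit [Finite G] in
theorem eq_one_of_mul_pRegular (hp : p.Prime) {g u : G} {k : ℕ} (hu : orderOf u = p ^ k)
    (hc : Commute g u) (hg : ¬ p ∣ orderOf g) (h : ¬ p ∣ orderOf (g * u)) : u = 1 := by
  have hcop : (p ^ k).Coprime (orderOf g * orderOf (g * u)) :=
    Nat.Coprime.pow_left _ ((hp.coprime_iff_not_dvd).mpr fun hd =>
      (hp.dvd_mul.mp hd).elim hg h)
  have hpow : u ^ (orderOf g * orderOf (g * u)) = 1 := by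
    have : (g * u) ^ (orderOf g * orderOf (g * u)) = 1 := by
      rw [mul_comm, pow_mul, pow_orderOf_eq_one, one_pow]
    rw [hc.mul_pow, pow_mul g, pow_orderOf_eq_one, one_pow, one_mul] at this
    exact this
  have := orderOf_dvd_of_pow_eq_one hpow
  rw [hu] at this
  exact orderOf_eq_one_iff.mp (hu ▸ hcop.eq_one_of_dvd this)

variable [Fact p.Prime]

/-- Lifting the indicator of a `p`-regular class. -/
theorem exists_lift_classInd (hM : IsPModular p M) [Fintype G] [Fintype (IrrCharacter G)] {g : G} (hg : ¬ p ∣ orderOf g) :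
    ∃ c : IrrCharacter G → ℂ, (∀ θ, MemLocalRing M (c θ)) ∧
      ∀ x, ¬ p ∣ orderOf x → classInd g x = ∑ θ, c θ * (θ : G → ℂ) x := by
  classical
  have := isPrime hM
  obtain ⟨P, hP⟩ := exists_isSylowCent p g
  have := Fintype.ofFinite P
  set N := Nat.card (Subgroup.centralizer ({g} : Set G)) with hN
  set m := N / p ^ N.factorization p with hm
  have hmdvd : ¬ p ∣ m := Nat.not_dvd_ordCompl hM.1 Nat.card_pos.ne'
  have hprod : Nat.card P * m = N := by rw [hP.natCard]; exact Nat.ordProj_mul_ordCompl_eq_self _ _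
  refine ⟨fun θ => (m : ℂ)⁻¹ * ((Nat.card P : ℂ)⁻¹ * ∑ u : P, (θ : G → ℂ) (g⁻¹ * u)), fun θ => ?_,
    fun x hx => ?_⟩
  · exact (localRing M).mul_mem (memLocalRing_natCast_inv hM hmdvd) (memLocalRing_of_isIntegral
      (isIntegral_coset_average θ g⁻¹ P (Subgroup.inv_mem _ hP.mem_centralizer)))
  have hmP : (m : ℂ) * (Nat.card P : ℂ) = (N : ℂ) := by rw [mul_comm]; exact_mod_cast hprod
  have hN0 : (N : ℂ) ≠ 0 := Nat.cast_ne_zero.mpr Nat.card_pos.ne'
  have hswap : ∑ θ : IrrCharacter G, ((m : ℂ)⁻¹ * ((Nat.card P : ℂ)⁻¹ *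
      ∑ u : P, (θ : G → ℂ) (g⁻¹ * u))) * (θ : G → ℂ) x =
      (N : ℂ)⁻¹ * ∑ u : P, ∑ θ : IrrCharacter G,
        (θ : G → ℂ) x * (θ : G → ℂ) ((u : G)⁻¹ * g)⁻¹ := by
    simp only [Finset.sum_mul, Finset.mul_sum]
    rw [Finset.sum_comm]
    refine Finset.sum_congr rfl fun u _ => Finset.sum_congr rfl fun θ _ => ?_
    rw [← hmP, mul_inv, mul_inv_rev, inv_inv]
    ring
  simp only [hswap, sum_irr_mul_inv]
  have hone : ∀ u : P, IsConj x ((u : G)⁻¹ * g) → u = 1 := by
    intro u hu
    obtain ⟨k, hk⟩ := (IsPGroup.iff_orderOf.mp hP.isPGroup) u⁻¹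
    have hco : Commute g ((u : G)⁻¹) :=
      (Subgroup.mem_centralizer_iff.mp hP.mem_centralizer _ (P.inv_mem u.2)).symm
    have hreg : ¬ p ∣ orderOf (g * (u : G)⁻¹) := by
      rw [hco.eq]
      obtain ⟨z, hz⟩ := isConj_iff.mp hu
      rwa [← hz, ← MulAut.conj_apply, MulEquiv.orderOf_eq]
    have := eq_one_of_mul_pRegular hM.1 (g := g) (u := (u : G)⁻¹) (k := k)
      (by rw [← hk, ← Subgroup.orderOf_coe, InvMemClass.coe_inv]) hco hg hreg
    exact Subtype.ext (inv_eq_one.mp this)
  rw [Finset.sum_eq_single (1 : P)]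
  · by_cases hxg : IsConj g x
    · have h1 : IsConj x (((1 : P) : G)⁻¹ * g) := by simpa using hxg.symm
      rw [if_pos h1, classInd, Set.indicator_of_mem (by simpa using hxg), Pi.one_apply]
      have : Nat.card (Subgroup.centralizer ({x} : Set G)) = N := by
        obtain ⟨z, rfl⟩ := isConj_iff.mp hxg
        have h1 := natCard_isConj g
        have h2 := natCard_isConj (z * g * z⁻¹)
        have he : Nat.card {y : G // IsConj g y} = Nat.card {y : G // IsConj (z * g * z⁻¹) y} :=
          Nat.card_congr (Equiv.subtypeEquivRight fun y =>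
            ⟨fun h => hxg.symm.trans h, fun h => hxg.trans h⟩)
        rw [h1, h2] at he
        have e1 := Subgroup.card_mul_index (Subgroup.centralizer ({g} : Set G))
        have e2 := Subgroup.card_mul_index (Subgroup.centralizer ({z * g * z⁻¹} : Set G))
        rw [← he, ← e1] at e2
        exact Nat.eq_of_mul_eq_mul_right
          (Nat.pos_of_ne_zero Subgroup.FiniteIndex.index_ne_zero) e2
      rw [this, inv_mul_cancel₀ hN0]
    · have h1 : ¬ IsConj x (((1 : P) : G)⁻¹ * g) := by
        rw [OneMemClass.coe_one, inv_one, one_mul]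
        exact fun h => hxg h.symm
      rw [if_neg h1, classInd, Set.indicator_of_notMem (by simpa using hxg), mul_zero]
  · intro u _ hu
    exact if_neg fun h => hu (hone u h)
  · simp

/-- Lifting of class functions with local-integer values. -/
theorem exists_lift (hM : IsPModular p M) [Fintype G] [Fintype (IrrCharacter G)] {a : G → ℂ} (ha : IsIntClassFun M a) :
    ∃ c : IrrCharacter G → ℂ, (∀ θ, MemLocalRing M (c θ)) ∧
      ∀ x, ¬ p ∣ orderOf x → a x = ∑ θ, c θ * (θ : G → ℂ) x := by
  classical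
  have := isPrime hM
  have : Finite (ConjClasses G) := Quotient.finite _
  have := Fintype.ofFinite (ConjClasses G)
  have hex : ∀ C : ConjClasses G, ∃ c : IrrCharacter G → ℂ, (∀ θ, MemLocalRing M (c θ)) ∧
      ∀ x, ¬ p ∣ orderOf x → classInd (Quotient.out C) x = ∑ θ, c θ * (θ : G → ℂ) x := by
    intro C
    by_cases hC : p ∣ orderOf (Quotient.out C)
    · refine ⟨0, fun θ => memLocalRing_of_mem (zero_mem _), fun x hx => ?_⟩
      rw [classInd, Set.indicator_of_notMem]
      · simp
      · intro h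
        obtain ⟨z, rfl⟩ := isConj_iff.mp h
        exact hx (by rwa [← MulAut.conj_apply, MulEquiv.orderOf_eq])
    · exact exists_lift_classInd hM hC
  choose c hc hcx using hex
  refine ⟨fun θ => ∑ C : ConjClasses G, a (Quotient.out C) * c C θ,
    fun θ => memLocalRing_sum fun C _ => (localRing M).mul_mem (ha.2 _) (hc C θ), fun x hx => ?_⟩
  calc a x = ∑ C : ConjClasses G, a (Quotient.out C) * classInd (Quotient.out C) x := by
        refine Eq.symm ?_
        rw [Fintype.sum_eq_single (ConjClasses.mk x)]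
        · have : IsConj (Quotient.out (ConjClasses.mk x)) x :=
            ConjClasses.mk_eq_mk_iff_isConj.mp (Quotient.out_eq _)
          rw [classInd, Set.indicator_of_mem (by simpa using this), Pi.one_apply, mul_one,
            classFun_eq_of_isConj ha.1 this]
        · intro C hC
          rw [classInd, Set.indicator_of_notMem, mul_zero]
          intro h
          exact hC ((Quotient.out_eq C).symm.trans (ConjClasses.mk_eq_mk_iff_isConj.mpr h))
    _ = ∑ θ : IrrCharacter G, (∑ C : ConjClasses G, a (Quotient.out C) * c C θ) * (θ : G → ℂ) x := by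
        simp only [hcx _ x hx, Finset.mul_sum, Finset.sum_mul, mul_assoc]
        exact Finset.sum_comm

end Cfsg.Agent.BlocksDefect
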