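import Cfsg.Agent.Lib.BlocksDefect.Covering

/-!
# Inflation across normal `p'`- and centralised `p`-subgroups, orbit idempotents
-/

namespace Cfsg.Agent.BlocksDefect

open BlocksCore

variable {G : Type*} [Group G] [Finite G] {p : ℕ} {M : Ideal AlgInt} {N : Subgroup G} [N.Normal]

omit [Finite G] in
theorem isIntClassFun_comp_mk [M.IsPrime] {c : G ⧸ N → ℂ} (hc : IsIntClassFun M c) {r : ℂ}
    (hr : MemLocalRing M r) : IsIntClassFun M (fun x : G => r * c (QuotientGroup.mk x)) :=
  ⟨fun g h => by simp only [QuotientGroup.mk_mul, QuotientGroup.mk_inv, hc.1 _ _],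
    fun g => (localRing M).mul_mem hr (hc.2 _)⟩

omit [N.Normal] in
theorem pushFun_comp_mk (c : G ⧸ N → ℂ) :
    pushFun N (fun x : G => (Nat.card N : ℂ)⁻¹ * c (QuotientGroup.mk x)) = c := by
  classical
  have := Fintype.ofFinite G
  funext q
  induction q using QuotientGroup.induction_on with
  | H g =>
    rw [pushFun_eq_sum, Finset.sum_congr rfl (fun x hx => by rw [(Finset.mem_filter.mp hx).2]),
      Finset.sum_const, nsmul_eq_mul, ← mul_assoc]
    have : (Finset.univ.filter (fun x : G => (QuotientGroup.mk x : G ⧸ N) = QuotientGroup.mk g)).card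
        = Nat.card N := by
      have := Fintype.ofFinite N
      rw [Nat.card_eq_fintype_card, ← Finset.card_univ]
      refine (Finset.card_bij (fun (n : N) _ => g * (n : G)) (fun n _ => ?_) (fun a _ b _ h =>
        Subtype.ext (mul_left_cancel h)) fun x hx => ?_).symm
      · simp
      · exact ⟨⟨g⁻¹ * x, QuotientGroup.eq.mp (Finset.mem_filter.mp hx).2.symm⟩,
          Finset.mem_univ _, by simp⟩
    rw [this, mul_inv_cancel₀ (Nat.cast_ne_zero.mpr Nat.card_pos.ne'), one_mul]

/-- Inflation across a normal `p'`-subgroup reflects blocks. -/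
theorem sameBlock_of_inflate_pPrime (hM : IsPModular p M) (hN : ¬ p ∣ Nat.card N)
    {χ ψ : IrrCharacter (G ⧸ N)}
    (h : SameBlock M (inflate N χ : G → ℂ) (inflate N ψ : G → ℂ)) :
    SameBlock M (χ : G ⧸ N → ℂ) (ψ : G ⧸ N → ℂ) := by
  have := isPrime hM
  refine sameBlock_of_inflate N hM (fun c hc => ⟨_,
    isIntClassFun_comp_mk hc (memLocalRing_natCast_inv hM hN), ?_, ?_⟩) h <;>
    rw [pushFun_comp_mk]

variable [Fact p.Prime]

/-- The lift of a function of the quotient to the `p`-regular elements. -/
noncomputable def regLift (p : ℕ) (c : G ⧸ N → ℂ) : G → ℂ :=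
  fun x => if p ∣ orderOf x then 0 else c (QuotientGroup.mk x)

omit [Fact p.Prime] [Finite G] [N.Normal] in
theorem regLift_def (c : G ⧸ N → ℂ) (x : G) :
    regLift p c x = if p ∣ orderOf x then 0 else c (QuotientGroup.mk x) := rfl

/-- Inflation across a normal `p`-subgroup whose centralizer has `p`-power index reflects
blocks. -/
theorem sameBlock_of_inflate_pGroup (hM : IsPModular p M) (hN : IsPGroup p N)
    (hC : ∃ k : ℕ, (Subgroup.centralizer (N : Set G)).index = p ^ k)
    {χ ψ : IrrCharacter (G ⧸ N)}
    (h : SameBlock M (inflate N χ : G → ℂ) (inflate N ψ : G → ℂ)) :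
    SameBlock M (χ : G ⧸ N → ℂ) (ψ : G ⧸ N → ℂ) := by
  classical
  have := isPrime hM
  have := Fintype.ofFinite G
  have := Fintype.ofFinite (G ⧸ N)
  set c := blockCoeff (blockOf M (χ : G ⧸ N → ℂ)) with hc
  have hci : IsIntClassFun M c := isIntClassFun_blockCoeff hM (isPBlock_blockOf χ)
  have hai : IsIntClassFun M (regLift p c) := by
    refine ⟨fun g x => ?_, fun g => ?_⟩
    · simp only [regLift_def, orderOf_conjugate, QuotientGroup.mk_mul, QuotientGroup.mk_inv,
        hci.1 _ _]
    · rw [regLift_def]; split_ifs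
      · exact memLocalRing_of_mem (zero_mem _)
      · exact hci.2 _
  have hpush : pushFun N (regLift p c) = c := by
    funext q
    induction q using QuotientGroup.induction_on with
    | H g =>
      rw [pushFun_eq_sum]
      by_cases hg : p ∣ orderOf (QuotientGroup.mk g : G ⧸ N)
      · rw [hc, blockCoeff_eq_zero_of_dvd_orderOf hM (isPBlock_blockOf χ) hg]
        refine Finset.sum_eq_zero fun x hx => ?_
        rw [regLift_def]
        split_ifs with hd
        · rfl
        · exact absurd (hg.trans ((Finset.mem_filter.mp hx).2 ▸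
            orderOf_map_dvd (QuotientGroup.mk' N) x)) hd
      · obtain ⟨x₀, hx₀, hx₀g⟩ := exists_regular_in_coset hg
        rw [Finset.sum_eq_single x₀]
        · rw [regLift_def, if_neg hx₀, hx₀g]
        · intro x hx hne
          rw [regLift_def]
          split_ifs with hd
          · rfl
          · exact absurd (eq_of_regular_of_coset hN hd hx₀ (regular_mem_centralizer hC hd)
              ((Finset.mem_filter.mp hx).2.trans hx₀g.symm)) hne
        · intro hn
          exact absurd hx₀g (by simpa using hn)
  have hd := omega_sub_memLocalIdeal h hai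
  rw [show ((inflate N χ : IrrCharacter G) : G → ℂ) = (χ : G ⧸ N → ℂ) ∘ QuotientGroup.mk from rfl,
    show ((inflate N ψ : IrrCharacter G) : G → ℂ) = (ψ : G ⧸ N → ℂ) ∘ QuotientGroup.mk from rfl,
    omega_comp_mk, omega_comp_mk, hpush, hc, omega_blockCoeff, omega_blockCoeff,
    Set.indicator_of_mem (mem_blockOf_self χ), Pi.one_apply] at hd
  by_contra hn
  rw [Set.indicator_of_notMem (by exact hn), sub_zero] at hd
  exact not_memLocalIdeal_one (M := M) hd

omit [Fact p.Prime] in
/-- For a normal `p'`-subgroup the indicator of any orbit is integral. -/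
theorem isIntClassFun_orbit_pPrime (hM : IsPModular p M) (hN : ¬ p ∣ Nat.card N)
    (b : Set (IrrCharacter N)) : IsIntClassFun M (extFun (blockCoeff (orbitSet (G := G) b))) := by
  classical
  have := isPrime hM
  have := Fintype.ofFinite G
  have := Fintype.ofFinite N
  refine ⟨isClassFunction_extFun (conjFun_blockCoeff_orbitSet b), fun x => ?_⟩
  by_cases hx : x ∈ N
  · rw [show x = ((⟨x, hx⟩ : N) : G) from rfl, extFun_coe, blockCoeff_eq_sum]
    refine (localRing M).mul_mem (memLocalRing_natCast_inv hM hN) (memLocalRing_sum fun φ _ => ?_)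
    refine (localRing M).mul_mem ?_ ((localRing M).mul_mem
      (memLocalRing_of_isIntegral (isIntegral_irr φ _))
      (memLocalRing_of_isIntegral (isIntegral_irr φ _)))
    by_cases h : φ ∈ orbitSet (G := G) b
    · rw [Set.indicator_of_mem h]; exact (localRing M).one_mem
    · rw [Set.indicator_of_notMem h]; exact (localRing M).zero_mem
  · rw [extFun_notMem _ hx]
    exact memLocalRing_of_mem (zero_mem _)

end Cfsg.Agent.BlocksDefect
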