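import Cfsg.Agent.Lib.BlocksDefect.Normal
import Cfsg.Agent.Lib.BlocksCore.Brauer

/-!
# Covering of blocks, normal `p`-subgroups, and blocks of local subgroups
-/

namespace Cfsg.Agent.BlocksDefect

open BlocksCore

variable {G : Type*} [Group G] [Finite G] {p : ℕ} {M : Ideal AlgInt}
  {N : Subgroup G}

theorem omega_res_classInd_of_mem [Fintype N] [N.Normal] {χ : IrrCharacter G}
    {θ : IrrCharacter N} (h : IsConstituent χ θ) (n : N) :
    centralChar (χ : G → ℂ) (n : G) = inducedCentralChar N (θ : N → ℂ) (n : G) := by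
  have := Fintype.ofFinite G
  rw [← omega_classInd (irr_class χ), ← omega_res_classInd]
  refine omega_eq_of_constituent h (isClassFunction_classInd _) fun x hx => ?_
  refine classInd_apply_of_not_isConj fun hc => hx ?_
  obtain ⟨g, rfl⟩ := isConj_iff.mp hc
  exact Subgroup.Normal.conj_mem inferInstance _ n.2 g

/-- Equality of central characters on the classes inside `N` extends to supported class
functions. -/
theorem omega_eq_of_classes [N.Normal] {χ : IrrCharacter G} {θ : IrrCharacter N}
    (h : ∀ n : N, centralChar (χ : G → ℂ) (n : G) = inducedCentralChar N (θ : N → ℂ) (n : G))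
    {a : G → ℂ} (ha : IsClassFunction G a) (hs : ∀ x, x ∉ N → a x = 0) :
    omega (χ : G → ℂ) a = omega (θ : N → ℂ) (res N a) := by
  classical
  have := Fintype.ofFinite G
  have := Fintype.ofFinite N
  have : Finite (ConjClasses G) := Finite.of_surjective _ ConjClasses.mk_surjective
  have := Fintype.ofFinite (ConjClasses G)
  have e2 := eq_sum_classes ha
  have e1 : res N a =
      ∑ C : ConjClasses G, a (Quotient.out C) • res N (classInd (Quotient.out C)) := by
    funext x
    simp only [res, Finset.sum_apply, Pi.smul_apply]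
    conv_lhs => rw [e2]
    simp only [Finset.sum_apply, Pi.smul_apply]
  rw [e1, show omega (χ : G → ℂ) a = omega (χ : G → ℂ)
      (∑ C : ConjClasses G, a (Quotient.out C) • classInd (Quotient.out C)) by rw [← e2],
    omega_sum, omega_sum]
  refine Finset.sum_congr rfl fun C _ => ?_
  rw [omega_smul, omega_smul]
  by_cases hC : Quotient.out C ∈ N
  · rw [omega_res_classInd, omega_classInd (irr_class χ)]
    exact congrArg _ (h ⟨_, hC⟩)
  · rw [hs _ hC, zero_mul, zero_mul]

/-- Congruence of central characters on the classes inside `N` extends to supported integral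
class functions. -/
theorem omega_congr_of_classes [N.Normal] (hM : IsPModular p M) {χ : IrrCharacter G}
    {θ : IrrCharacter N}
    (h : ∀ n : N, MemLocalIdeal M
      (centralChar (χ : G → ℂ) (n : G) - inducedCentralChar N (θ : N → ℂ) (n : G)))
    {a : G → ℂ} (ha : IsIntClassFun M a) (hs : ∀ x, x ∉ N → a x = 0) :
    MemLocalIdeal M (omega (χ : G → ℂ) a - omega (θ : N → ℂ) (res N a)) := by
  classical
  have := isPrime hM
  have := Fintype.ofFinite G
  have := Fintype.ofFinite N
  have : Finite (ConjClasses G) := Finite.of_surjective _ ConjClasses.mk_surjective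
  have := Fintype.ofFinite (ConjClasses G)
  have e2 := eq_sum_classes ha.1
  have e1 : res N a =
      ∑ C : ConjClasses G, a (Quotient.out C) • res N (classInd (Quotient.out C)) := by
    funext x
    simp only [res, Finset.sum_apply, Pi.smul_apply]
    conv_lhs => rw [e2]
    simp only [Finset.sum_apply, Pi.smul_apply]
  rw [e1, show omega (χ : G → ℂ) a = omega (χ : G → ℂ)
      (∑ C : ConjClasses G, a (Quotient.out C) • classInd (Quotient.out C)) by rw [← e2],
    omega_sum, omega_sum, ← Finset.sum_sub_distrib]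
  refine memLocalIdeal_sum fun C _ => ?_
  rw [omega_smul, omega_smul]
  by_cases hC : Quotient.out C ∈ N
  · rw [← mul_sub, omega_res_classInd, omega_classInd (irr_class χ)]
    exact memLocalIdeal_mul_left (ha.2 _) (h ⟨_, hC⟩)
  · rw [hs _ hC, zero_mul, zero_mul, sub_zero]
    exact memLocalIdeal_zero

variable [Fact p.Prime]

omit [Finite G] in
theorem mem_of_not_dvd_orderOf [N.Normal] {k : ℕ} (hk : N.index = p ^ k) {x : G}
    (hx : ¬ p ∣ orderOf x) : x ∈ N := by
  have h3 : (QuotientGroup.mk x : G ⧸ N) ^ orderOf x = 1 := by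
    rw [← QuotientGroup.mk_pow, pow_orderOf_eq_one, QuotientGroup.mk_one]
  have h4 : (QuotientGroup.mk x : G ⧸ N) ^ p ^ k = 1 := by
    rw [← hk, Subgroup.index, pow_card_eq_one']
  have h5 := pow_gcd_eq_one.mpr ⟨h3, h4⟩
  rw [Nat.Coprime.gcd_eq_one (Nat.Coprime.pow_right k
    (((Nat.Prime.coprime_iff_not_dvd Fact.out).mpr hx).symm)), pow_one] at h5
  exact (QuotientGroup.eq_one_iff x).mp h5

/-- Over a subgroup of `p`-power index, the covering block is unique. -/
theorem mem_of_covers (hM : IsPModular p M) [Fintype N] [N.Normal] (hidx : ∃ k, N.index = p ^ k)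
    {b : Set (IrrCharacter N)} (hb : IsPBlock M b) {χ χ' : IrrCharacter G}
    {θ θ' : IrrCharacter N} (hθ : θ ∈ b) (hθ' : θ' ∈ b) (h : IsConstituent χ θ)
    (h' : IsConstituent χ' θ') : SameBlock M (χ' : G → ℂ) (χ : G → ℂ) := by
  classical
  have := isPrime hM
  have := Fintype.ofFinite G
  obtain ⟨k, hk⟩ := hidx
  have hB := isPBlock_blockOf (M := M) χ'
  have hf := isIntClassFun_blockCoeff hM hB
  have hs : ∀ x, x ∉ N → blockCoeff (blockOf M (χ' : G → ℂ)) x = 0 := fun x hx =>
    blockCoeff_eq_zero_of_dvd_orderOf hM hB (by_contra fun hd =>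
      hx (mem_of_not_dvd_orderOf hk hd))
  have h1 := omega_eq_of_constituent h hf.1 hs
  have h2 := omega_eq_of_constituent h' hf.1 hs
  have hc := omega_sub_memLocalIdeal (sameBlock_of_mem hb hθ hθ') (isIntClassFun_res N hf)
  rw [← h1, ← h2, omega_blockCoeff, omega_blockCoeff,
    Set.indicator_of_mem (mem_blockOf_self χ'), Pi.one_apply] at hc
  by_contra hn
  rw [Set.indicator_of_notMem (by exact hn), zero_sub] at hc
  exact not_memLocalIdeal_one (M := M) (by simpa using memLocalIdeal_neg hc)

/-- The `p`-regular representatives in the cosets of a normal `p`-subgroup: existence. -/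
theorem exists_regular_in_coset [N.Normal] {g : G}
    (hg : ¬ p ∣ orderOf (QuotientGroup.mk g : G ⧸ N)) :
    ∃ x : G, ¬ p ∣ orderOf x ∧ (QuotientGroup.mk x : G ⧸ N) = QuotientGroup.mk g := by
  have hp : p.Prime := Fact.out
  set q := p ^ (orderOf g).factorization p with hq
  set n := orderOf g / p ^ (orderOf g).factorization p with hn
  have hqn : q * n = orderOf g := Nat.ordProj_mul_ordCompl_eq_self _ _
  have hcop : q.Coprime n := Nat.Coprime.pow_left _
    ((Nat.Prime.coprime_iff_not_dvd hp).mpr (Nat.not_dvd_ordCompl hp (orderOf_pos g).ne'))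
  obtain ⟨e, he1, he2⟩ := Nat.chineseRemainder hcop 0 1
  refine ⟨g ^ e, ?_, ?_⟩
  · intro hd
    have h1 : (g ^ e) ^ n = 1 := by
      rw [← pow_mul, ← orderOf_dvd_iff_pow_eq_one, ← hqn]
      exact Nat.mul_dvd_mul_right (Nat.modEq_zero_iff_dvd.mp he1) n
    exact Nat.not_dvd_ordCompl hp (orderOf_pos g).ne'
      (hd.trans (orderOf_dvd_iff_pow_eq_one.mpr h1))
  · rw [QuotientGroup.mk_pow]
    have hdvd : orderOf (QuotientGroup.mk g : G ⧸ N) ∣ n := by
      have h := orderOf_map_dvd (QuotientGroup.mk' N) g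
      rw [← hqn] at h
      exact (Nat.Coprime.pow_right _ ((Nat.Prime.coprime_iff_not_dvd hp).mpr hg).symm).dvd_of_dvd_mul_left h
    conv_rhs => rw [← pow_one (QuotientGroup.mk g : G ⧸ N)]
    rw [pow_eq_pow_iff_modEq]
    exact he2.of_dvd hdvd

omit [Finite G] in
/-- Uniqueness of the `p`-regular element in a coset of a centralised `p`-subgroup. -/
theorem eq_of_regular_of_coset [N.Normal] (hN : IsPGroup p N) {x y : G} (hx : ¬ p ∣ orderOf x)
    (hy : ¬ p ∣ orderOf y) (hc : x ∈ Subgroup.centralizer (N : Set G))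
    (h : (QuotientGroup.mk x : G ⧸ N) = QuotientGroup.mk y) : x = y := by
  have hu : x⁻¹ * y ∈ N := QuotientGroup.eq.mp h
  obtain ⟨k, hk⟩ := (IsPGroup.iff_orderOf.mp hN) ⟨x⁻¹ * y, hu⟩
  rw [Subgroup.orderOf_mk] at hk
  have := eq_one_of_mul_pRegular (g := x) (u := x⁻¹ * y) (Fact.out : p.Prime) hk
    (Subgroup.mem_centralizer_iff.mp hc _ hu).symm hx (by rwa [mul_inv_cancel_left])
  exact inv_mul_eq_one.mp this

theorem regular_mem_centralizer [N.Normal]
    (hC : ∃ k : ℕ, (Subgroup.centralizer (N : Set G)).index = p ^ k) {x : G}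
    (hx : ¬ p ∣ orderOf x) : x ∈ Subgroup.centralizer (N : Set G) := by
  obtain ⟨k, hk⟩ := hC
  exact mem_of_not_dvd_orderOf hk hx

omit [Fact p.Prime] in
/-- An integral class function that is idempotent modulo `M` and not congruent to zero has a
unit central character value. -/
theorem exists_omega_unit_of_idem (hM : IsPModular p M) {e : G → ℂ} (he : IsIntClassFun M e)
    (hidem : ∀ x, MemLocalIdeal M (e x - conv e e x)) (hne : ∃ x, ¬ MemLocalIdeal M (e x)) :
    ∃ ξ : IrrCharacter G, ¬ MemLocalIdeal M (omega (ξ : G → ℂ) e) := by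
  classical
  have := isPrime hM
  have := Fintype.ofFinite G
  by_contra hno
  push Not at hno
  obtain ⟨x, hx⟩ := hne
  refine hx ?_
  have hv : (fun ξ : IrrCharacter G => 1 - omega (ξ : G → ℂ) e) ∈ omegaRing M :=
    sub_mem (one_mem (omegaRing M)) (omega_mem_omegaRing he)
  obtain ⟨y, hy, hxy⟩ := exists_mul_eq_indicator hv Set.univ
    (fun ξ hξ => absurd (Set.mem_univ ξ) hξ) (fun ξ _ hc => not_memLocalIdeal_one (M := M)
      (by simpa using memLocalIdeal_add hc (hno ξ)))
  obtain ⟨c, hc, hcv⟩ := hy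
  have he2 : IsIntClassFun M (e + (-1 : ℂ) • conv e e) :=
    isIntClassFun_add he (isIntClassFun_smul (isIntClassFun_conv he he)
      ((localRing M).neg_mem (localRing M).one_mem))
  have heq : e = conv (e + (-1 : ℂ) • conv e e) c := by
    refine eq_of_omega_eq he.1 (isClassFunction_conv he2.1 hc.1) fun ξ => ?_
    have h1 := congrFun hxy ξ
    simp only [Pi.mul_apply, Set.indicator_univ, Pi.one_apply] at h1
    rw [omega_conv ξ he2.1 hc.1, omega_add, omega_smul, omega_conv ξ he.1 he.1, hcv]
    linear_combination -(omega (ξ : G → ℂ) e) * h1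
  rw [heq, conv_apply]
  refine memLocalIdeal_sum fun z _ => memLocalIdeal_mul_right ?_ (hc.2 _)
  simpa [sub_eq_add_neg] using hidem z

/-- Blocks of local subgroups inducing a block exist exactly under a defect group. -/
theorem exists_inducing_iff (hM : IsPModular p M) {P H : Subgroup G} (hP : IsPGroup p P)
    (hPH : P ≤ H) (hCH : Subgroup.centralizer (P : Set G) ≤ H)
    (hHN : H ≤ Subgroup.normalizer (P : Set G)) {B : Set (IrrCharacter G)} (hB : IsPBlock M B) :
    (∃ b : Set (IrrCharacter H), IsInducedBlock M H b B) ↔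
      ∃ c ∈ Subgroup.centralizer (P : Set G), ¬ MemLocalIdeal M (blockCoeff B c) := by
  classical
  have := isPrime hM
  have := Fintype.ofFinite G
  have := Fintype.ofFinite H
  have hf := isIntClassFun_blockCoeff hM hB
  have hbr : IsIntClassFun M (brRes P H (blockCoeff B)) := isIntClassFun_brRes hHN hf
  obtain ⟨χ, hχ⟩ := isPBlock_nonempty hB
  constructor
  · rintro ⟨b, hind⟩
    obtain ⟨ξ, hξ⟩ := isPBlock_nonempty hind.1
    have h1 := memLocalIdeal_sub (omega_induced hM hind hξ hχ hf)
      (omega_res_sub_brRes hM hP hPH hHN ξ hf)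
    rw [omega_blockCoeff, Set.indicator_of_mem hχ, Pi.one_apply] at h1
    have hu : ¬ MemLocalIdeal M (omega (ξ : H → ℂ) (brRes P H (blockCoeff B))) := fun hc =>
      not_memLocalIdeal_one (M := M) (by
        have := memLocalIdeal_sub hc h1
        ring_nf at this
        exact this)
    obtain ⟨h, hh, -⟩ := exists_unit_class hM ξ hbr hu
    by_cases hc : (h : G) ∈ Subgroup.centralizer (P : Set G)
    · rw [brRes_of_mem _ hc] at hh
      exact ⟨h, hc, hh⟩
    · exact absurd memLocalIdeal_zero (by rwa [brRes_of_notMem _ hc] at hh)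
  · rintro ⟨c, hc, hu⟩
    have hidem : ∀ x, MemLocalIdeal M (brRes P H (blockCoeff B) x -
        conv (brRes P H (blockCoeff B)) (brRes P H (blockCoeff B)) x) := fun x => by
      have := conv_brRes_sub hM hP hCH hHN hf hf x
      rwa [conv_blockCoeff_self] at this
    obtain ⟨ξ, hξ⟩ := exists_omega_unit_of_idem hM hbr hidem
      ⟨⟨c, hCH hc⟩, by rwa [brRes_of_mem _ hc]⟩
    obtain ⟨B', hind⟩ := inducedBlockDefined hM hP hPH hCH hHN (isPBlock_blockOf ξ)
    refine ⟨blockOf M (ξ : H → ℂ), ?_⟩
    obtain ⟨χ', hχ'⟩ := isPBlock_nonempty hind.2.1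
    suffices B' = B by rwa [this] at hind
    have h1 := memLocalIdeal_sub (omega_induced hM hind (mem_blockOf_self ξ) hχ' hf)
      (omega_res_sub_brRes hM hP hPH hHN ξ hf)
    rw [omega_blockCoeff] at h1
    by_contra hne
    rw [Set.indicator_of_notMem (fun h => hne (isPBlock_eq_of_mem hind.2.1 hB hχ' h))] at h1
    ring_nf at h1
    exact hξ h1

end Cfsg.Agent.BlocksDefect
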