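import Cfsg.Agent.Lib.BlocksDefect.Covering
import Cfsg.Agent.Lib.BlocksDefect.Pairing

/-!
# Fong's theorem on a covering block of maximal defect
-/

set_option linter.unusedSectionVars false

namespace Cfsg.Agent.BlocksDefect

open BlocksCore

variable {G : Type*} [Group G] [Fintype G] {p : ℕ} [Fact p.Prime] {M : Ideal AlgInt}
  {N : Subgroup G} [hN : N.Normal] [Fintype N]

theorem natCard_sylow_inf {g : N} {P : Subgroup G} (hS : IsSylowCent p (g : G) P) :
    IsSylowCent p g ((P ⊓ N).subgroupOf N) := by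
  set C := Subgroup.centralizer ({(g : G)} : Set G) with hC
  set C' := Subgroup.centralizer ({g} : Set N) with hC'
  have hmem : ∀ x : N, x ∈ C' ↔ (x : G) ∈ C := fun x => by
    simp only [hC, hC', mem_centralizer_singleton]
    exact ⟨fun h => congrArg Subtype.val h, fun h => Subtype.ext h⟩
  have hle : (P ⊓ N).subgroupOf N ≤ C' := fun x hx =>
    (hmem x).mpr (hS.le_centralizer (Subgroup.mem_subgroupOf.mp hx).1)
  have hp : IsPGroup p ((P ⊓ N).subgroupOf N) :=
    (hS.isPGroup.to_le inf_le_left).of_equiv (Subgroup.subgroupOfEquivOfLe inf_le_right).symm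
  obtain ⟨Q, hQ⟩ := (hp.of_equiv (Subgroup.subgroupOfEquivOfLe hle).symm).exists_le_sylow
  refine ⟨Q, le_antisymm ?_ ?_⟩
  · set Q' : Subgroup G := ((Q : Subgroup C').map C'.subtype).map N.subtype with hQ'
    have hQp : IsPGroup p Q' := (Q.isPGroup'.map _).map _
    have hQC : Q' ≤ C := by
      rintro _ ⟨x, ⟨y, -, rfl⟩, rfl⟩
      exact (hmem _).mp y.2
    have hPQ : P ⊓ N ≤ Q' := fun x hx =>
      ⟨⟨x, hx.2⟩, ⟨⟨⟨x, hx.2⟩, hle (Subgroup.mem_subgroupOf.mpr hx)⟩, hQ (by exact hx), rfl⟩, rfl⟩
    obtain ⟨c, -, hcle⟩ := hS.exists_map_conj_le hQp hQC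
    have hle2 : Q'.map (MulAut.conj c).toMonoidHom ≤ P ⊓ N := by
      refine le_inf hcle ?_
      rintro _ ⟨x, ⟨y, -, rfl⟩, rfl⟩
      exact hN.conj_mem _ y.2 c
    have he : P ⊓ N = Q' := Subgroup.eq_of_le_of_card_ge hPQ
      (by rw [← natCard_map_conj Q' c]; exact Subgroup.card_le_of_le hle2)
    rintro x hx
    rw [Subgroup.mem_subgroupOf, he]
    exact ⟨x, hx, rfl⟩
  · intro x hx
    exact ⟨⟨x, hle hx⟩, hQ (by exact hx), rfl⟩

/-- Fong's theorem: a covering block of maximal defect. -/
theorem fong (hM : IsPModular p M) {b : Set (IrrCharacter N)} (hb : IsPBlock M b)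
    (hinv : ∀ g : G, ∀ θ ∈ b, conjIrr g θ ∈ b) {B : Set (IrrCharacter G)} (hB : IsPBlock M B)
    (hcov : ∃ χ ∈ B, ∃ θ ∈ b, IsConstituent χ θ)
    (hmax : ∀ B' : Set (IrrCharacter G), IsPBlock M B' →
      (∃ χ ∈ B', ∃ θ ∈ b, IsConstituent χ θ) → blockDefect p B' ≤ blockDefect p B)
    {P : Subgroup G} (hP : IsDefectGroup p M B P) :
    ¬ p ∣ (P ⊔ N).index ∧ IsDefectGroup p M b ((P ⊓ N).subgroupOf N) ∧
      blockDefect p B = blockDefect p b + N.index.factorization p := by
  classical
  have := isPrime hM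
  obtain ⟨χ, hχ, θ, hθ, hχθ⟩ := hcov
  have horb : orbitSet (G := G) b = b := by
    ext η
    refine ⟨fun ⟨g, hg⟩ => ?_, fun h => ⟨1, hinv 1 η h⟩⟩
    have := hinv g⁻¹ _ hg
    rwa [conjIrr_inv_self] at this
  set e : G → ℂ := extFun (blockCoeff b) with he
  have heI : IsIntClassFun M e := by
    have := isIntClassFun_extFun_orbitSet (G := G) hM hb
    rwa [horb] at this
  have hcons : ∀ χ' : IrrCharacter G, ∀ θ' : IrrCharacter N, IsConstituent χ' θ' →
      omega (χ' : G → ℂ) e = b.indicator 1 θ' := fun χ' θ' h => by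
    have := omega_extFun_orbitSet h b
    rwa [horb] at this
  set A : Set (IrrCharacter G) := {χ' | omega (χ' : G → ℂ) e = 1} with hA
  have hω01 : ∀ χ' : IrrCharacter G, omega (χ' : G → ℂ) e = A.indicator 1 χ' := by
    intro χ'
    obtain ⟨θ', hθ'⟩ := exists_constituent_irr (N := N) χ'
    by_cases h : θ' ∈ b
    · have h1 : omega (χ' : G → ℂ) e = 1 := by
        rw [hcons χ' θ' hθ', Set.indicator_of_mem h, Pi.one_apply]
      rw [Set.indicator_of_mem (show χ' ∈ A from h1), Pi.one_apply, h1]
    · have h0 : omega (χ' : G → ℂ) e = 0 := by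
        rw [hcons χ' θ' hθ', Set.indicator_of_notMem h]
      rw [Set.indicator_of_notMem (show χ' ∉ A by simp [hA, h0]), h0]
  have hsat : ∀ χ₁ χ₂ : IrrCharacter G, χ₁ ∈ A → SameBlock M (χ₁ : G → ℂ) (χ₂ : G → ℂ) →
      χ₂ ∈ A := by
    intro χ₁ χ₂ h1 h12
    by_contra h2
    have hd := omega_sub_memLocalIdeal h12 heI
    rw [hω01, hω01, Set.indicator_of_mem h1, Set.indicator_of_notMem h2, Pi.one_apply,
      sub_zero] at hd
    exact not_memLocalIdeal_one hd
  have hχA : χ ∈ A := by
    show omega (χ : G → ℂ) e = 1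
    rw [hcons χ θ hχθ, Set.indicator_of_mem hθ, Pi.one_apply]
  -- a class in `N` where the idempotent and the central character are units
  obtain ⟨g₀, hg1, hg2⟩ := exists_unit_class hM χ heI
    (by rw [show omega (χ : G → ℂ) e = 1 from hχA]; exact not_memLocalIdeal_one)
  have hg₀N : g₀ ∈ N := by
    by_contra hn
    exact hg1 (by rw [he, extFun_notMem _ hn]; exact memLocalIdeal_zero)
  -- the idempotent is the sum of those of the covering blocks
  have := finite_irr (G := G)
  have := Fintype.ofFinite (IrrCharacter G)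
  set S : Finset (Set (IrrCharacter G)) :=
    (Finset.univ.filter (· ∈ A)).image (fun χ' => blockOf M ((χ' : IrrCharacter G) : G → ℂ))
  have hsum : e = ∑ B' ∈ S, blockCoeff B' := by
    refine eq_of_omega_eq heI.1 (fun x h => ?_) fun χ' => ?_
    · simp only [Finset.sum_apply]
      exact Finset.sum_congr rfl fun B' _ => isClassFunction_blockCoeff B' x h
    · rw [omega_sum, hω01]
      by_cases h : χ' ∈ A
      · rw [Set.indicator_of_mem h, Finset.sum_eq_single (blockOf M (χ' : G → ℂ))]
        · rw [omega_blockCoeff, Set.indicator_of_mem (mem_blockOf_self χ')]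
        · intro B' hB' hne
          obtain ⟨χ₁, -, rfl⟩ := Finset.mem_image.mp hB'
          rw [omega_blockCoeff, Set.indicator_of_notMem]
          exact fun hmem => hne (blockOf_eq_of_sameBlock hmem)
        · exact fun hn => absurd
            (Finset.mem_image.mpr ⟨χ', by simpa using h, rfl⟩) hn
      · rw [Set.indicator_of_notMem h, Finset.sum_eq_zero]
        intro B' hB'
        obtain ⟨χ₁, hχ₁, rfl⟩ := Finset.mem_image.mp hB'
        rw [omega_blockCoeff, Set.indicator_of_notMem]
        exact fun hmem => h (hsat χ₁ χ' (Finset.mem_filter.mp hχ₁).2 hmem)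
  obtain ⟨B', hB'S, hB'u⟩ : ∃ B' ∈ S, ¬ MemLocalIdeal M (blockCoeff B' g₀) := by
    by_contra hno
    push Not at hno
    refine hg1 ?_
    rw [hsum, Finset.sum_apply]
    exact memLocalIdeal_sum hno
  obtain ⟨χ₁, hχ₁, rfl⟩ := Finset.mem_image.mp hB'S
  have hχ₁A : χ₁ ∈ A := (Finset.mem_filter.mp hχ₁).2
  obtain ⟨θ₁, hθ₁⟩ := exists_constituent_irr (N := N) χ₁
  have hθ₁b : θ₁ ∈ b := by
    by_contra h
    have h1 : omega (χ₁ : G → ℂ) e = 1 := hχ₁A
    rw [hcons χ₁ θ₁ hθ₁, Set.indicator_of_notMem h] at h1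
    exact zero_ne_one h1
  have hcentral : ∀ (χ' : IrrCharacter G) (θ' : IrrCharacter N) (n : N), IsConstituent χ' θ' →
      θ' ∈ b → MemLocalIdeal M (centralChar (χ' : G → ℂ) (n : G) -
        omega (θ : N → ℂ) (res N (classInd (n : G)))) := by
    intro χ' θ' n h h'
    rw [omega_res_classInd_of_mem h, ← omega_res_classInd]
    exact omega_sub_memLocalIdeal (sameBlock_of_mem hb h' hθ)
      ⟨isClassFunction_res N (isClassFunction_classInd _), fun x => (isIntClassFun_classInd _).2 _⟩
  have hB' : IsPBlock M (blockOf M (χ₁ : G → ℂ)) := isPBlock_blockOf χ₁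
  have hu₁ : ¬ MemLocalIdeal M (centralChar (χ₁ : G → ℂ) g₀) := fun h => hg2 (by
    have h1 := hcentral χ₁ θ₁ ⟨g₀, hg₀N⟩ hθ₁ hθ₁b
    have h2 := hcentral χ θ ⟨g₀, hg₀N⟩ hχθ hθ
    simpa using memLocalIdeal_add (memLocalIdeal_sub h2 h1) h)
  have hcls : IsDefectClass M (blockOf M (χ₁ : G → ℂ)) g₀ :=
    ⟨(isIntClassFun_blockCoeff hM hB').2 g₀, hB'u,
      fun ψ hψ => centralChar_unit_of_mem hM hB' (mem_blockOf_self χ₁) hψ hu₁⟩
  obtain ⟨Q, hQ⟩ := exists_isSylowCent p g₀
  have hdB' := defectGroup_natCard hM hB' (isDefectGroup_iff.mpr ⟨g₀, hcls, hQ⟩)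
  have hdB := defectGroup_natCard hM hB hP
  have hle := hmax _ hB' ⟨χ₁, mem_blockOf_self χ₁, θ₁, hθ₁b, hθ₁⟩
  have hsub := defectGroup_subConj_of_centralChar hM hB hP hχ hQ hg2
  have hcard : Nat.card Q ≤ Nat.card P := by
    rw [hdB', hdB]
    exact Nat.pow_le_pow_right (Fact.out : p.Prime).pos hle
  obtain ⟨x, hx⟩ := hsub.exists_eq_of_card_le hcard
  -- move the class so that `P` is a Sylow subgroup of its centralizer
  set g : N := ⟨x⁻¹ * g₀ * x⁻¹⁻¹, hN.conj_mem _ hg₀N _⟩ with hgdef
  have hS : IsSylowCent p (g : G) P := by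
    have := hQ.map_conj x⁻¹
    rwa [← hx, map_conj_map_conj, inv_mul_cancel, map_conj_one] at this
  have hconj : IsConj g₀ (g : G) := isConj_iff.mpr ⟨x⁻¹, rfl⟩
  have hcoef : ¬ MemLocalIdeal M (blockCoeff b g) := by
    rw [← extFun_coe (blockCoeff b) g, ← he, classFun_eq_of_isConj heI.1 hconj]
    exact hg1
  -- the central character of `χ` at `g` is a multiple of that of `θ`
  have hχg : ¬ MemLocalIdeal M (omega (θ : N → ℂ) (res N (classInd (g : G)))) := by
    intro h
    have hsame : classInd (g : G) = classInd g₀ := by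
      funext y
      by_cases hy : IsConj g₀ y
      · rw [classInd_apply_of_isConj hy, classInd_apply_of_isConj (hconj.symm.trans hy)]
      · rw [classInd_apply_of_not_isConj hy,
          classInd_apply_of_not_isConj fun hc => hy (hconj.trans hc)]
    rw [hsame] at h
    have h2 := hcentral χ θ ⟨g₀, hg₀N⟩ hχθ hθ
    exact hg2 (by simpa using memLocalIdeal_add h2 h)
  letI : MulAction G (ConjClasses N) :=
    { smul := fun u C => ConjClasses.map (MulAut.conjNormal u : N ≃* N).toMonoidHom C
      one_smul := fun C => by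
        obtain ⟨n, rfl⟩ := ConjClasses.mk_surjective C
        exact congrArg ConjClasses.mk (Subtype.ext
          (show (1 : G) * (n : G) * (1 : G)⁻¹ = n by simp))
      mul_smul := fun u v C => by
        obtain ⟨n, rfl⟩ := ConjClasses.mk_surjective C
        exact congrArg ConjClasses.mk (Subtype.ext
          (show u * v * (n : G) * (u * v)⁻¹ = u * (v * (n : G) * v⁻¹) * u⁻¹ by simp [mul_assoc])) }
  set C₀ : ConjClasses N := ConjClasses.mk g with hC₀
  have : Finite (ConjClasses N) := Finite.of_surjective _ ConjClasses.mk_surjective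
  have := Fintype.ofFinite (ConjClasses N)
  have hresI : IsIntClassFun M (res N (classInd (g : G))) :=
    ⟨isClassFunction_res N (isClassFunction_classInd _), fun y => (isIntClassFun_classInd _).2 _⟩
  have hinvω : ∀ (u : G) (n : N), MemLocalIdeal M (centralChar (θ : N → ℂ)
      ((MulAut.conjNormal u : N ≃* N) n) - centralChar (θ : N → ℂ) n) := by
    intro u n
    have h := sameBlock_of_mem hb (hinv u θ hθ) hθ n
    have e1 : centralChar (conjIrr u θ : N → ℂ) n =
        centralChar (θ : N → ℂ) ((MulAut.conjNormal u : N ≃* N) n) := by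
      rw [← omega_classInd (irr_class _), ← omega_classInd (irr_class θ)]
      have hcj : classInd n = conjFun u (classInd ((MulAut.conjNormal u : N ≃* N) n)) := by
        funext y
        show classInd n y = classInd ((MulAut.conjNormal u : N ≃* N) n)
          ((MulAut.conjNormal u : N ≃* N) y)
        by_cases hy : IsConj n y
        · rw [classInd_apply_of_isConj hy, classInd_apply_of_isConj
            (show IsConj ((MulAut.conjNormal u : N ≃* N) n) ((MulAut.conjNormal u : N ≃* N) y)
              from (MulAut.conjNormal u : N ≃* N).toMonoidHom.map_isConj hy)]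
        · rw [classInd_apply_of_not_isConj hy, classInd_apply_of_not_isConj]
          intro h
          have h' := (MulAut.conjNormal u : N ≃* N).symm.toMonoidHom.map_isConj h
          exact hy (by simpa using h')
      rw [hcj, omega_conjFun, conjIrr_inv_self]
    rwa [e1] at h
  have horbit : ∀ C : ConjClasses N, res N (classInd (g : G)) (Quotient.out C) =
      (MulAction.orbit G C₀).indicator 1 C := by
    intro C
    by_cases hC : IsConj (g : G) ((Quotient.out C : N) : G)
    · rw [res, classInd_apply_of_isConj hC, Set.indicator_of_mem, Pi.one_apply]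
      obtain ⟨u, hu⟩ := isConj_iff.mp hC
      exact ⟨u, (congrArg ConjClasses.mk (Subtype.ext hu :
        (MulAut.conjNormal u : N ≃* N) g = Quotient.out C)).trans (Quotient.out_eq C)⟩
    · rw [res, classInd_apply_of_not_isConj hC, Set.indicator_of_notMem]
      rintro ⟨u, hu⟩
      have h1 : IsConj ((MulAut.conjNormal u : N ≃* N) g) (Quotient.out C) :=
        ConjClasses.mk_eq_mk_iff_isConj.mp (Eq.trans hu (Quotient.out_eq C).symm)
      exact hC ((isConj_iff.mpr ⟨u, rfl⟩ : IsConj (g : G)
        ((MulAut.conjNormal u : N ≃* N) g : N)).trans (N.subtype.map_isConj h1))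
  have hval : ∀ C ∈ MulAction.orbit G C₀, MemLocalIdeal M
      (centralChar (θ : N → ℂ) (Quotient.out C) - centralChar (θ : N → ℂ) g) := by
    rintro C ⟨u, rfl⟩
    have h1 : IsConj ((MulAut.conjNormal u : N ≃* N) g) (Quotient.out (u • C₀)) :=
      ConjClasses.mk_eq_mk_iff_isConj.mp (Quotient.out_eq (u • C₀)).symm
    have e2 : centralChar (θ : N → ℂ) (Quotient.out (u • C₀)) =
        centralChar (θ : N → ℂ) ((MulAut.conjNormal u : N ≃* N) g) := by
      rw [← omega_classInd (irr_class θ), ← omega_classInd (irr_class θ)]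
      congr 1
      funext y
      by_cases hy : IsConj ((MulAut.conjNormal u : N ≃* N) g) y
      · rw [classInd_apply_of_isConj hy, classInd_apply_of_isConj (h1.symm.trans hy)]
      · rw [classInd_apply_of_not_isConj hy,
          classInd_apply_of_not_isConj fun hc => hy (h1.trans hc)]
    rw [e2]
    exact hinvω u g
  set k := Nat.card (MulAction.orbit G C₀) with hk
  have hmain : MemLocalIdeal M (omega (θ : N → ℂ) (res N (classInd (g : G))) -
      (k : ℂ) * centralChar (θ : N → ℂ) g) := by
    rw [omega_eq_sum_classes θ hresI.1, hk, Nat.card_eq_fintype_card, ← Set.toFinset_card,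
      ← nsmul_eq_mul, ← Finset.sum_const,
      ← Finset.sum_subset (Finset.subset_univ (MulAction.orbit G C₀).toFinset)
        (fun C _ hC => by rw [horbit, Set.indicator_of_notMem (by simpa using hC), zero_mul]),
      ← Finset.sum_sub_distrib]
    refine memLocalIdeal_sum fun C hC => ?_
    rw [horbit, Set.indicator_of_mem (Set.mem_toFinset.mp hC), Pi.one_apply, one_mul]
    exact hval C (Set.mem_toFinset.mp hC)
  have hku : ¬ p ∣ k := fun hd => hχg (by
    simpa using memLocalIdeal_add hmain (memLocalIdeal_mul_right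
      ((memLocalIdeal_natCast_iff hM k).mpr hd) (centralChar_memLocalRing θ g)))
  have hωg : ¬ MemLocalIdeal M (centralChar (θ : N → ℂ) g) := fun h => hχg (by
    simpa using memLocalIdeal_add hmain
      (memLocalIdeal_mul_left (natCast_mem (localRing M) k) h))
  have hbD : IsDefectGroup p M b ((P ⊓ N).subgroupOf N) := isDefectGroup_iff.mpr
    ⟨g, ⟨(isIntClassFun_blockCoeff hM hb).2 g, hcoef,
      fun η hη => centralChar_unit_of_mem hM hb hθ hη hωg⟩, natCard_sylow_inf hS⟩
  -- the index of `P ⊔ N`
  set C := Subgroup.centralizer ({(g : G)} : Set G) with hC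
  have hstab : MulAction.stabilizer G C₀ = C ⊔ N := by
    refine le_antisymm (fun u hu => ?_) (sup_le (fun u hu => ?_) (fun u hu => ?_))
    · obtain ⟨m, hm⟩ := isConj_iff.mp (ConjClasses.mk_eq_mk_iff_isConj.mp hu)
      have hm' : (m : G) * (u * (g : G) * u⁻¹) * (m : G)⁻¹ = (g : G) := congrArg Subtype.val hm
      have hmu : (m : G) * u ∈ C := by
        rw [hC, mem_centralizer_singleton]
        calc (m : G) * u * g = ((m : G) * (u * (g : G) * u⁻¹) * (m : G)⁻¹) * ((m : G) * u) := by
              group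
          _ = (g : G) * ((m : G) * u) := by rw [hm']
      have := Subgroup.mul_mem (C ⊔ N) (Subgroup.mem_sup_right (N.inv_mem m.2))
        (Subgroup.mem_sup_left (T := N) hmu)
      rwa [inv_mul_cancel_left] at this
    · refine congrArg ConjClasses.mk (Subtype.ext ?_)
      show u * (g : G) * u⁻¹ = g
      rw [mem_centralizer_singleton.mp hu, mul_inv_cancel_right]
    · refine (ConjClasses.mk_eq_mk_iff_isConj.mpr (isConj_iff.mpr ⟨⟨u, hu⟩⁻¹, ?_⟩))
      exact Subtype.ext (show u⁻¹ * (u * (g : G) * u⁻¹) * u⁻¹⁻¹ = g by group)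
  have hkidx : k = (C ⊔ N).index := by
    rw [hk, ← hstab, MulAction.index_stabilizer, Set.ncard_eq_toFinset_card',
      Nat.card_eq_fintype_card, Set.toFinset_card]
  have hprod : ∀ H : Subgroup G, (Nat.card (H ⊔ N : Subgroup G)).factorization p +
      (Nat.card (H ⊓ N : Subgroup G)).factorization p =
      (Nat.card H).factorization p + (Nat.card N).factorization p := fun H => by
    have e1 : Nat.card (H ⊔ N : Subgroup G) * Nat.card (H ⊓ N : Subgroup G) =
        Nat.card H * Nat.card N := by
      rw [← Subgroup.index_mul_card (N.subgroupOf H), ← Subgroup.inf_subgroupOf_left,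
        Nat.card_congr (Subgroup.subgroupOfEquivOfLe (inf_le_left : H ⊓ N ≤ H)).toEquiv,
        Subgroup.inf_subgroupOf_left, ← Subgroup.relIndex, ← Subgroup.relIndex_sup_right H N,
        ← Subgroup.index_mul_card (N.subgroupOf (H ⊔ N)),
        Nat.card_congr (Subgroup.subgroupOfEquivOfLe (le_sup_right : N ≤ H ⊔ N)).toEquiv,
        ← Subgroup.relIndex]
      ring
    have e2 := congrArg (fun n : ℕ => n.factorization p) e1
    simp only [Nat.factorization_mul Nat.card_pos.ne' Nat.card_pos.ne', Finsupp.add_apply] at e2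
    exact e2
  have hCN : (Nat.card (C ⊓ N : Subgroup G)).factorization p =
      (Nat.card (P ⊓ N : Subgroup G)).factorization p := by
    have e1 : Nat.card (Subgroup.centralizer ({g} : Set N)) = Nat.card (C ⊓ N : Subgroup G) :=
      Nat.card_congr
        { toFun := fun x => ⟨((x : N) : G), mem_centralizer_singleton.mpr
            (congrArg Subtype.val (mem_centralizer_singleton.mp x.2)), (x : N).2⟩
          invFun := fun x => ⟨⟨x, x.2.2⟩, mem_centralizer_singleton.mpr
            (Subtype.ext (mem_centralizer_singleton.mp x.2.1))⟩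
          left_inv := fun x => rfl
          right_inv := fun x => rfl }
    have e2 := (natCard_sylow_inf hS).natCard
    rw [Nat.card_congr (Subgroup.subgroupOfEquivOfLe inf_le_right).toEquiv, e1] at e2
    rw [e2, Nat.Prime.factorization_pow (Fact.out : p.Prime), Finsupp.single_eq_same]
  have hPC : (Nat.card P).factorization p = (Nat.card C).factorization p := by
    rw [hS.natCard, Nat.Prime.factorization_pow (Fact.out : p.Prime), Finsupp.single_eq_same]
  have hsplit : ∀ H : Subgroup G, (Nat.card H).factorization p + H.index.factorization p =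
      (Nat.card G).factorization p := fun H => by
    rw [← Subgroup.card_mul_index H, Nat.factorization_mul Nat.card_pos.ne'
      Subgroup.FiniteIndex.index_ne_zero, Finsupp.add_apply]
  have hv0 : (C ⊔ N).index.factorization p = 0 :=
    Nat.factorization_eq_zero_of_not_dvd (hkidx ▸ hku)
  have q1 := hprod P
  have q2 := hprod C
  have q3 := hsplit (P ⊔ N)
  have q4 := hsplit (C ⊔ N)
  have q5 := hsplit N
  refine ⟨fun hd => ?_, hbD, ?_⟩
  · have := Nat.Prime.factorization_pos_of_dvd (Fact.out : p.Prime)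
      Subgroup.FiniteIndex.index_ne_zero hd
    omega
  have h1 := defectGroup_natCard hM hb hbD
  rw [Nat.card_congr (Subgroup.subgroupOfEquivOfLe inf_le_right).toEquiv] at h1
  rw [h1, Nat.Prime.factorization_pow (Fact.out : p.Prime), Finsupp.single_eq_same] at q1 hCN
  rw [hdB, Nat.Prime.factorization_pow (Fact.out : p.Prime), Finsupp.single_eq_same] at q1 hPC
  omega

end Cfsg.Agent.BlocksDefect
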