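import Cfsg.Agent.Lib.BlocksDefect.CoveredDefect
import Cfsg.Agent.Lib.CharInd.Char

/-!
# The Fong–Reynolds correspondence

If `T` is the stabilizer of a block `b` of a normal subgroup `N`, induction of characters is a
bijection between the blocks of `T` over `b` and those of `G` over `b`.  The proof only uses that
the idempotent of `b` is orthogonal to its conjugates by elements outside `T`.
-/

set_option linter.unusedSectionVars false

namespace Cfsg.Agent.BlocksDefect

open BlocksCore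
open scoped ComplexConjugate

variable {G : Type*} [Group G] [Fintype G] {p : ℕ} {M : Ideal AlgInt}
  {N : Subgroup G} [hN : N.Normal] [Fintype N]

theorem eq_of_res_eq {a a' : G → ℂ} (ha : ∀ x, x ∉ N → a x = 0) (ha' : ∀ x, x ∉ N → a' x = 0)
    (h : res N a = res N a') : a = a' := by
  funext x
  by_cases hx : x ∈ N
  · exact congrFun h ⟨x, hx⟩
  · rw [ha x hx, ha' x hx]

theorem isClassFunction_conjFun (g : G) {f : N → ℂ} (hf : IsClassFunction N f) :
    IsClassFunction N (conjFun g f) := fun x y => by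
  simp only [conjFun]
  rw [← hf ⟨g * x * g⁻¹, hN.conj_mem x x.2 g⟩ ⟨g * y * g⁻¹, hN.conj_mem y y.2 g⟩]
  congr 1
  exact Subtype.ext (by simp [mul_assoc])

/-- Stability of `T` for `b`: exactly the elements of `T` map `b` into itself. -/
def IsBlockStab (T : Subgroup G) (b : Set (IrrCharacter N)) : Prop :=
  ∀ g : G, g ∈ T ↔ ∀ θ ∈ b, conjIrr g θ ∈ b

variable {T : Subgroup G} [Fintype T] {b : Set (IrrCharacter N)}

omit [Fintype T] in
theorem isBlockStab_of_pointwise 
    (hT : ∀ g : G, g ∈ T ↔ ∀ θ ∈ b, ∀ θ' : IrrCharacter N,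
      (∀ n : N, (θ' : N → ℂ) n = (θ : N → ℂ) ⟨g * n * g⁻¹, hN.conj_mem n n.2 g⟩) → θ' ∈ b) :
    IsBlockStab T b := fun g => (hT g).trans
  ⟨fun h θ hθ => h θ hθ _ fun _ => rfl,
    fun h θ hθ θ' he => by
      have : θ' = conjIrr g θ := Subtype.ext (funext he)
      exact this ▸ h θ hθ⟩

/-- A character of `T` lies over `b`. -/
def LiesOver (hNT : N ≤ T) (b : Set (IrrCharacter N)) (ψ : IrrCharacter T) : Prop :=
  ∃ θ ∈ b, classInner (fun n : N => (ψ : T → ℂ) ⟨(n : G), hNT n.2⟩) (θ : N → ℂ) ≠ 0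

theorem extFun_blockCoeff_conj (hT : IsBlockStab T b) {u : G} (hu : u ∈ T) (x : G) :
    extFun (blockCoeff b) (u * x * u⁻¹) = extFun (blockCoeff b) x := by
  have hmem : ∀ η : IrrCharacter N, conjIrr u⁻¹ η ∈ b ↔ η ∈ b := fun η => by
    refine ⟨fun h => ?_, fun h => (hT u⁻¹).mp (T.inv_mem hu) η h⟩
    have := (hT u).mp hu _ h
    rwa [conjIrr_conjIrr, inv_mul_cancel,
      show conjIrr (1 : G) η = η from Subtype.ext (conjFun_one _)] at this
  have hb : conjFun u (blockCoeff b) = blockCoeff b := by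
    refine eq_of_omega_eq (isClassFunction_conjFun u (isClassFunction_blockCoeff b))
      (isClassFunction_blockCoeff b) fun η => ?_
    rw [omega_conjFun, omega_blockCoeff, omega_blockCoeff]
    exact Set.indicator_eq_indicator (hmem η) rfl
  by_cases hx : x ∈ N
  · exact (extFun_coe _ ⟨u * x * u⁻¹, hN.conj_mem x hx u⟩).trans
      ((congrFun hb ⟨x, hx⟩).trans (extFun_coe _ ⟨x, hx⟩).symm)
  · rw [extFun_notMem _ hx, extFun_notMem]
    exact fun h => hx (by simpa [mul_assoc] using hN.conj_mem _ h u⁻¹)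

theorem conv_extFun_blockCoeff_self (b : Set (IrrCharacter N)) :
    conv (extFun (blockCoeff b)) (extFun (blockCoeff b)) = (extFun (blockCoeff b) : G → ℂ) := by
  refine eq_of_res_eq (N := N)
    (conv_supported (fun x hx => extFun_notMem _ hx) (fun x hx => extFun_notMem _ hx))
    (fun x hx => extFun_notMem _ hx) ?_
  rw [res_conv (fun x hx => extFun_notMem _ hx), res_extFun, conv_blockCoeff_self]

/-- Orthogonality to the conjugates by elements outside the stabilizer. -/
theorem conv_conj_extFun_eq_zero [M.IsPrime] (hb : IsPBlock M b) (hT : IsBlockStab T b) {u : G}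
    (hu : u ∉ T) :
    conv (fun x => extFun (blockCoeff b) (u * x * u⁻¹)) (extFun (blockCoeff b)) = (0 : G → ℂ) := by
  have hs : ∀ x, x ∉ N → extFun (blockCoeff b) (u * x * u⁻¹) = 0 := fun x hx =>
    extFun_notMem _ fun h => hx (by simpa [mul_assoc] using hN.conj_mem _ h u⁻¹)
  refine eq_of_res_eq (N := N) (conv_supported hs (fun x hx => extFun_notMem _ hx))
    (fun _ _ => rfl) ?_
  rw [res_conv hs, res_extFun]
  have hres : res N (fun x => extFun (blockCoeff b) (u * x * u⁻¹)) = conjFun u (blockCoeff b) :=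
    funext fun n => extFun_coe _ ⟨u * (n : G) * u⁻¹, hN.conj_mem n n.2 u⟩
  rw [hres]
  refine eq_of_omega_eq (isClassFunction_conv
    (isClassFunction_conjFun u (isClassFunction_blockCoeff b)) (isClassFunction_blockCoeff b))
    (fun _ _ => rfl) fun η => ?_
  rw [omega_conv η (isClassFunction_conjFun u (isClassFunction_blockCoeff b))
    (isClassFunction_blockCoeff b), omega_conjFun, omega_blockCoeff, omega_blockCoeff,
    show res N (0 : G → ℂ) = 0 from rfl, omega_zero]
  by_cases h1 : η ∈ b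
  · by_cases h2 : conjIrr u⁻¹ η ∈ b
    · refine absurd ?_ hu
      rw [← inv_inv u]
      refine T.inv_mem ((hT u⁻¹).mpr fun θ hθ => ?_)
      rw [isPBlock_eq_blockOf hb h2]
      exact sameBlock_conjIrr u⁻¹ (sameBlock_of_mem hb h1 hθ)
    · rw [Set.indicator_of_notMem h2, zero_mul]
  · rw [Set.indicator_of_notMem h1, mul_zero]

variable (hNT : N ≤ T)

include hNT

theorem isIntClassFun_res_extFun (hM : IsPModular p M) (hb : IsPBlock M b) (hT : IsBlockStab T b) :
    IsIntClassFun M (res T (extFun (blockCoeff b))) := by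
  have := isPrime hM
  refine ⟨fun x y => extFun_blockCoeff_conj hT y.2 (x : G), fun x => ?_⟩
  by_cases hx : (x : G) ∈ N
  · rw [res, show (x : G) = ((⟨(x : G), hx⟩ : N) : G) from rfl, extFun_coe]
    exact (isIntClassFun_blockCoeff hM hb).2 _
  · rw [res, extFun_notMem _ hx]
    exact (localRing M).zero_mem

theorem isClassFunction_res_extFun (hT : IsBlockStab T b) :
    IsClassFunction T (res T (extFun (blockCoeff b))) :=
  fun x y => extFun_blockCoeff_conj hT y.2 (x : G)

theorem omega_res_extFun_mul (ψ : IrrCharacter T) :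
    omega (ψ : T → ℂ) (res T (extFun (blockCoeff b))) * (ψ : T → ℂ) 1 =
      ∑ θ : IrrCharacter N, classInner (fun n : N => (ψ : T → ℂ) ⟨(n : G), hNT n.2⟩) (θ : N → ℂ) *
        (θ : N → ℂ) 1 * b.indicator 1 θ := by
  classical
  have hchar : IsCharacter N (fun n : N => (ψ : T → ℂ) ⟨(n : G), hNT n.2⟩) :=
    CharCore.isCharacter_comp (CharCore.irr_isCharacter ψ) (Subgroup.inclusion hNT)
  rw [omega_eq_sum, div_mul_cancel₀ _ (irr_one_ne_zero ψ)]
  have e1 : ∑ t : T, res T (extFun (blockCoeff b)) t * (ψ : T → ℂ) t =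
      ∑ n : N, blockCoeff b n * (ψ : T → ℂ) ⟨(n : G), hNT n.2⟩ := by
    symm
    refine Fintype.sum_of_injective (fun n : N => (⟨(n : G), hNT n.2⟩ : T))
      (fun a a' h => Subtype.ext (congrArg Subtype.val h :)) _ _ (fun t ht => ?_) fun n => ?_
    · rw [res, extFun_notMem _ fun h => ht ⟨⟨(t : G), h⟩, rfl⟩, zero_mul]
    · rw [res, extFun_coe]
  rw [e1]
  have h : ∀ n : N, (ψ : T → ℂ) ⟨(n : G), hNT n.2⟩ =
      ∑ θ : IrrCharacter N, classInner (fun n : N => (ψ : T → ℂ) ⟨(n : G), hNT n.2⟩) (θ : N → ℂ) *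
        (θ : N → ℂ) n := fun n => by
    simpa using congrFun (CharCore.IsCharacter.eq_sum_classInner hchar) n
  refine Eq.trans (Finset.sum_congr rfl fun n _ => by rw [h n, Finset.mul_sum]) ?_
  rw [Finset.sum_comm]
  refine Finset.sum_congr rfl fun θ _ => ?_
  rw [← omega_blockCoeff, omega_eq_sum, mul_assoc, mul_div_cancel₀ _ (irr_one_ne_zero θ),
    Finset.mul_sum]
  exact Finset.sum_congr rfl fun n _ => by ring

theorem omega_res_extFun_of_not {ψ : IrrCharacter T} (h : ¬ LiesOver hNT b ψ) :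
    omega (ψ : T → ℂ) (res T (extFun (blockCoeff b))) = 0 := by
  classical
  have h1 := omega_res_extFun_mul hNT (b := b) ψ
  rw [Finset.sum_eq_zero fun θ _ => ?_] at h1
  · exact (mul_eq_zero.mp h1).resolve_right (irr_one_ne_zero ψ)
  · by_cases hθ : θ ∈ b
    · rw [not_not.mp fun hne => h ⟨θ, hθ, hne⟩, zero_mul, zero_mul]
    · rw [Set.indicator_of_notMem hθ, mul_zero]

theorem omega_res_extFun_of_liesOver (hT : IsBlockStab T b) {ψ : IrrCharacter T}
    (h : LiesOver hNT b ψ) : omega (ψ : T → ℂ) (res T (extFun (blockCoeff b))) = 1 := by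
  classical
  set v := omega (ψ : T → ℂ) (res T (extFun (blockCoeff b))) with hv
  have hc := isClassFunction_res_extFun hNT hT
  have hidem : v * v = v := by
    rw [hv, ← omega_conv ψ hc hc,
      ← res_conv (N := T) (fun x hx => extFun_notMem _ fun hn => hx (hNT hn)),
      conv_extFun_blockCoeff_self]
  rcases mul_eq_zero.mp (show v * (v - 1) = 0 by rw [mul_sub, hidem, mul_one, sub_self]) with
    h0 | h1
  swap
  · exact sub_eq_zero.mp h1
  exfalso
  have hchar : IsCharacter N (fun n : N => (ψ : T → ℂ) ⟨(n : G), hNT n.2⟩) :=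
    CharCore.isCharacter_comp (CharCore.irr_isCharacter ψ) (Subgroup.inclusion hNT)
  choose m hm using fun φ : IrrCharacter N =>
    CharCore.IsCharacter.exists_classInner_irr_eq_natCast hchar φ
  have h1 := omega_res_extFun_mul hNT (b := b) ψ
  rw [← hv, h0, zero_mul] at h1
  have h2 : ∑ θ : IrrCharacter N,
      m θ * charDegree (θ : N → ℂ) * (if θ ∈ b then 1 else 0) = 0 := by
    rw [← Nat.cast_eq_zero (R := ℂ), h1]
    push_cast
    refine Finset.sum_congr rfl fun θ _ => ?_
    rw [hm, irr_one_eq]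
    by_cases hθ : θ ∈ b <;> simp [hθ]
  obtain ⟨θ, hθ, hne⟩ := h
  have h3 := Finset.sum_eq_zero_iff.mp h2 θ (Finset.mem_univ θ)
  rw [if_pos hθ, mul_one] at h3
  rcases mul_eq_zero.mp h3 with h4 | h4
  · exact hne (by rw [hm, h4, Nat.cast_zero])
  · exact (charDegree_pos θ).ne' h4

theorem liesOver_of_sameBlock (hM : IsPModular p M) (hb : IsPBlock M b) (hT : IsBlockStab T b)
    {ψ ψ' : IrrCharacter T} (h : SameBlock M (ψ : T → ℂ) (ψ' : T → ℂ)) (hψ : LiesOver hNT b ψ) :
    LiesOver hNT b ψ' := by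
  have := isPrime hM
  by_contra h'
  have hc := omega_sub_memLocalIdeal h (isIntClassFun_res_extFun hNT hM hb hT)
  rw [omega_res_extFun_of_liesOver hNT hT hψ, omega_res_extFun_of_not hNT h', sub_zero] at hc
  exact not_memLocalIdeal_one hc

theorem sum_extFun_mul_apply (hT : IsBlockStab T b) {ψ : IrrCharacter T}
    (hψ : LiesOver hNT b ψ) (t : T) :
    ∑ s : T, res T (extFun (blockCoeff b)) s * (ψ : T → ℂ) (s * t) = (ψ : T → ℂ) t := by
  have h1 := omega_res_extFun_of_liesOver hNT hT hψ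
  obtain ⟨f, n, ρ, hρ, rfl⟩ := ψ
  have h2 := sum_smul_eq_omega_smul ρ (isClassFunction_res_extFun (b := b) hNT hT)
  rw [show omega ρ.character (res T (extFun (blockCoeff b))) = 1 from h1, one_smul] at h2
  have h3 := congrArg (fun e => LinearMap.trace ℂ (Fin n → ℂ) (e * ρ t)) h2
  simp only [Finset.sum_mul, smul_mul_assoc, ← map_mul, map_sum, map_smul, one_mul,
    smul_eq_mul] at h3
  exact h3

/-- The inverse of a character over `b` is fixed by the idempotent. -/
theorem conv_extFun_inv (hT : IsBlockStab T b) {ψ : IrrCharacter T} (hψ : LiesOver hNT b ψ) :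
    conv (res T (extFun (blockCoeff b))) (fun t => (ψ : T → ℂ) t⁻¹) =
      fun t => (ψ : T → ℂ) t⁻¹ := by
  funext t
  rw [conv_apply]
  refine Eq.trans (Finset.sum_congr rfl fun s _ => ?_) (sum_extFun_mul_apply hNT hT hψ t⁻¹)
  rw [mul_inv_rev, inv_inv]
  congr 1
  have := irr_class ψ (s * t⁻¹) t⁻¹
  rwa [show t⁻¹ * (s * t⁻¹) * t⁻¹⁻¹ = t⁻¹ * s by group] at this

/-- On functions fixed by the idempotent, restriction undoes induction. -/
theorem sum_indFun_mul [M.IsPrime] (hb : IsPBlock M b) (hT : IsBlockStab T b) {f : T → ℂ}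
    (hf : IsClassFunction T f) (hfe : conv (res T (extFun (blockCoeff b))) f = f) {φ : T → ℂ}
    (hφ : ∀ t, ∑ s : T, res T (extFun (blockCoeff b)) s * φ (s * t) = φ t) :
    ∑ t : T, indFun T f (t : G) * φ t = ∑ t : T, f t * φ t := by
  classical
  set e : G → ℂ := extFun (blockCoeff b) with he
  have hes : ∀ x, x ∉ T → e x = 0 := fun x hx => extFun_notMem _ fun h => hx (hNT h)
  have hext : conv e (extendByZero T f) = extendByZero T f := by
    funext x
    by_cases hx : x ∈ T
    · rw [CharInd.extendByZero_mem f hx]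
      have h1 : conv (res T e) (res T (extendByZero T f)) ⟨x, hx⟩ = f ⟨x, hx⟩ := by
        rw [show res T (extendByZero T f) = f from funext fun t => CharInd.extendByZero_coe T f t,
          hfe]
      rw [← res_conv hes] at h1
      exact h1
    · rw [CharInd.extendByZero_notMem f hx, conv_apply]
      refine Finset.sum_eq_zero fun y _ => ?_
      by_cases hy : y ∈ T
      · rw [CharInd.extendByZero_notMem f fun h => hx (by simpa using T.mul_mem hy h), mul_zero]
      · rw [hes y hy, zero_mul]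
  have hkey : ∀ s : T, conv e (indFun T f) (s : G) = f s := by
    intro s
    rw [conv_apply]
    simp only [CharInd.indFun_apply, Finset.mul_sum]
    rw [Finset.sum_comm]
    have hterm : ∀ u : G, ∑ y, e y * ((Nat.card T : ℂ)⁻¹ *
        extendByZero T f (u⁻¹ * (y⁻¹ * (s : G)) * u)) =
        if u ∈ T then (Nat.card T : ℂ)⁻¹ * f s else 0 := by
      intro u
      have e1 : ∑ y, e y * ((Nat.card T : ℂ)⁻¹ *
          extendByZero T f (u⁻¹ * (y⁻¹ * (s : G)) * u)) = (Nat.card T : ℂ)⁻¹ *
          conv (fun x => e (u * x * u⁻¹)) (extendByZero T f) (u⁻¹ * (s : G) * u) := by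
        rw [conv_apply, Finset.mul_sum]
        refine (Fintype.sum_equiv (MulAut.conj u).toEquiv _ _ fun y => ?_).symm
        simp only [MulEquiv.toEquiv_eq_coe, EquivLike.coe_coe, MulAut.conj_apply]
        rw [show u⁻¹ * ((u * y * u⁻¹)⁻¹ * (s : G)) * u = y⁻¹ * (u⁻¹ * (s : G) * u) by group]
        ring
      rw [e1]
      split_ifs with hu
      · rw [show (fun x => e (u * x * u⁻¹)) = e from
          funext fun x => extFun_blockCoeff_conj hT hu x, hext]
        have := CharInd.extendByZero_conj_mem hf ⟨u⁻¹, T.inv_mem hu⟩ (s : G)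
        simp only [inv_inv] at this
        rw [this, CharInd.extendByZero_coe]
      · rw [← hext, ← conv_assoc, conv_conj_extFun_eq_zero hb hT hu, conv_apply]
        simp
    rw [Finset.sum_congr rfl fun u _ => hterm u, Finset.sum_ite, Finset.sum_const_zero, add_zero,
      Finset.sum_const, nsmul_eq_mul,
      show (Finset.univ.filter (· ∈ T)).card = Nat.card T by
        rw [Nat.card_eq_fintype_card, Fintype.card_subtype],
      ← mul_assoc, mul_inv_cancel₀ (Nat.cast_ne_zero.mpr Nat.card_pos.ne'), one_mul]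
  calc ∑ t : T, indFun T f (t : G) * φ t
      = ∑ t : T, ∑ s : T, indFun T f (t : G) * (res T e s * φ (s * t)) :=
        Finset.sum_congr rfl fun t _ => by rw [← Finset.mul_sum, hφ]
    _ = ∑ r : T, (∑ s : T, res T e s * res T (indFun T f) (s⁻¹ * r)) * φ r := by
        rw [Finset.sum_comm]
        simp only [Finset.sum_mul]
        conv_rhs => rw [Finset.sum_comm]
        refine Finset.sum_congr rfl fun s _ => Fintype.sum_equiv (Equiv.mulLeft s) _ _ fun t => ?_
        simp only [Equiv.coe_mulLeft, inv_mul_cancel_left, res]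
        ring
    _ = ∑ r : T, f r * φ r := by
        refine Finset.sum_congr rfl fun r _ => ?_
        rw [← conv_apply, ← res_conv hes]
        show conv e (indFun T f) (r : G) * φ r = _
        rw [hkey]

theorem indFun_inv (f : T → ℂ) (g : G) :
    indFun T f g⁻¹ = indFun T (fun t => f t⁻¹) g := by
  rw [CharInd.indFun_apply, CharInd.indFun_apply]
  congr 1
  refine Finset.sum_congr rfl fun u _ => ?_
  rw [show u⁻¹ * g⁻¹ * u = (u⁻¹ * g * u)⁻¹ by group]
  by_cases h : u⁻¹ * g * u ∈ T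
  · rw [CharInd.extendByZero_mem _ h, CharInd.extendByZero_mem _ (T.inv_mem h)]
    rfl
  · rw [CharInd.extendByZero_notMem _ h,
      CharInd.extendByZero_notMem _ fun h' => h (by simpa using T.inv_mem h')]

theorem classInner_ind_ind [M.IsPrime] (hb : IsPBlock M b) (hT : IsBlockStab T b)
    {φ ψ : IrrCharacter T} (hφ : LiesOver hNT b φ) (hψ : LiesOver hNT b ψ) :
    classInner (indFun T (φ : T → ℂ)) (indFun T (ψ : T → ℂ)) =
      classInner (φ : T → ℂ) (ψ : T → ℂ) := by
  rw [CharInd.classInner_indFun_left T _ (CharInd.isClassFunction_indFun T _),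
    CharCore.classInner_def, CharCore.classInner_def]
  congr 1
  have hind := CharInd.isCharacter_indFun T (CharCore.irr_isCharacter ψ)
  have e : ∀ t : T, conj (indFun T (ψ : T → ℂ) (t : G)) =
      indFun T (fun s => (ψ : T → ℂ) s⁻¹) (t : G) := fun t => by
    rw [← indFun_inv hNT (ψ : T → ℂ)]
    exact (CharCore.IsCharacter.apply_inv hind _).symm
  simp only [e, conj_irr]
  rw [Finset.sum_congr rfl fun t _ => mul_comm _ _,
    sum_indFun_mul hNT hb hT (fun x y => by
      simp only [show (y * x * y⁻¹)⁻¹ = y * x⁻¹ * y⁻¹ by group, irr_class ψ x⁻¹ y])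
      (conv_extFun_inv hNT hT hψ) (sum_extFun_mul_apply hNT hT hφ)]
  exact Finset.sum_congr rfl fun t _ => mul_comm _ _

theorem isIrrCharacter_indFun [M.IsPrime] (hb : IsPBlock M b) (hT : IsBlockStab T b)
    {ψ : IrrCharacter T} (hψ : LiesOver hNT b ψ) : IsIrrCharacter G (indFun T (ψ : T → ℂ)) :=
  CharCore.isIrrCharacter_iff.mpr ⟨CharInd.isCharacter_indFun T (CharCore.irr_isCharacter ψ), by
    rw [classInner_ind_ind hNT hb hT hψ hψ, CharCore.classInner_irr_self]⟩

theorem eq_of_indFun_eq [M.IsPrime] (hb : IsPBlock M b) (hT : IsBlockStab T b)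
    {φ ψ : IrrCharacter T} (hφ : LiesOver hNT b φ) (hψ : LiesOver hNT b ψ)
    (h : indFun T (φ : T → ℂ) = indFun T (ψ : T → ℂ)) : φ = ψ := by
  by_contra hne
  have h1 := classInner_ind_ind hNT hb hT hφ hψ
  rw [h, classInner_ind_ind hNT hb hT hψ hψ, CharCore.classInner_irr_self,
    CharCore.classInner_irr_of_ne hne] at h1
  exact one_ne_zero h1

theorem omega_indFun {ψ : IrrCharacter T} {a : G → ℂ} (ha : IsClassFunction G a) :
    omega (indFun T (ψ : T → ℂ)) a = omega (ψ : T → ℂ) (res T a) := by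
  rw [omega_eq_sum, omega_eq_sum, CharInd.indFun_apply_one]
  have e : ∑ g, a g * indFun T (ψ : T → ℂ) g = (T.index : ℂ) * ∑ t : T, res T a t * (ψ : T → ℂ) t := by
    simp only [CharInd.indFun_apply, Finset.mul_sum]
    rw [Finset.sum_comm]
    have key : ∀ u : G, ∑ g, a g * ((Nat.card T : ℂ)⁻¹ *
        extendByZero T (ψ : T → ℂ) (u⁻¹ * g * u)) =
        (Nat.card T : ℂ)⁻¹ * ∑ t : T, res T a t * (ψ : T → ℂ) t := by
      intro u
      rw [Finset.sum_congr rfl fun (t : T) _ => mul_comm (res T a t) _,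
        show ∑ t : T, (ψ : T → ℂ) t * res T a t = ∑ t : T, (ψ : T → ℂ) t * a (t : G) from rfl,
        ← CharInd.sum_extendByZero_mul T (ψ : T → ℂ) a, Finset.mul_sum]
      refine Fintype.sum_equiv ((Equiv.mulLeft u⁻¹).trans (Equiv.mulRight u)) _ _ fun g => ?_
      simp only [Equiv.trans_apply, Equiv.coe_mulLeft, Equiv.coe_mulRight]
      have := ha g u⁻¹
      rw [inv_inv] at this
      rw [this]
      ring
    rw [Finset.sum_congr rfl fun u _ => key u, Finset.sum_const, Finset.card_univ, nsmul_eq_mul,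
      ← Nat.card_eq_fintype_card, ← Finset.mul_sum, ← mul_assoc, ← Subgroup.index_mul_card T,
      Nat.cast_mul, mul_assoc (T.index : ℂ),
      mul_inv_cancel₀ (Nat.cast_ne_zero.mpr Nat.card_pos.ne'), mul_one]
  rw [e, mul_div_mul_left _ _ (Nat.cast_ne_zero.mpr T.index_ne_zero_of_finite)]

/-- The induced character, as an irreducible character. -/
noncomputable def indIrr [M.IsPrime] (hb : IsPBlock M b) (hT : IsBlockStab T b)
    {ψ : IrrCharacter T} (hψ : LiesOver hNT b ψ) : IrrCharacter G :=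
  ⟨indFun T (ψ : T → ℂ), isIrrCharacter_indFun hNT hb hT hψ⟩

theorem centralChar_indFun [M.IsPrime] (hb : IsPBlock M b) (hT : IsBlockStab T b)
    {ψ : IrrCharacter T} (hψ : LiesOver hNT b ψ) (g : G) :
    centralChar (indIrr hNT hb hT hψ : G → ℂ) g = inducedCentralChar T (ψ : T → ℂ) g := by
  rw [← omega_classInd (irr_class _), ← omega_res_classInd]
  exact omega_indFun hNT (isClassFunction_classInd g)

theorem isInducedBlock_blockOf (hM : IsPModular p M) [M.IsPrime] (hb : IsPBlock M b)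
    (hT : IsBlockStab T b) {ψ : IrrCharacter T} (hψ : LiesOver hNT b ψ) :
    IsInducedBlock M T (blockOf M (ψ : T → ℂ)) (blockOf M (indIrr hNT hb hT hψ : G → ℂ)) := by
  refine ⟨isPBlock_blockOf ψ, isPBlock_blockOf _, fun ξ hξ χ hχ g => ?_⟩
  rw [← omega_res_classInd]
  have h1 := omega_sub_memLocalIdeal (sameBlock_symm hξ)
    (isIntClassFun_res T (isIntClassFun_classInd (M := M) g))
  rw [omega_res_classInd T (ψ : T → ℂ), ← centralChar_indFun hNT hb hT hψ] at h1
  have := memLocalIdeal_add h1 (hχ g)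
  rwa [sub_add_sub_cancel] at this

theorem indIrr_mem_of_induced [M.IsPrime] (hb : IsPBlock M b) (hT : IsBlockStab T b)
    {B' : Set (IrrCharacter T)} {B : Set (IrrCharacter G)} (hind : IsInducedBlock M T B' B)
    {ψ : IrrCharacter T} (hψB : ψ ∈ B') (hψ : LiesOver hNT b ψ) :
    indIrr hNT hb hT hψ ∈ B := by
  obtain ⟨χ, hχ⟩ := isPBlock_nonempty hind.2.1
  rw [isPBlock_eq_blockOf hind.2.1 hχ]
  refine sameBlock_symm (χ := (indIrr hNT hb hT hψ : G → ℂ)) fun g => ?_
  rw [centralChar_indFun hNT hb hT hψ]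
  exact hind.2.2 ψ hψB χ hχ g

/-- Characters over `b` whose induced characters share a block share a block. -/
theorem sameBlock_of_ind (hM : IsPModular p M) [M.IsPrime] (hb : IsPBlock M b)
    (hT : IsBlockStab T b) {φ ψ : IrrCharacter T} (hφ : LiesOver hNT b φ)
    (hψ : LiesOver hNT b ψ)
    (h : SameBlock M (indIrr hNT hb hT hφ : G → ℂ) (indIrr hNT hb hT hψ : G → ℂ)) :
    SameBlock M (φ : T → ℂ) (ψ : T → ℂ) := by
  classical
  refine (sameBlock_iff_omega _ _).mpr fun a ha => ?_
  have he := isIntClassFun_res_extFun hNT hM hb hT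
  set c := conv (res T (extFun (blockCoeff b))) a with hc
  have hcI : IsIntClassFun M c := isIntClassFun_conv he ha
  have hce : conv (res T (extFun (blockCoeff b))) c = c := by
    rw [hc, ← conv_assoc, ← res_conv (N := T)
      (fun x hx => extFun_notMem _ fun hn => hx (hNT hn)), conv_extFun_blockCoeff_self]
  have : Fintype (G ⧸ T) := Fintype.ofFinite _
  have hA : IsIntClassFun M (indFun T c) := by
    refine ⟨CharInd.isClassFunction_indFun T c, fun g => ?_⟩
    rw [CharInd.indFun_apply_cosets hcI.1 Quotient.out QuotientGroup.out_eq']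
    refine memLocalRing_sum fun q _ => ?_
    by_cases hq : q.out⁻¹ * g * q.out ∈ T
    · rw [CharInd.extendByZero_mem _ hq]; exact hcI.2 _
    · rw [CharInd.extendByZero_notMem _ hq]; exact (localRing M).zero_mem
  have key : ∀ {χ : IrrCharacter T} (hχ : LiesOver hNT b χ),
      omega (indIrr hNT hb hT hχ : G → ℂ) (indFun T c) = omega (χ : T → ℂ) a := fun {χ} hχ => by
    show omega (indFun T (χ : T → ℂ)) (indFun T c) = _
    rw [omega_indFun hNT hA.1, omega_eq_sum]
    simp only [res]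
    rw [sum_indFun_mul hNT hb hT hcI.1 hce (sum_extFun_mul_apply hNT hT hχ), ← omega_eq_sum, hc,
      omega_conv χ he.1 ha.1, omega_res_extFun_of_liesOver hNT hT hχ, one_mul]
  have := omega_sub_memLocalIdeal h hA
  rwa [key hφ, key hψ] at this

theorem exists_indIrr_of_constituent [M.IsPrime] (hb : IsPBlock M b) (hT : IsBlockStab T b)
    {χ : IrrCharacter G} {θ : IrrCharacter N} (hθ : θ ∈ b) (h : IsConstituent χ θ) :
    ∃ (ψ : IrrCharacter T) (hψ : LiesOver hNT b ψ), χ = indIrr hNT hb hT hψ := by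
  classical
  have hchar : IsCharacter T (fun t : T => (χ : G → ℂ) t) :=
    CharCore.isCharacter_restrict (CharCore.irr_isCharacter χ) T
  have hdec : (fun n : N => (χ : G → ℂ) n) = ∑ φ : IrrCharacter T,
      classInner (fun t : T => (χ : G → ℂ) t) (φ : T → ℂ) •
        fun n : N => (φ : T → ℂ) ⟨(n : G), hNT n.2⟩ := by
    funext n
    have := congrFun (CharCore.IsCharacter.eq_sum_classInner hchar) ⟨(n : G), hNT n.2⟩
    simpa [Finset.sum_apply] using this
  rw [IsConstituent, hdec, CharCore.classInner_sum_left] at h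
  obtain ⟨φ, -, hφ⟩ := Finset.exists_ne_zero_of_sum_ne_zero h
  rw [CharCore.classInner_smul_left] at hφ
  obtain ⟨h1, h2⟩ := mul_ne_zero_iff.mp hφ
  have hψ : LiesOver hNT b φ := ⟨θ, hθ, h2⟩
  refine ⟨φ, hψ, ?_⟩
  by_contra hne
  refine h1 ?_
  rw [← CharInd.classInner_indFun_right T (φ : T → ℂ) (irr_class χ)]
  exact CharCore.classInner_irr_of_ne hne

theorem exists_constituent_indIrr [M.IsPrime] (hb : IsPBlock M b) (hT : IsBlockStab T b)
    {ψ : IrrCharacter T} (hψ : LiesOver hNT b ψ) :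
    ∃ θ ∈ b, IsConstituent (indIrr hNT hb hT hψ) θ := by
  classical
  obtain ⟨θ, hθ, hne⟩ := hψ
  refine ⟨θ, hθ, fun h0 => ?_⟩
  set χ := indIrr hNT hb hT ⟨θ, hθ, hne⟩ with hχ
  have hchar : IsCharacter T (fun t : T => (χ : G → ℂ) t) :=
    CharCore.isCharacter_restrict (CharCore.irr_isCharacter χ) T
  have hdec : (fun n : N => (χ : G → ℂ) n) = ∑ φ : IrrCharacter T,
      classInner (fun t : T => (χ : G → ℂ) t) (φ : T → ℂ) •
        fun n : N => (φ : T → ℂ) ⟨(n : G), hNT n.2⟩ := by
    funext n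
    have := congrFun (CharCore.IsCharacter.eq_sum_classInner hchar) ⟨(n : G), hNT n.2⟩
    simpa [Finset.sum_apply] using this
  rw [hdec, CharCore.classInner_sum_left] at h0
  choose m hm using fun φ : IrrCharacter T =>
    CharCore.IsCharacter.exists_classInner_irr_eq_natCast hchar φ
  choose k hk using fun φ : IrrCharacter T => CharCore.IsCharacter.exists_classInner_irr_eq_natCast
    (CharCore.isCharacter_comp (CharCore.irr_isCharacter φ) (Subgroup.inclusion hNT)) θ
  have h1 : ∑ φ : IrrCharacter T, m φ * k φ = 0 := by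
    rw [← Nat.cast_eq_zero (R := ℂ), ← h0]
    push_cast
    refine Finset.sum_congr rfl fun φ _ => ?_
    rw [CharCore.classInner_smul_left, ← hm φ, ← hk φ]
    rfl
  have h2 := Finset.sum_eq_zero_iff.mp h1 ψ (Finset.mem_univ ψ)
  have hmψ : m ψ = 1 := by
    have e : classInner (fun t : T => (χ : G → ℂ) t) (ψ : T → ℂ) = 1 := by
      rw [← CharInd.classInner_indFun_right T (ψ : T → ℂ) (irr_class χ)]
      exact CharCore.classInner_irr_self χ
    exact_mod_cast (hm ψ).symm.trans e
  rw [hmψ, one_mul] at h2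
  refine hne ?_
  rw [show (fun n : N => (ψ : T → ℂ) ⟨(n : G), hNT n.2⟩) =
    fun n => (ψ : T → ℂ) (Subgroup.inclusion hNT n) from rfl, hk, h2, Nat.cast_zero]

/-- Fong–Reynolds: the members of the block induced by a block over `b`. -/
theorem mem_induced_iff (hM : IsPModular p M) [M.IsPrime] (hb : IsPBlock M b)
    (hT : IsBlockStab T b) {B' : Set (IrrCharacter T)} {B : Set (IrrCharacter G)}
    (hind : IsInducedBlock M T B' B) {ψ₀ : IrrCharacter T} (hψ₀B : ψ₀ ∈ B')
    (hψ₀ : LiesOver hNT b ψ₀) (χ : IrrCharacter G) :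
    χ ∈ B ↔ ∃ ψ ∈ B', (χ : G → ℂ) = indFun T (ψ : T → ℂ) := by
  have hall : ∀ ψ ∈ B', LiesOver hNT b ψ := fun ψ hψ =>
    liesOver_of_sameBlock hNT hM hb hT (sameBlock_of_mem hind.1 hψ₀B hψ) hψ₀
  constructor
  · intro hχ
    have h0 := indIrr_mem_of_induced hNT hb hT hind hψ₀B hψ₀
    obtain ⟨θ₀, hθ₀, hc₀⟩ := exists_constituent_indIrr hNT hb hT hψ₀
    obtain ⟨θ, hθ⟩ := exists_constituent_irr (N := N) χ
    obtain ⟨g, hg⟩ := (orbitSet_iff_of_sameBlock hM hb (sameBlock_of_mem hind.2.1 h0 hχ) hc₀ hθ).mp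
      ⟨1, by rwa [show conjIrr (1 : G) θ₀ = θ₀ from Subtype.ext (conjFun_one _)]⟩
    obtain ⟨ψ, hψ, rfl⟩ := exists_indIrr_of_constituent hNT hb hT hg (isConstituent_conjIrr hθ g)
    have hs := sameBlock_of_ind hNT hM hb hT hψ₀ hψ (sameBlock_of_mem hind.2.1 h0 hχ)
    exact ⟨ψ, by rw [isPBlock_eq_blockOf hind.1 hψ₀B]; exact hs, rfl⟩
  · rintro ⟨ψ, hψ, e⟩
    rw [show χ = indIrr hNT hb hT (hall ψ hψ) from Subtype.ext e]
    exact indIrr_mem_of_induced hNT hb hT hind hψ (hall ψ hψ)

theorem charDegree_indIrr [M.IsPrime] (hb : IsPBlock M b) (hT : IsBlockStab T b)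
    {ψ : IrrCharacter T} (hψ : LiesOver hNT b ψ) :
    (charDegree (indIrr hNT hb hT hψ : G → ℂ)).factorization p =
      T.index.factorization p + (charDegree (ψ : T → ℂ)).factorization p := by
  have h : charDegree (indIrr hNT hb hT hψ : G → ℂ) = T.index * charDegree (ψ : T → ℂ) := by
    have e1 := irr_one_eq (indIrr hNT hb hT hψ)
    rw [show (indIrr hNT hb hT hψ : G → ℂ) 1 = indFun T (ψ : T → ℂ) 1 from rfl,
      CharInd.indFun_apply_one, irr_one_eq ψ, ← Nat.cast_mul] at e1
    exact Nat.cast_injective e1.symm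
  rw [h, Nat.factorization_mul T.index_ne_zero_of_finite (charDegree_pos ψ).ne', Finsupp.add_apply]

/-- Fong–Reynolds: defect and heights. -/
theorem blockDefect_and_height (hM : IsPModular p M) [M.IsPrime] (hb : IsPBlock M b)
    (hT : IsBlockStab T b) {B' : Set (IrrCharacter T)} {B : Set (IrrCharacter G)}
    (hind : IsInducedBlock M T B' B) {ψ₀ : IrrCharacter T} (hψ₀B : ψ₀ ∈ B')
    (hψ₀ : LiesOver hNT b ψ₀) :
    blockDefect p B = blockDefect p B' ∧ ∀ ψ ∈ B', ∃ χ ∈ B,
      (χ : G → ℂ) = indFun T (ψ : T → ℂ) ∧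
        blockHeight p B (χ : G → ℂ) = blockHeight p B' (ψ : T → ℂ) := by
  have hall : ∀ ψ ∈ B', LiesOver hNT b ψ := fun ψ hψ =>
    liesOver_of_sameBlock hNT hM hb hT (sameBlock_of_mem hind.1 hψ₀B hψ) hψ₀
  set v := T.index.factorization p with hv
  set F' := (fun ψ : IrrCharacter T => (charDegree (ψ : T → ℂ)).factorization p) '' B' with hF'
  set F := (fun ψ : IrrCharacter G => (charDegree (ψ : G → ℂ)).factorization p) '' B with hF
  have himg : ∀ ψ (hψ : ψ ∈ B'), indIrr hNT hb hT (hall ψ hψ) ∈ B := fun ψ hψ =>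
    indIrr_mem_of_induced hNT hb hT hind hψ (hall ψ hψ)
  have hinf : sInf F = v + sInf F' := by
    refine le_antisymm ?_ ?_
    · obtain ⟨ψ, hψ, e⟩ := Nat.sInf_mem (s := F') ⟨_, ψ₀, hψ₀B, rfl⟩
      have h1 : (charDegree (indIrr hNT hb hT (hall ψ hψ) : G → ℂ)).factorization p ∈ F :=
        ⟨_, himg ψ hψ, rfl⟩
      have h2 := Nat.sInf_le h1
      simp only at e
      rw [charDegree_indIrr hNT hb hT (hall ψ hψ), e] at h2
      exact h2
    · obtain ⟨χ, hχ, e⟩ := Nat.sInf_mem (s := F) ⟨_, _, himg ψ₀ hψ₀B, rfl⟩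
      obtain ⟨ψ, hψ, e'⟩ := (mem_induced_iff hNT hM hb hT hind hψ₀B hψ₀ χ).mp hχ
      have h2 : sInf F' ≤ (charDegree (ψ : T → ℂ)).factorization p := Nat.sInf_le ⟨ψ, hψ, rfl⟩
      rw [← e]
      simp only
      rw [show χ = indIrr hNT hb hT (hall ψ hψ) from Subtype.ext e',
        charDegree_indIrr hNT hb hT (hall ψ hψ)]
      omega
  refine ⟨?_, fun ψ hψ => ⟨_, himg ψ hψ, rfl, ?_⟩⟩
  · simp only [blockDefect, ← hF, ← hF', hinf, ← Subgroup.index_mul_card T,
      Nat.factorization_mul T.index_ne_zero_of_finite Nat.card_pos.ne', Finsupp.add_apply, ← hv]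
    omega
  · simp only [blockHeight, ← hF, ← hF', hinf, charDegree_indIrr hNT hb hT (hall ψ hψ), ← hv]
    omega

/-- Fong–Reynolds: defect groups. -/
theorem isDefectGroup_induced (hM : IsPModular p M) [M.IsPrime] [Fact p.Prime] (hb : IsPBlock M b)
    (hT : IsBlockStab T b) {B' : Set (IrrCharacter T)} {B : Set (IrrCharacter G)}
    (hind : IsInducedBlock M T B' B) {ψ₀ : IrrCharacter T} (hψ₀B : ψ₀ ∈ B')
    (hψ₀ : LiesOver hNT b ψ₀) {D : Subgroup T} (hD : IsDefectGroup p M B' D) :
    IsDefectGroup p M B (D.map T.subtype) := by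
  classical
  have hall : ∀ ψ ∈ B', LiesOver hNT b ψ := fun ψ hψ =>
    liesOver_of_sameBlock hNT hM hb hT (sameBlock_of_mem hind.1 hψ₀B hψ) hψ₀
  obtain ⟨t, ht, hS⟩ := isDefectGroup_iff.mp hD
  have heB' := isIntClassFun_blockCoeff hM hind.1
  have heB := isIntClassFun_blockCoeff hM hind.2.1
  have habs : conv (res T (blockCoeff B)) (blockCoeff B') = blockCoeff B' := by
    refine eq_of_omega_eq (isClassFunction_conv (isClassFunction_res T heB.1) heB'.1) heB'.1
      fun ψ => ?_
    rw [omega_conv ψ (isClassFunction_res T heB.1) heB'.1, omega_blockCoeff B' ψ]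
    by_cases hψ : ψ ∈ B'
    · rw [← omega_indFun hNT heB.1,
        show indFun T (ψ : T → ℂ) = (indIrr hNT hb hT (hall ψ hψ) : G → ℂ) from rfl,
        omega_blockCoeff, Set.indicator_of_mem (indIrr_mem_of_induced hNT hb hT hind hψ _),
        Pi.one_apply, one_mul]
    · rw [Set.indicator_of_notMem hψ, mul_zero]
  have hu := ht.2.1
  rw [← habs, conv_apply] at hu
  obtain ⟨y, hy, hy1, -⟩ := exists_mem_centralizer_of_convSum hM hS.isPGroup
    (res T (blockCoeff B)) (blockCoeff B') (fun u _ z => isClassFunction_res T heB.1 z u)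
    (fun u _ z => heB'.1 z u) (fun z => heB.2 _) heB'.2 hS.mem_centralizer hu
  obtain ⟨P, hP⟩ := exists_isDefectGroup hM hind.2.1
  have hy' : (y : G) ∈ Subgroup.centralizer ((D.map T.subtype : Subgroup G) : Set G) := by
    rw [Subgroup.mem_centralizer_iff] at hy ⊢
    rintro _ ⟨d, hd, rfl⟩
    exact congrArg Subtype.val (hy d hd)
  obtain ⟨x, hx⟩ := (subConj_defectGroup_of_coeff hM hind.2.1 hP (hS.isPGroup.map _) hy' hy1)
    |>.exists_eq_of_card_le (le_of_eq (by
      rw [defectGroup_natCard hM hind.2.1 hP,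
        (blockDefect_and_height hNT hM hb hT hind hψ₀B hψ₀).1,
        Nat.card_congr (D.equivMapOfInjective _ T.subtype_injective).toEquiv.symm,
        defectGroup_natCard hM hind.1 hD]))
  have := isDefectGroup_map_conj hM hind.2.1 hP x⁻¹
  rwa [← hx, map_conj_map_conj, inv_mul_cancel, map_conj_one] at this

end Cfsg.Agent.BlocksDefect
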