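import Cfsg.Prelude.Def_BlockRank
import Cfsg.Agent.Lib.BlocksDefect.FongReynolds
import Cfsg.Agent.Lib.BlocksDefect.Fong
import Cfsg.Agent.Lib.BlocksCore.Height

/-!
# Stable blocks of normal subgroups of `p`-power index, abelian defect groups

If a stable block `b` of `N` is covered by a block `B` with abelian defect group and the index
of `N` is a power of `p`, every coset of `N` carries a class on which the central characters of
`B` are units.  Counting the class functions they give shows that every member of `b` extends.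
-/

set_option linter.unusedSectionVars false

namespace Cfsg.Agent.BlocksDefect

open BlocksCore

variable {G : Type*} [Group G] [Fintype G] {p : ℕ} [Fact p.Prime] {M : Ideal AlgInt}
  {N : Subgroup G} [hN : N.Normal] [Fintype N]

/-- A product of a defect class representative with a commuting element of an abelian defect
group has unit central character values on the block. -/
theorem centralChar_mul_unit (hM : IsPModular p M) {B : Set (IrrCharacter G)} (hB : IsPBlock M B)
    {P : Subgroup G} {y : G} (hy : IsDefectClass M B y) (hS : IsSylowCent p y P)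
    (hab : ∀ a ∈ P, ∀ c ∈ P, a * c = c * a) {x : G} (hx : x ∈ P) {χ : IrrCharacter G}
    (hχ : χ ∈ B) : ¬ MemLocalIdeal M (centralChar (χ : G → ℂ) (x * y)) := by
  classical
  have := isPrime hM
  obtain ⟨χ₀, hχ₀, h0⟩ := exists_height_zero hM hB
  obtain ⟨k, hk⟩ := hS.isPGroup ⟨x, hx⟩
  obtain ⟨j, -, hj⟩ := (Nat.dvd_prime_pow Fact.out).mp (orderOf_dvd_of_pow_eq_one hk)
  have hxy : Commute x y := mem_centralizer_singleton.mp (hS.le_centralizer hx)
  have hu := height_zero_apply_unit hM hB hy hxy (k := j)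
    (by rw [← hj, ← Subgroup.orderOf_coe]) hχ₀ h0
  -- the defect of the class of `x * y`
  set C := Subgroup.centralizer ({x * y} : Set G) with hC
  have hPC : P ≤ C := fun a ha => mem_centralizer_singleton.mpr (by
    have h1 := mem_centralizer_singleton.mp (hS.le_centralizer ha)
    rw [← mul_assoc, hab a ha x hx, mul_assoc, h1, ← mul_assoc])
  have hd : Nat.card P = p ^ blockDefect p B :=
    defectGroup_natCard hM hB (isDefectGroup_iff.mpr ⟨y, hy, hS⟩)
  have hdle : blockDefect p B ≤ (Nat.card C).factorization p := by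
    have h1 := Subgroup.card_dvd_of_le hPC
    rw [hd] at h1
    exact (hM.1.pow_dvd_iff_le_factorization Nat.card_pos.ne').mp h1
  have h2 := factorization_of_mul_eq hM (C.index_ne_zero_of_finite) (charDegree_pos χ₀).ne'
    (memLocalRing_of_isIntegral (isIntegral_irr χ₀ (x * y))) hu
    (centralChar_memLocalRing χ₀ (x * y)) (apply_one_mul_centralChar χ₀ (x * y)).symm
  have hu2 := h2.2 (by
    have h3 : C.index.factorization p =
        (Nat.card G).factorization p - (Nat.card C).factorization p := index_factorization (x * y)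
    rw [height_zero_degree hχ₀ h0, h3]
    omega)
  have hw := sameBlock_of_mem hB hχ₀ hχ (x * y)
  exact fun hc => hu2 (by simpa using memLocalIdeal_add hw hc)

/-- Characters over a constituent whose index many independent class functions exist restrict
irreducibly. -/
theorem restrict_of_card_le (θ : IrrCharacter N)
    (hcard : N.index ≤ Nat.card {χ : IrrCharacter G // IsConstituent χ θ}) :
    (∀ χ : IrrCharacter G, IsConstituent χ θ → ∀ n : N, (χ : G → ℂ) n = (θ : N → ℂ) n) ∧
      Nat.card {χ : IrrCharacter G // IsConstituent χ θ} = N.index := by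
  classical
  set X := Finset.univ.filter (fun χ : IrrCharacter G => IsConstituent χ θ) with hX
  have hXc : Nat.card {χ : IrrCharacter G // IsConstituent χ θ} = X.card := by
    rw [Nat.card_eq_fintype_card, Fintype.card_subtype]
  have hchar : ∀ χ : IrrCharacter G, IsCharacter N (fun n : N => (χ : G → ℂ) n) := fun χ =>
    CharCore.isCharacter_restrict (CharCore.irr_isCharacter χ) N
  choose m hm using fun (χ : IrrCharacter G) (η : IrrCharacter N) =>
    CharCore.IsCharacter.exists_classInner_irr_eq_natCast (hchar χ) η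
  choose d hd using fun η : IrrCharacter N =>
    CharCore.IsCharacter.exists_degree (CharCore.irr_isCharacter η)
  choose D hD using fun χ : IrrCharacter G =>
    CharCore.IsCharacter.exists_degree (CharCore.irr_isCharacter χ)
  have hdec : ∀ (χ : IrrCharacter G) (n : N),
      (χ : G → ℂ) n = ∑ η : IrrCharacter N, (m χ η : ℂ) * (η : N → ℂ) n := fun χ n => by
    have := congrFun (CharCore.IsCharacter.eq_sum_classInner (hchar χ)) n
    simp only [Finset.sum_apply, Pi.smul_apply, smul_eq_mul, hm] at this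
    exact this
  have hdeg : ∀ χ, D χ = ∑ η : IrrCharacter N, m χ η * d η := fun χ => by
    apply Nat.cast_injective (R := ℂ)
    push_cast
    rw [← hD χ, show ((χ : G → ℂ) 1) = (χ : G → ℂ) ((1 : N) : G) by simp, hdec]
    simp only [hd]
  have hdpos : 0 < d θ := Nat.pos_of_ne_zero fun h0 =>
    irr_one_ne_zero θ (by rw [hd, h0, Nat.cast_zero])
  have hmX : ∀ χ ∈ X, 1 ≤ m χ θ := fun χ hχ => Nat.one_le_iff_ne_zero.mpr fun h0 =>
    (Finset.mem_filter.mp hχ).2 (by rw [hm, h0, Nat.cast_zero])
  have hge : ∀ χ, m χ θ * d θ ≤ D χ := fun χ => by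
    rw [hdeg χ]
    exact Finset.single_le_sum (f := fun η => m χ η * d η) (fun _ _ => Nat.zero_le _)
      (Finset.mem_univ θ)
  -- Frobenius reciprocity at the identity
  have hind : ∑ χ ∈ X, m χ θ * D χ = N.index * d θ := by
    have e : ∑ χ : IrrCharacter G, m χ θ * D χ = N.index * d θ := by
      apply Nat.cast_injective (R := ℂ)
      push_cast
      have h1 := congrFun (CharCore.IsCharacter.eq_sum_classInner
        (CharInd.isCharacter_indFun N (CharCore.irr_isCharacter θ))) 1
      simp only [Finset.sum_apply, Pi.smul_apply, smul_eq_mul, CharInd.indFun_apply_one, hd] at h1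
      rw [h1]
      refine Finset.sum_congr rfl fun χ _ => ?_
      rw [CharInd.classInner_indFun_left N _ (irr_class χ), ← CharCore.conj_classInner, hm,
        map_natCast, hD]
    rw [← e]
    refine Finset.sum_subset (Finset.subset_univ X) fun χ _ hχ => ?_
    have h0 : m χ θ = 0 := by
      by_contra h
      refine hχ (Finset.mem_filter.mpr ⟨Finset.mem_univ _, ?_⟩)
      rw [IsConstituent, hm]
      exact Nat.cast_ne_zero.mpr h
    rw [h0, Nat.zero_mul]
  have hterm : ∀ χ ∈ X, d θ ≤ m χ θ * D χ := fun χ hχ =>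
    (Nat.le_mul_of_pos_left _ (hmX χ hχ)).trans
      ((hge χ).trans (Nat.le_mul_of_pos_left _ (hmX χ hχ)))
  have hsum : ∑ χ ∈ X, d θ = X.card * d θ := by rw [Finset.sum_const, smul_eq_mul]
  have h1 : X.card * d θ ≤ N.index * d θ := by
    rw [← hsum, ← hind]
    exact Finset.sum_le_sum hterm
  have hX' : X.card = N.index :=
    le_antisymm (Nat.le_of_mul_le_mul_right h1 hdpos) (hXc ▸ hcard)
  refine ⟨fun χ hχ n => ?_, by rw [hXc, hX']⟩
  have hχX : χ ∈ X := Finset.mem_filter.mpr ⟨Finset.mem_univ _, hχ⟩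
  have heq : d θ = m χ θ * D χ :=
    (Finset.sum_eq_sum_iff_of_le hterm).mp (by rw [hsum, hind, hX']) χ hχX
  have hm1 : m χ θ = 1 := by
    have h2 := hge χ
    have h3 := hmX χ hχX
    have h4 : m χ θ * (m χ θ * d θ) ≤ 1 * d θ := by
      rw [one_mul]
      calc m χ θ * (m χ θ * d θ) ≤ m χ θ * D χ := Nat.mul_le_mul_left _ h2
        _ = d θ := heq.symm
    rw [← mul_assoc] at h4
    have h5 := Nat.le_of_mul_le_mul_right h4 hdpos
    exact le_antisymm ((Nat.le_mul_of_pos_left _ h3).trans h5) h3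
  have hDd : D χ = d θ := by rw [heq, hm1, one_mul]
  have hzero : ∀ η, η ≠ θ → m χ η = 0 := by
    intro η hη
    have h2 := hdeg χ
    rw [hDd, ← Finset.add_sum_erase _ _ (Finset.mem_univ θ), hm1, one_mul] at h2
    have h3 : ∑ η' ∈ Finset.univ.erase θ, m χ η' * d η' = 0 := by omega
    have h4 := Finset.sum_eq_zero_iff.mp h3 η (Finset.mem_erase.mpr ⟨hη, Finset.mem_univ _⟩)
    exact (Nat.mul_eq_zero.mp h4).resolve_right fun h0 =>
      irr_one_ne_zero η (by rw [hd, h0, Nat.cast_zero])
  rw [hdec, Finset.sum_eq_single θ (fun η _ hη => by rw [hzero η hη, Nat.cast_zero, zero_mul])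
    (fun h => absurd (Finset.mem_univ θ) h), hm1, Nat.cast_one, one_mul]

/-- Many characters over a member of a stable block, from unit classes in every coset. -/
theorem index_le_card_over {θ : IrrCharacter N}
    (g : G ⧸ N → G) (hg : ∀ q, (QuotientGroup.mk (g q) : G ⧸ N) = q)
    (hcomm : ∀ a c : G ⧸ N, a * c = c * a)
    (hne : ∀ q, ∀ χ : IrrCharacter G, IsConstituent χ θ →
      centralChar (χ : G → ℂ) (g q) ≠ 0) :
    N.index ≤ Nat.card {χ : IrrCharacter G // IsConstituent χ θ} := by
  classical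
  have : Fintype (G ⧸ N) := Fintype.ofFinite _
  set f : G → ℂ := extFun (blockCoeff (orbitSet (G := G) ({θ} : Set (IrrCharacter N)))) with hf
  have hfc : IsClassFunction G f := isClassFunction_extFun (conjFun_blockCoeff_orbitSet _)
  have hfs : ∀ z, z ∉ N → f z = 0 := fun z hz => extFun_notMem _ hz
  set F : G ⧸ N → G → ℂ := fun q => conv f (classInd (g q)) with hF
  have hFc : ∀ q, IsClassFunction G (F q) := fun q =>
    isClassFunction_conv hfc (isClassFunction_classInd _)
  have hFs : ∀ q z, (QuotientGroup.mk z : G ⧸ N) ≠ q → F q z = 0 := by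
    intro q z hz
    rw [hF]
    simp only
    rw [conv_apply]
    refine Finset.sum_eq_zero fun u _ => ?_
    by_cases hu : u ∈ N
    · rw [classInd_apply_of_not_isConj, mul_zero]
      intro hc
      obtain ⟨w, hw⟩ := isConj_iff.mp hc
      refine hz ?_
      have h1 : (QuotientGroup.mk (u⁻¹ * z) : G ⧸ N) = QuotientGroup.mk z := by
        rw [QuotientGroup.mk_mul, (QuotientGroup.eq_one_iff _).mpr (N.inv_mem hu), one_mul]
      rw [← h1, ← hw, QuotientGroup.mk_mul, QuotientGroup.mk_mul, QuotientGroup.mk_inv, hg,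
        hcomm, inv_mul_cancel_left]
    · rw [hfs u hu, zero_mul]
  have hFω : ∀ q (χ : IrrCharacter G), omega (χ : G → ℂ) (F q) =
      omega (χ : G → ℂ) f * centralChar (χ : G → ℂ) (g q) := fun q χ => by
    rw [hF, omega_conv χ hfc (isClassFunction_classInd _), omega_classInd (irr_class χ)]
  have hfω : ∀ χ : IrrCharacter G, ¬ IsConstituent χ θ → omega (χ : G → ℂ) f = 0 := by
    intro χ hχ
    obtain ⟨η, hη⟩ := exists_constituent_irr (N := N) χ
    rw [hf, omega_extFun_orbitSet hη, Set.indicator_of_notMem]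
    rintro ⟨w, hw⟩
    rw [Set.mem_singleton_iff] at hw
    exact hχ (hw ▸ isConstituent_conjIrr hη w)
  obtain ⟨χ₁, hχ₁⟩ := exists_over (G := G) θ
  have hf1 : omega (χ₁ : G → ℂ) f = 1 := by
    rw [hf, omega_extFun_orbitSet hχ₁, Set.indicator_of_mem
      (show θ ∈ orbitSet (G := G) ({θ} : Set (IrrCharacter N)) from ⟨1, by
        rw [show conjIrr (1 : G) θ = θ from Subtype.ext (conjFun_one _)]; exact rfl⟩)]
    rfl
  let v : G ⧸ N → ({χ : IrrCharacter G // IsConstituent χ θ} → ℂ) :=
    fun q χ => omega ((χ : IrrCharacter G) : G → ℂ) (F q)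
  have hli : LinearIndependent ℂ v := by
    rw [Fintype.linearIndependent_iff]
    intro c hc q
    have hH : ∑ r, c r • F r = 0 := by
      refine eq_of_omega_eq (fun z w => ?_) (fun z w => rfl) fun χ => ?_
      · simp only [Finset.sum_apply, Pi.smul_apply]
        exact Finset.sum_congr rfl fun r _ => by rw [hFc r z w]
      rw [omega_sum, omega_zero]
      by_cases hχ : IsConstituent χ θ
      · have h1 := congrFun hc ⟨χ, hχ⟩
        simp only [Finset.sum_apply, Pi.smul_apply, smul_eq_mul, Pi.zero_apply] at h1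
        simp only [omega_smul]
        exact h1
      · exact Finset.sum_eq_zero fun r _ => by rw [omega_smul, hFω, hfω χ hχ, zero_mul, mul_zero]
    obtain ⟨z, hz⟩ : ∃ z, F q z ≠ 0 := by
      by_contra hno
      push Not at hno
      have h0 : omega (χ₁ : G → ℂ) (F q) = 0 := by
        rw [show F q = 0 from funext hno, omega_zero]
      rw [hFω, hf1, one_mul] at h0
      exact hne q χ₁ hχ₁ h0
    have hzq : (QuotientGroup.mk z : G ⧸ N) = q := by
      by_contra h
      exact hz (hFs q z h)
    have h1 := congrFun hH z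
    rw [Finset.sum_apply, Finset.sum_eq_single q
      (fun r _ hr => by rw [Pi.smul_apply, hFs r z (hzq ▸ fun h => hr h.symm), smul_zero])
      (fun h => absurd (Finset.mem_univ q) h), Pi.smul_apply, smul_eq_mul, Pi.zero_apply] at h1
    exact (mul_eq_zero.mp h1).resolve_right hz
  have hle := hli.fintype_card_le_finrank
  rw [Module.finrank_fintype_fun_eq_card, ← Nat.card_eq_fintype_card, ← Nat.card_eq_fintype_card]
    at hle
  exact hle

/-- A stable block of a normal subgroup of `p`-power index under a covering block with abelian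
defect group. -/
theorem pIndex_abelian (hM : IsPModular p M) (hNi : ∃ k : ℕ, N.index = p ^ k)
    {b : Set (IrrCharacter N)} (hb : IsPBlock M b) (hinv : ∀ g : G, ∀ θ ∈ b, conjIrr g θ ∈ b)
    {B : Set (IrrCharacter G)} (hB : IsPBlock M B) (hcov : ∃ χ ∈ B, ∃ θ ∈ b, IsConstituent χ θ)
    {P : Subgroup G} (hP : IsDefectGroup p M B P) (hab : ∀ x ∈ P, ∀ y ∈ P, x * y = y * x) :
    N ⊔ P = ⊤ ∧ IsDefectGroup p M b ((P ⊓ N).subgroupOf N) ∧
      (∀ χ ∈ B, ∃ θ ∈ b, ∀ n : N, (χ : G → ℂ) n = (θ : N → ℂ) n) ∧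
      (∀ θ ∈ b, Nat.card {χ : IrrCharacter G //
        χ ∈ B ∧ ∀ n : N, (χ : G → ℂ) n = (θ : N → ℂ) n} = N.index) ∧
      Nat.card B = N.index * Nat.card b ∧ blockRank p B = blockRank p b := by
  classical
  have := isPrime hM
  have := finite_irr (G := G)
  have := finite_irr (G := N)
  obtain ⟨k, hk⟩ := hNi
  obtain ⟨χ₀, hχ₀, θ₀, hθ₀, hc₀⟩ := hcov
  have horb : orbitSet (G := G) b = b := by
    ext η
    refine ⟨fun ⟨g, hg⟩ => ?_, fun h => ⟨1, hinv 1 η h⟩⟩
    have := hinv g⁻¹ _ hg
    rwa [conjIrr_inv_self] at this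
  have hBmem : ∀ χ : IrrCharacter G, χ ∈ B ↔ ∃ θ ∈ b, IsConstituent χ θ := by
    intro χ
    constructor
    · intro hχ
      obtain ⟨θ, hθ⟩ := exists_constituent_irr (N := N) χ
      refine ⟨θ, ?_, hθ⟩
      rw [← horb]
      exact (orbitSet_iff_of_sameBlock hM hb (sameBlock_of_mem hB hχ₀ hχ) hc₀ hθ).mp
        (by rwa [horb])
    · rintro ⟨θ, hθ, hc⟩
      rw [isPBlock_eq_blockOf hB hχ₀]
      exact mem_of_covers hM ⟨k, hk⟩ hb hθ hθ₀ hc hc₀
  have huni : ∀ B' : Set (IrrCharacter G), IsPBlock M B' →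
      (∃ χ ∈ B', ∃ θ ∈ b, IsConstituent χ θ) → B' = B := by
    rintro B' hB' ⟨χ, hχ, hh⟩
    exact isPBlock_eq_of_mem hB' hB hχ ((hBmem χ).mpr hh)
  obtain ⟨hidx, hbD, -⟩ := fong hM hb hinv hB ⟨χ₀, hχ₀, θ₀, hθ₀, hc₀⟩
    (fun B' hB' h' => le_of_eq (by rw [huni B' hB' h'])) hP
  have htop : N ⊔ P = ⊤ := by
    rw [sup_comm, ← Subgroup.index_eq_one]
    have h1 : (P ⊔ N).index ∣ p ^ k := hk ▸ Subgroup.index_dvd_of_le le_sup_right
    obtain ⟨i, -, hi⟩ := (Nat.dvd_prime_pow Fact.out).mp h1
    rcases Nat.eq_zero_or_pos i with rfl | hpos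
    · rw [hi, pow_zero]
    · exact absurd (hi ▸ dvd_pow_self p hpos.ne') hidx
  have hsurj : ∀ q : G ⧸ N, ∃ x ∈ P, (QuotientGroup.mk x : G ⧸ N) = q := by
    intro q
    obtain ⟨z, rfl⟩ := QuotientGroup.mk_surjective q
    have hz : z ∈ N ⊔ P := by rw [htop]; trivial
    rw [← SetLike.mem_coe, Subgroup.normal_mul] at hz
    obtain ⟨n, hn, x, hx, rfl⟩ := Set.mem_mul.mp hz
    refine ⟨x, hx, ?_⟩
    rw [QuotientGroup.mk_mul, (QuotientGroup.eq_one_iff n).mpr hn, one_mul]
  obtain ⟨y, hy, hS⟩ := isDefectGroup_iff.mp hP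
  have hyN : y ∈ N := mem_of_not_dvd_orderOf hk (defectClass_regular hM hB hy)
  choose r hrP hr using hsurj
  have hg : ∀ q, (QuotientGroup.mk (r q * y) : G ⧸ N) = q := fun q => by
    rw [QuotientGroup.mk_mul, hr, (QuotientGroup.eq_one_iff y).mpr hyN, mul_one]
  have hcomm : ∀ a c : G ⧸ N, a * c = c * a := fun a c => by
    rw [← hr a, ← hr c, ← QuotientGroup.mk_mul, ← QuotientGroup.mk_mul,
      hab _ (hrP a) _ (hrP c)]
  have hext : ∀ θ ∈ b, (∀ χ : IrrCharacter G, IsConstituent χ θ →
      ∀ n : N, (χ : G → ℂ) n = (θ : N → ℂ) n) ∧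
      Nat.card {χ : IrrCharacter G // IsConstituent χ θ} = N.index := fun θ hθ =>
    restrict_of_card_le θ (index_le_card_over (fun q => r q * y) hg hcomm fun q χ hχ h0 =>
      centralChar_mul_unit hM hB hy hS hab (hrP q) ((hBmem χ).mpr ⟨θ, hθ, hχ⟩)
        (h0 ▸ memLocalIdeal_zero))
  have hfib : ∀ θ ∈ b, Nat.card {χ : IrrCharacter G //
      χ ∈ B ∧ ∀ n : N, (χ : G → ℂ) n = (θ : N → ℂ) n} = N.index := by
    intro θ hθ
    rw [← (hext θ hθ).2]
    refine Nat.card_congr (Equiv.subtypeEquivRight fun χ => ⟨fun h => ?_, fun h =>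
      ⟨(hBmem χ).mpr ⟨θ, hθ, h⟩, (hext θ hθ).1 χ h⟩⟩)
    rw [IsConstituent, show (fun n : N => (χ : G → ℂ) n) = (θ : N → ℂ) from funext h.2,
      CharCore.classInner_irr_self]
    exact one_ne_zero
  have hres : ∀ χ ∈ B, ∃ θ ∈ b, ∀ n : N, (χ : G → ℂ) n = (θ : N → ℂ) n := fun χ hχ => by
    obtain ⟨θ, hθ, hc⟩ := (hBmem χ).mp hχ
    exact ⟨θ, hθ, (hext θ hθ).1 χ hc⟩
  refine ⟨htop, hbD, hres, hfib, ?_, ?_⟩
  · choose ρ hρb hρ using hres
    let F : B → b := fun χ => ⟨ρ χ χ.2, hρb χ χ.2⟩
    have hF : ∀ θ : b, Nat.card {χ : B // F χ = θ} = N.index := by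
      intro θ
      rw [← hfib θ θ.2]
      exact Nat.card_congr
        { toFun := fun χ => ⟨(χ.1 : IrrCharacter G), χ.1.2, fun n =>
            (hρ _ χ.1.2 n).trans (congrFun (congrArg Subtype.val
              (congrArg Subtype.val χ.2)) n)⟩
          invFun := fun χ => ⟨⟨χ.1, χ.2.1⟩, Subtype.ext (Subtype.ext (funext fun n =>
            (hρ _ χ.2.1 n).symm.trans (χ.2.2 n)))⟩
          left_inv := fun χ => rfl
          right_inv := fun χ => rfl }
    have := Fintype.ofFinite b
    rw [← Nat.card_congr (Equiv.sigmaFiberEquiv F), Nat.card_sigma]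
    simp only [hF, Finset.sum_const, Finset.card_univ, smul_eq_mul, Nat.card_eq_fintype_card]
    rw [mul_comm]
  · let E : (N → ℂ) →ₗ[ℂ] (G → ℂ) :=
      { toFun := fun f => extFun f
        map_add' := fun f f' => by
          funext z
          by_cases hz : z ∈ N
          · rw [Pi.add_apply, show z = ((⟨z, hz⟩ : N) : G) from rfl, extFun_coe, extFun_coe,
              extFun_coe]; rfl
          · rw [Pi.add_apply, extFun_notMem _ hz, extFun_notMem _ hz, extFun_notMem _ hz, add_zero]
        map_smul' := fun c f => by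
          funext z
          by_cases hz : z ∈ N
          · rw [RingHom.id_apply, Pi.smul_apply, show z = ((⟨z, hz⟩ : N) : G) from rfl,
              extFun_coe, extFun_coe]; rfl
          · rw [RingHom.id_apply, Pi.smul_apply, extFun_notMem _ hz, extFun_notMem _ hz,
              smul_zero] }
    have hE : Function.Injective E := fun f f' h => funext fun n => by
      have := congrFun h (n : G)
      simpa [E, extFun_coe] using this
    have hpart : ∀ (χ : IrrCharacter G) (θ : IrrCharacter N),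
        (∀ n : N, (χ : G → ℂ) n = (θ : N → ℂ) n) →
        pRegularPart p (χ : G → ℂ) = E (pRegularPart p (θ : N → ℂ)) := by
      intro χ θ h
      funext z
      show pRegularPart p (χ : G → ℂ) z = extFun (pRegularPart p (θ : N → ℂ)) z
      by_cases hz : z ∈ N
      · rw [show z = ((⟨z, hz⟩ : N) : G) from rfl, extFun_coe]
        simp only [pRegularPart, IsPRegular, Subgroup.orderOf_mk]
        rw [show (χ : G → ℂ) z = (θ : N → ℂ) ⟨z, hz⟩ from h ⟨z, hz⟩]
        congr 1
      · rw [extFun_notMem _ hz, pRegularPart, if_neg]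
        exact fun h' => hz (mem_of_not_dvd_orderOf hk h')
    have himg : (fun χ : IrrCharacter G => pRegularPart p (χ : G → ℂ)) '' B =
        E '' ((fun θ : IrrCharacter N => pRegularPart p (θ : N → ℂ)) '' b) := by
      ext f
      constructor
      · rintro ⟨χ, hχ, rfl⟩
        obtain ⟨θ, hθ, h⟩ := hres χ hχ
        exact ⟨_, ⟨θ, hθ, rfl⟩, (hpart χ θ h).symm⟩
      · rintro ⟨_, ⟨θ, hθ, rfl⟩, rfl⟩
        obtain ⟨χ, hc⟩ := exists_over (G := G) θ
        exact ⟨χ, (hBmem χ).mpr ⟨θ, hθ, hc⟩, hpart χ θ ((hext θ hθ).1 χ hc)⟩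
    rw [blockRank, blockRank, himg, Submodule.span_image]
    exact (Submodule.equivMapOfInjective E hE _).finrank_eq.symm

end Cfsg.Agent.BlocksDefect
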