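import Cfsg.Agent.Lib.BlocksDefect.Fong
import Cfsg.Agent.Lib.BlocksDefect.Kulshammer

/-!
# Defect groups of covered blocks

If a block `B` of `G` covers a block `b` of a normal subgroup `N` with defect group `Q`, then some
defect group of `B` meets `N` in `Q`.

That `Q` is conjugate into a defect group of `B` is proved in the group algebra over the residue
ring, graded by `G ⧸ N`: if the idempotent of `B` vanished on the centralizer of `Q`, every product
of its components with trivial degree would lie in the radical of the centre of the algebra of `N`,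
and the idempotent would be nilpotent.
-/

set_option linter.unusedSectionVars false

namespace Cfsg.Agent.BlocksDefect

open BlocksCore MonoidAlgebra

variable {G : Type*} [Group G] [Fintype G] {p : ℕ} {M : Ideal AlgInt}
  {N : Subgroup G} [hN : N.Normal] [Fintype N]

/-- The part of a function on a coset of `N`. -/
noncomputable def cosetPart (q : G ⧸ N) (a : G → ℂ) : G → ℂ :=
  {x : G | (QuotientGroup.mk x : G ⧸ N) = q}.indicator a

theorem cosetPart_of_eq {q : G ⧸ N} (a : G → ℂ) {x : G} (h : (QuotientGroup.mk x : G ⧸ N) = q) :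
    cosetPart q a x = a x :=
  Set.indicator_of_mem (show x ∈ {x : G | (QuotientGroup.mk x : G ⧸ N) = q} from h) _

theorem cosetPart_of_ne {q : G ⧸ N} (a : G → ℂ) {x : G} (h : (QuotientGroup.mk x : G ⧸ N) ≠ q) :
    cosetPart q a x = 0 :=
  Set.indicator_of_notMem (show x ∉ {x : G | (QuotientGroup.mk x : G ⧸ N) = q} from h) _

theorem conv_cosetPart {e : G → ℂ} (he : ∀ y, y ∉ N → e y = 0) (q : G ⧸ N) (a : G → ℂ) :
    conv e (cosetPart q a) = cosetPart q (conv e a) := by
  funext x
  have hmk : ∀ y ∈ N, (QuotientGroup.mk (y⁻¹ * x) : G ⧸ N) = QuotientGroup.mk x := fun y hy => by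
    rw [QuotientGroup.mk_mul, (QuotientGroup.eq_one_iff _).mpr (N.inv_mem hy), one_mul]
  by_cases hx : (QuotientGroup.mk x : G ⧸ N) = q
  · rw [cosetPart_of_eq _ hx, conv_apply, conv_apply]
    refine Finset.sum_congr rfl fun y _ => ?_
    by_cases hy : y ∈ N
    · rw [cosetPart_of_eq _ ((hmk y hy).trans hx)]
    · rw [he y hy, zero_mul, zero_mul]
  · rw [cosetPart_of_ne _ hx, conv_apply]
    refine Finset.sum_eq_zero fun y _ => ?_
    by_cases hy : y ∈ N
    · rw [cosetPart_of_ne _ (fun h => hx ((hmk y hy).symm.trans h)), mul_zero]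
    · rw [he y hy, zero_mul]

/-- Invariance under conjugation by a subgroup passes to convolutions. -/
theorem conv_conj_inv {a b : G → ℂ} {u : G} (ha : ∀ y, a (u * y * u⁻¹) = a y)
    (hb : ∀ y, b (u * y * u⁻¹) = b y) (x : G) : conv a b (u * x * u⁻¹) = conv a b x := by
  rw [conv_apply, conv_apply]
  refine (Fintype.sum_equiv (MulAut.conj u).toEquiv _ _ fun y => ?_).symm
  simp only [MulEquiv.toEquiv_eq_coe, EquivLike.coe_coe, MulAut.conj_apply]
  rw [ha, show (u * y * u⁻¹)⁻¹ * (u * x * u⁻¹) = u * (y⁻¹ * x) * u⁻¹ by group, hb]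

theorem res_classInd_one : res N (classInd (1 : G)) = classInd (1 : N) := by
  funext n
  by_cases hn : n = 1
  · subst hn
    rw [res, OneMemClass.coe_one, classInd_apply_of_isConj (IsConj.refl (1 : G)),
      classInd_apply_of_isConj (IsConj.refl (1 : N))]
  · rw [res, classInd_apply_of_not_isConj, classInd_apply_of_not_isConj] <;>
      · intro hc
        first
          | exact hn (Subtype.ext (isConj_one_right.mp hc))
          | exact hn (isConj_one_right.mp hc)

theorem sameBlock_conjIrr [M.IsPrime] {θ η : IrrCharacter N} (g : G)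
    (h : SameBlock M (θ : N → ℂ) (η : N → ℂ)) :
    SameBlock M (conjIrr g θ : N → ℂ) (conjIrr g η : N → ℂ) := by
  refine (sameBlock_iff_omega _ _).mpr fun a ha => ?_
  have hc : IsIntClassFun M (conjFun g⁻¹ a) := ⟨fun x y => by
    simp only [conjFun]
    rw [← ha.1 ⟨g⁻¹ * x * g⁻¹⁻¹, hN.conj_mem x x.2 g⁻¹⟩ ⟨g⁻¹ * y * g⁻¹⁻¹, hN.conj_mem y y.2 g⁻¹⟩]
    congr 1
    exact Subtype.ext (by simp [mul_assoc]), fun x => ha.2 _⟩
  have := omega_sub_memLocalIdeal h hc
  rwa [omega_conjFun, omega_conjFun, inv_inv] at this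

variable [Fact p.Prime]

/-- If a central character of `b` is a unit on the part in `N` of a product, the first factor is a
unit at some point centralizing the defect group of `b`. -/
theorem exists_unit_of_omega_conv (hM : IsPModular p M) {b : Set (IrrCharacter N)}
    (hb : IsPBlock M b) {Q : Subgroup G} (hQN : Q ≤ N)
    (hQ : IsDefectGroup p M b (Q.subgroupOf N)) {θ : IrrCharacter N} (hθ : θ ∈ b) {a v : G → ℂ}
    (ha : ∀ x, MemLocalRing M (a x)) (hv : ∀ x, MemLocalRing M (v x))
    (han : ∀ n ∈ N, ∀ x, a (n * x * n⁻¹) = a x) (hvn : ∀ n ∈ N, ∀ x, v (n * x * n⁻¹) = v x)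
    (hu : ¬ MemLocalIdeal M (omega (θ : N → ℂ) (res N (conv a v)))) :
    ∃ y ∈ Subgroup.centralizer (Q : Set G), ¬ MemLocalIdeal M (a y) := by
  have := isPrime hM
  have hf : IsIntClassFun M (res N (conv a v)) := by
    refine ⟨fun x y => ?_, fun x => ?_⟩
    · exact conv_conj_inv (han y y.2) (hvn y y.2) (x : G)
    · rw [res, conv_apply]
      exact memLocalRing_sum fun y _ => (localRing M).mul_mem (ha y) (hv _)
  obtain ⟨n, hn1, hn2⟩ := exists_unit_class hM θ hf hu
  obtain ⟨R, hR⟩ := exists_isSylowCent p n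
  obtain ⟨y, hy, hyQ⟩ := exists_isConj_mem_centralizer_of_subConj
    (defectGroup_subConj_of_centralChar hM hb hQ hθ hR hn2) hR.mem_centralizer
  have hyG : (y : G) ∈ Subgroup.centralizer (Q : Set G) := by
    rw [Subgroup.mem_centralizer_iff] at hyQ ⊢
    intro u hu
    exact congrArg Subtype.val (hyQ ⟨u, hQN hu⟩ hu)
  rw [← classFun_eq_of_isConj hf.1 hy, res, conv_apply] at hn1
  have hQp : IsPGroup p Q :=
    (isPGroup_of_isDefectGroup hQ).of_equiv (Subgroup.subgroupOfEquivOfLe hQN)
  obtain ⟨z, hz, hz1, -⟩ := exists_mem_centralizer_of_convSum hM hQp a v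
    (fun u hu => han u (hQN hu)) (fun u hu => hvn u (hQN hu)) ha hv hyG hn1
  exact ⟨z, hz, hz1⟩

section Nilpotent

variable [M.IsPrime]

theorem wsum_toAlg (w : G → Res M) (a : G → ℂ) :
    wsum w (toAlg M a) = ∑ x, red M (a x) * w x := by
  rw [toAlg, map_sum]
  exact Finset.sum_congr rfl fun x _ => wsum_smul_of _ _ _

theorem memLocalIdeal_of_toAlg_eq_zero {a : G → ℂ} (ha : ∀ x, MemLocalRing M (a x))
    (h : toAlg M a = 0) (x : G) : MemLocalIdeal M (a x) := by
  classical
  have h1 := wsum_toAlg (M := M) (fun y => if y = x then 1 else 0) a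
  rw [h, map_zero, Finset.sum_eq_single x (fun y _ hy => by rw [if_neg hy, mul_zero])
    (fun hx => absurd (Finset.mem_univ x) hx), if_pos rfl, mul_one] at h1
  have h2 : red M (a x) = red M 0 := by rw [← h1, red_eq_zero memLocalIdeal_zero]
  simpa using (red_eq_iff (ha x) (localRing M).zero_mem).mp h2

theorem toAlg_congr {a b : G → ℂ} (ha : ∀ x, MemLocalRing M (a x))
    (hb : ∀ x, MemLocalRing M (b x)) (h : ∀ x, MemLocalIdeal M (a x - b x)) :
    toAlg M a = toAlg M b :=
  Finset.sum_congr rfl fun x _ => by rw [(red_eq_iff (ha x) (hb x)).mpr (h x)]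

theorem sum_toAlg_cosetPart [Fintype (G ⧸ N)] (a : G → ℂ) :
    ∑ q : G ⧸ N, toAlg M (cosetPart q a) = toAlg M a := by
  classical
  simp only [toAlg]
  rw [Finset.sum_comm]
  refine Finset.sum_congr rfl fun x _ => ?_
  rw [Fintype.sum_eq_single (QuotientGroup.mk x : G ⧸ N) fun q hq => ?_, cosetPart_of_eq _ rfl]
  rw [cosetPart_of_ne _ (Ne.symm hq), red_eq_zero memLocalIdeal_zero, zero_smul]

/-- The image of an integral class function of `N` all whose central characters are small. -/
def IsSmallElem (N : Subgroup G) [Fintype N] (a : MonoidAlgebra (Res M) G) : Prop :=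
  ∃ f : G → ℂ, (∀ x, x ∉ N → f x = 0) ∧ IsIntClassFun M (res N f) ∧
    (∀ η : IrrCharacter N, MemLocalIdeal M (omega (η : N → ℂ) (res N f))) ∧ toAlg M f = a

theorem memLocalRing_of_res {f : G → ℂ} (hs : ∀ x, x ∉ N → f x = 0)
    (hf : IsIntClassFun M (res N f)) (x : G) : MemLocalRing M (f x) := by
  by_cases hx : x ∈ N
  · exact hf.2 ⟨x, hx⟩
  · rw [hs x hx]; exact (localRing M).zero_mem

/-- Lifts of a product of small elements with prescribed vanishing central characters. -/
theorem exists_lift_prod : ∀ (l : List (MonoidAlgebra (Res M) G)) (e : List (IrrCharacter N)),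
    (∀ a ∈ l, IsSmallElem N a) → e.length ≤ l.length →
    ∃ F : G → ℂ, (∀ x, x ∉ N → F x = 0) ∧ IsIntClassFun M (res N F) ∧ toAlg M F = l.prod ∧
      ∀ η ∈ e, omega (η : N → ℂ) (res N F) = 0
  | [], e, _, he => by
    have he' : e = [] := List.eq_nil_of_length_eq_zero (Nat.le_zero.mp he)
    subst he'
    refine ⟨classInd 1, fun x hx => classInd_apply_of_not_isConj fun hc => hx ?_,
      isIntClassFun_res N (isIntClassFun_classInd 1), toAlg_classInd_one, by simp⟩
    rw [isConj_one_right.mp hc]
    exact N.one_mem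
  | a :: l, e, hl, he => by
    obtain ⟨f, hfs, hfI, hfω, hfa⟩ := hl a List.mem_cons_self
    obtain ⟨F, hFs, hFI, hFl, hFω⟩ := exists_lift_prod l e.tail
      (fun b hb => hl b (List.mem_cons_of_mem _ hb))
      (by simp only [List.length_tail, List.length_cons] at he ⊢; omega)
    set c : ℂ := e.head?.elim 0 fun η => omega (η : N → ℂ) (res N f) with hc
    have hcM : MemLocalIdeal M c := by
      cases h : e.head? with
      | none => rw [hc, h]; exact memLocalIdeal_zero
      | some η => rw [hc, h]; exact hfω η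
    have hcR : MemLocalRing M c := memLocalRing_of_memLocalIdeal hcM
    set f' : G → ℂ := f + (-c) • classInd 1 with hf'
    have hf's : ∀ x, x ∉ N → f' x = 0 := fun x hx => by
      have h1 : classInd (1 : G) x = 0 := classInd_apply_of_not_isConj fun h => hx (by
        rw [isConj_one_right.mp h]; exact N.one_mem)
      simp [hf', hfs x hx, h1]
    have hres : res N f' = res N f + (-c) • classInd (1 : N) := by
      rw [← res_classInd_one]; rfl
    have hf'I : IsIntClassFun M (res N f') :=
      hres ▸ isIntClassFun_add hfI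
        (isIntClassFun_smul (isIntClassFun_classInd 1) ((localRing M).neg_mem hcR))
    have hf'R := memLocalRing_of_res hf's hf'I
    have hFR := memLocalRing_of_res hFs hFI
    have hω : ∀ η : IrrCharacter N, omega (η : N → ℂ) (res N (conv f' F)) =
        (omega (η : N → ℂ) (res N f) - c) * omega (η : N → ℂ) (res N F) := fun η => by
      rw [res_conv hf's, omega_conv η hf'I.1 hFI.1, hres, omega_add, omega_smul,
        omega_classInd_one, mul_one, sub_eq_add_neg]
    refine ⟨conv f' F, conv_supported hf's hFs, res_conv hf's ▸ isIntClassFun_conv hf'I hFI,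
      ?_, fun η hη => ?_⟩
    · rw [toAlg_conv hf'R hFR, hFl, List.prod_cons, ← hfa]
      congr 1
      refine toAlg_congr hf'R (memLocalRing_of_res hfs hfI) fun x => ?_
      simp only [hf', Pi.add_apply, Pi.smul_apply, add_sub_cancel_left]
      exact memLocalIdeal_mul_right (memLocalIdeal_neg hcM) ((isIntClassFun_classInd 1).2 x)
    · rw [hω]
      cases e with
      | nil => simp at hη
      | cons x xs =>
        rcases List.mem_cons.mp hη with rfl | hη
        · simp [hc]
        · rw [hFω η hη, mul_zero]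

/-- A product of as many small elements as `N` has irreducible characters is zero. -/
theorem prod_eq_zero_of_small {l : List (MonoidAlgebra (Res M) G)}
    (hl : ∀ a ∈ l, IsSmallElem N a) (hlen : l.length = Nat.card (IrrCharacter N)) :
    l.prod = 0 := by
  classical
  have := finite_irr (G := N)
  have := Fintype.ofFinite (IrrCharacter N)
  obtain ⟨F, hFs, hFI, hFl, hFω⟩ := exists_lift_prod l (Finset.univ : Finset (IrrCharacter N)).toList
    hl (by rw [Finset.length_toList, Finset.card_univ, hlen, Nat.card_eq_fintype_card])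
  have h0 : res N F = 0 := eq_of_omega_eq hFI.1 (fun _ _ => rfl) fun η => by
    rw [hFω η (by simp), omega_zero]
  rw [← hFl, toAlg]
  refine Finset.sum_eq_zero fun x _ => ?_
  by_cases hx : x ∈ N
  · rw [show F x = res N F ⟨x, hx⟩ from rfl, h0, Pi.zero_apply, red_eq_zero memLocalIdeal_zero,
      zero_smul]
  · rw [hFs x hx, red_eq_zero memLocalIdeal_zero, zero_smul]

/-- A word with `k + 1` suffixes of the same degree ends in `k` segments of trivial degree. -/
theorem exists_segments {K R : Type*} [Group K] [DecidableEq K] [Monoid R] (A : K → R)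
    (S : R → Prop) (hS : ∀ t : List K, t ≠ [] → t.prod = 1 → S (t.map A).prod) (c : K) :
    ∀ (t : List K) (k : ℕ), k + 1 ≤ (t.tails.map List.prod).count c →
      ∃ (t₁ t₂ : List K) (l : List R) (Y : R), t = t₁ ++ t₂ ∧ t₂.prod = c ∧ l.length = k ∧
        (∀ a ∈ l, S a) ∧ (t₂.map A).prod = l.prod * Y := by
  intro t
  induction t with
  | nil =>
    intro k hk
    simp only [List.tails, List.map_cons, List.map_nil, List.prod_nil, List.count_cons,
      List.count_nil, beq_iff_eq] at hk
    split_ifs at hk with h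
    · exact ⟨[], [], [], 1, rfl, by simpa using h, by simp; omega, by simp, by simp⟩
    · omega
  | cons q t ih =>
    intro k hk
    by_cases hk' : k + 1 ≤ (t.tails.map List.prod).count c
    · obtain ⟨t₁, t₂, l, Y, e, hc, hl, hlS, hY⟩ := ih k hk'
      exact ⟨q :: t₁, t₂, l, Y, by rw [e]; rfl, hc, hl, hlS, hY⟩
    simp only [List.tails_cons, List.map_cons, List.count_cons, beq_iff_eq] at hk
    have hqt : (q :: t).prod = c := by
      by_contra hne
      rw [if_neg hne] at hk
      omega
    rw [if_pos hqt] at hk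
    rcases k with _ | k
    · exact ⟨[], q :: t, [], _, rfl, hqt, rfl, by simp, (one_mul _).symm⟩
    obtain ⟨t₁, t₂, l, Y, e, hc, hl, hlS, hY⟩ := ih k (by omega)
    have hseg : (q :: t₁).prod = 1 := by
      have : (q :: t₁).prod * c = c := by
        rw [← hc, ← List.prod_append, List.cons_append, ← e, hqt, hc]
      exact mul_eq_right.mp this
    refine ⟨[], q :: t, ((q :: t₁).map A).prod :: l, Y, rfl, hqt, by simp [hl], ?_, ?_⟩
    · intro a ha
      rcases List.mem_cons.mp ha with rfl | ha
      · exact hS _ (by simp) hseg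
      · exact hlS a ha
    · rw [e, List.prod_cons, mul_assoc, ← hY, ← List.prod_append, ← List.map_append,
        List.cons_append]

/-- In a graded monoid with zero, long words vanish if the trivial degree part is nilpotent. -/
theorem word_eq_zero {K R : Type*} [Group K] [Fintype K] [MonoidWithZero R] (A : K → R)
    (S : R → Prop) (hS : ∀ t : List K, t ≠ [] → t.prod = 1 → S (t.map A).prod) {r : ℕ}
    (hnil : ∀ l : List R, (∀ a ∈ l, S a) → l.length = r → l.prod = 0) {t : List K}
    (ht : t.length = Fintype.card K * r) : (t.map A).prod = 0 := by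
  classical
  obtain ⟨c, hc⟩ : ∃ c, r + 1 ≤ (t.tails.map List.prod).count c := by
    by_contra hno
    push Not at hno
    have h1 := Finset.sum_le_card_nsmul Finset.univ
      (fun c => (t.tails.map List.prod).count c) r fun c _ => by have := hno c; omega
    have h2 : ∑ c : K, (t.tails.map List.prod).count c = t.length + 1 := by
      have := Multiset.sum_count_eq_card (s := (Finset.univ : Finset K))
        (m := ((t.tails.map List.prod : List K) : Multiset K)) (fun x _ => Finset.mem_univ x)
      simpa using this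
    rw [h2, Finset.card_univ, smul_eq_mul] at h1
    omega
  obtain ⟨t₁, t₂, l, Y, e, -, hl, hlS, hY⟩ := exists_segments A S hS c t r hc
  rw [e, List.map_append, List.prod_append, hY, hnil l hlS hl, zero_mul, mul_zero]

/-- An idempotent with nilpotent trivial degree part is zero. -/
theorem eq_zero_of_idem {K R : Type*} [Group K] [Fintype K] [Semiring R] (A : K → R)
    {h : R} (hh : h * h = h) (hA : ∑ q, A q = h) (L : ℕ)
    (hw : ∀ t : List K, t.length = L → (t.map A).prod = 0) : h = 0 := by
  have key : ∀ m ≤ L, ∀ t : List K, t.length + m = L → (t.map A).prod * h ^ m = 0 := by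
    intro m
    induction m with
    | zero => exact fun _ t ht => by rw [pow_zero, mul_one]; exact hw t (by simpa using ht)
    | succ m ih =>
      intro hm t ht
      rw [pow_succ', ← mul_assoc]
      conv_lhs => rw [show (t.map A).prod * h = ∑ q, (t.map A).prod * A q by
        rw [← Finset.mul_sum, hA]]
      rw [Finset.sum_mul]
      refine Finset.sum_eq_zero fun q _ => ?_
      have := ih (by omega) (t ++ [q]) (by simp; omega)
      simpa using this
  have h0 := key L le_rfl [] (by simp)
  rw [List.map_nil, List.prod_nil, one_mul] at h0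
  rcases L with _ | L
  · rw [pow_zero] at h0
    exact eq_zero_of_zero_eq_one h0.symm h
  · rwa [IsIdempotentElem.pow_succ_eq L hh] at h0

end Nilpotent

/-- The idempotent of a covering block absorbs that of the orbit. -/
theorem conv_orbit_blockCoeff (hM : IsPModular p M) {b : Set (IrrCharacter N)}
    (hb : IsPBlock M b) {B : Set (IrrCharacter G)} (hB : IsPBlock M B)
    (hcov : ∃ χ ∈ B, ∃ θ ∈ b, IsConstituent χ θ) :
    conv (extFun (blockCoeff (orbitSet b))) (blockCoeff B) = blockCoeff B := by
  classical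
  have := isPrime hM
  have he := isIntClassFun_extFun_orbitSet (G := G) hM hb
  obtain ⟨χ₀, hχ₀, θ₀, hθ₀, hc₀⟩ := hcov
  have h0 : θ₀ ∈ orbitSet (G := G) b :=
    ⟨1, by rwa [show conjIrr (1 : G) θ₀ = θ₀ from Subtype.ext (conjFun_one _)]⟩
  refine eq_of_omega_eq (isClassFunction_conv he.1 (isClassFunction_blockCoeff B))
    (isClassFunction_blockCoeff B) fun χ => ?_
  rw [omega_conv χ he.1 (isClassFunction_blockCoeff B), omega_blockCoeff]
  by_cases hχ : χ ∈ B
  · obtain ⟨θ, hθ⟩ := exists_constituent_irr (N := N) χ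
    rw [omega_extFun_orbitSet hθ, Set.indicator_of_mem
      ((orbitSet_iff_of_sameBlock hM hb (sameBlock_of_mem hB hχ₀ hχ) hc₀ hθ).mp h0),
      Pi.one_apply, one_mul]
  · rw [Set.indicator_of_notMem hχ, mul_zero]

/-- A covering block has a unit idempotent coefficient centralizing the defect group of the
covered block. -/
theorem exists_coeff_centralizer_of_covers (hM : IsPModular p M) {b : Set (IrrCharacter N)}
    (hb : IsPBlock M b) {Q : Subgroup G} (hQN : Q ≤ N)
    (hQ : IsDefectGroup p M b (Q.subgroupOf N)) {B : Set (IrrCharacter G)} (hB : IsPBlock M B)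
    (hcov : ∃ χ ∈ B, ∃ θ ∈ b, IsConstituent χ θ) :
    ∃ z ∈ Subgroup.centralizer (Q : Set G), ¬ MemLocalIdeal M (blockCoeff B z) := by
  classical
  have := isPrime hM
  by_contra hno
  push Not at hno
  have : Fintype (G ⧸ N) := Fintype.ofFinite _
  set eB := blockCoeff B with heBdef
  have heB : IsIntClassFun M eB := isIntClassFun_blockCoeff hM hB
  set eO := extFun (blockCoeff (orbitSet (G := G) b)) with heOdef
  have heO : IsIntClassFun M eO := isIntClassFun_extFun_orbitSet hM hb
  have heOs : ∀ x, x ∉ N → eO x = 0 := fun x hx => extFun_notMem _ hx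
  have habs : conv eO eB = eB := conv_orbit_blockCoeff hM hb hB hcov
  have hcR : ∀ q x, MemLocalRing M (cosetPart (N := N) q eB x) := fun q x => by
    by_cases hx : (QuotientGroup.mk x : G ⧸ N) = q
    · rw [cosetPart_of_eq _ hx]; exact heB.2 x
    · rw [cosetPart_of_ne _ hx]; exact (localRing M).zero_mem
  have hcN : ∀ q, ∀ n ∈ N, ∀ x, cosetPart (N := N) q eB (n * x * n⁻¹) = cosetPart q eB x := by
    intro q n hn x
    have e : (QuotientGroup.mk (n * x * n⁻¹) : G ⧸ N) = QuotientGroup.mk x := by
      rw [QuotientGroup.mk_mul, QuotientGroup.mk_mul, QuotientGroup.mk_inv,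
        (QuotientGroup.eq_one_iff n).mpr hn, inv_one, one_mul, mul_one]
    by_cases hx : (QuotientGroup.mk x : G ⧸ N) = q
    · rw [cosetPart_of_eq _ hx, cosetPart_of_eq _ (e.trans hx), heB.1 x n]
    · rw [cosetPart_of_ne _ hx, cosetPart_of_ne _ (fun h => hx (e.symm.trans h))]
  set A : G ⧸ N → MonoidAlgebra (Res M) G := fun q => toAlg M (cosetPart q eB) with hA
  have hwords : ∀ t : List (G ⧸ N), ∃ v : G → ℂ, (∀ x, MemLocalRing M (v x)) ∧
      (∀ n ∈ N, ∀ x, v (n * x * n⁻¹) = v x) ∧
      (∀ x, (QuotientGroup.mk x : G ⧸ N) ≠ t.prod → v x = 0) ∧ toAlg M v = (t.map A).prod := by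
    intro t
    induction t with
    | nil =>
      refine ⟨classInd 1, (isIntClassFun_classInd 1).2,
        fun n _ x => isClassFunction_classInd 1 x n,
        fun x hx => classInd_apply_of_not_isConj fun hc => hx (by
          rw [isConj_one_right.mp hc]; rfl), toAlg_classInd_one⟩
    | cons q t ih =>
      obtain ⟨v, hvR, hvN, hvs, hv⟩ := ih
      refine ⟨conv (cosetPart q eB) v, fun x => ?_,
        fun n hn => conv_conj_inv (hcN q n hn) (hvN n hn), fun x hx => ?_, ?_⟩
      · rw [conv_apply]
        exact memLocalRing_sum fun y _ => (localRing M).mul_mem (hcR q y) (hvR _)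
      · rw [conv_apply]
        refine Finset.sum_eq_zero fun y _ => ?_
        by_cases hy : (QuotientGroup.mk y : G ⧸ N) = q
        · rw [hvs (y⁻¹ * x) ?_, mul_zero]
          intro h
          refine hx ?_
          rw [List.prod_cons, ← h, ← hy, ← QuotientGroup.mk_mul, mul_inv_cancel_left]
        · rw [cosetPart_of_ne _ hy, zero_mul]
      · rw [toAlg_conv (hcR q) hvR, hv, List.map_cons, List.prod_cons]
  have hsmall : ∀ t : List (G ⧸ N), t ≠ [] → t.prod = 1 → IsSmallElem N (t.map A).prod := by
    intro t ht ht1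
    obtain ⟨q, t, rfl⟩ := List.exists_cons_of_ne_nil ht
    obtain ⟨v, hvR, hvN, hvs, hv⟩ := hwords t
    set f := conv (cosetPart q eB) v with hf
    have hfs : ∀ x, x ∉ N → f x = 0 := fun x hx => by
      rw [hf, conv_apply]
      refine Finset.sum_eq_zero fun y _ => ?_
      by_cases hy : (QuotientGroup.mk y : G ⧸ N) = q
      · rw [hvs (y⁻¹ * x) ?_, mul_zero]
        intro h
        refine hx ((QuotientGroup.eq_one_iff x).mp ?_)
        rw [← ht1, List.prod_cons, ← h, ← hy, ← QuotientGroup.mk_mul, mul_inv_cancel_left]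
      · rw [cosetPart_of_ne _ hy, zero_mul]
    have hfI : IsIntClassFun M (res N f) := by
      refine ⟨fun x y => conv_conj_inv (hcN q y y.2) (hvN y y.2) (x : G), fun x => ?_⟩
      rw [res, hf, conv_apply]
      exact memLocalRing_sum fun z _ => (localRing M).mul_mem (hcR q z) (hvR _)
    refine ⟨f, hfs, hfI, fun η => ?_, by
      rw [hf, toAlg_conv (hcR q) hvR, hv, List.map_cons, List.prod_cons]⟩
    have hef : conv eO f = f := by
      rw [hf, ← conv_assoc, conv_cosetPart heOs, habs]
    have hmul : omega (η : N → ℂ) (res N f) =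
        (orbitSet (G := G) b).indicator 1 η * omega (η : N → ℂ) (res N f) := by
      conv_lhs => rw [← hef]
      rw [res_conv heOs, omega_conv η (isClassFunction_res N heO.1) hfI.1, heOdef, res_extFun,
        omega_blockCoeff]
    by_cases hη : η ∈ orbitSet (G := G) b
    swap
    · rw [hmul, Set.indicator_of_notMem hη, zero_mul]
      exact memLocalIdeal_zero
    obtain ⟨g, hg⟩ := hη
    by_contra hu
    -- move everything to the block `b`
    set a' : G → ℂ := fun x => cosetPart q eB (g * x * g⁻¹) with ha'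
    set v' : G → ℂ := fun x => v (g * x * g⁻¹) with hv'
    have hconj : conjFun g (res N f) = res N (conv a' v') := by
      funext n
      simp only [conjFun, res, hf, conv_apply, ha', hv']
      refine (Fintype.sum_equiv (MulAut.conj g).toEquiv _ _ fun y => ?_).symm
      simp only [MulEquiv.toEquiv_eq_coe, EquivLike.coe_coe, MulAut.conj_apply]
      rw [show g * (y⁻¹ * n) * g⁻¹ = (g * y * g⁻¹)⁻¹ * (g * (n : G) * g⁻¹) by group]
    have hη' : omega (η : N → ℂ) (res N f) =
        omega (conjIrr g η : N → ℂ) (res N (conv a' v')) := by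
      rw [← hconj, omega_conjFun, conjIrr_inv_self]
    rw [hη'] at hu
    have hinv : ∀ w : G → ℂ, (∀ n ∈ N, ∀ x, w (n * x * n⁻¹) = w x) → ∀ n ∈ N, ∀ x,
        w (g * (n * x * n⁻¹) * g⁻¹) = w (g * x * g⁻¹) := fun w hw n hn x => by
      rw [← hw (g * n * g⁻¹) (hN.conj_mem n hn g) (g * x * g⁻¹)]
      congr 1
      group
    obtain ⟨y, hy, hy1⟩ := exists_unit_of_omega_conv hM hb hQN hQ hg (a := a') (v := v')
      (fun x => hcR q _) (fun x => hvR _) (hinv _ (hcN q)) (hinv _ hvN) hu
    refine hy1 ?_
    show MemLocalIdeal M (cosetPart q eB (g * y * g⁻¹))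
    by_cases hq : (QuotientGroup.mk (g * y * g⁻¹) : G ⧸ N) = q
    · rw [cosetPart_of_eq _ hq, heB.1 y g]
      exact hno y hy
    · rw [cosetPart_of_ne _ hq]
      exact memLocalIdeal_zero
  have hidem : toAlg M eB * toAlg M eB = toAlg M eB := by
    rw [← toAlg_conv heB.2 heB.2, heBdef, conv_blockCoeff_self]
  have hzero : toAlg M eB = 0 :=
    eq_zero_of_idem A hidem (sum_toAlg_cosetPart eB) _ fun t ht =>
      word_eq_zero A (IsSmallElem N) hsmall (fun l hl hlen => prod_eq_zero_of_small hl hlen) ht
  obtain ⟨g, hg⟩ := exists_isDefectClass hM hB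
  exact hg.2.1 (memLocalIdeal_of_toAlg_eq_zero heB.2 hzero g)

/-- A unit coefficient of the idempotent of an orbit comes from a conjugate of the block. -/
theorem exists_conj_unit_of_orbit_unit (hM : IsPModular p M) {b : Set (IrrCharacter N)}
    (hb : IsPBlock M b) {n : N} (hn : ¬ MemLocalIdeal M (blockCoeff (orbitSet (G := G) b) n)) :
    ∃ g : G, ¬ MemLocalIdeal M
      (blockCoeff b ⟨g⁻¹ * n * g⁻¹⁻¹, hN.conj_mem n n.2 g⁻¹⟩) := by
  classical
  have := isPrime hM
  set S : Finset (Set (IrrCharacter N)) :=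
    Finset.univ.image (fun g : G => {θ : IrrCharacter N | conjIrr g θ ∈ b}) with hSdef
  have hdisj : ∀ A ∈ S, ∀ A' ∈ S, ∀ θ, θ ∈ A → θ ∈ A' → A = A' := by
    intro A hA A' hA' θ hθ hθ'
    obtain ⟨g, -, rfl⟩ := Finset.mem_image.mp hA
    obtain ⟨g', -, rfl⟩ := Finset.mem_image.mp hA'
    have key : ∀ g g' : G, ∀ θ' : IrrCharacter N, conjIrr g θ ∈ b → conjIrr g' θ ∈ b →
        conjIrr g θ' ∈ b → conjIrr g' θ' ∈ b := by
      intro g g' θ' h1 h2 h3
      have h := sameBlock_conjIrr g⁻¹ (sameBlock_of_mem hb h1 h3)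
      rw [conjIrr_inv_self, conjIrr_inv_self] at h
      rw [isPBlock_eq_blockOf hb h2]
      exact sameBlock_conjIrr g' h
    ext θ'
    exact ⟨key g g' θ' hθ hθ', key g' g θ' hθ' hθ⟩
  have hsum : blockCoeff (orbitSet (G := G) b) = ∑ A ∈ S, blockCoeff A := by
    refine eq_of_omega_eq (isClassFunction_blockCoeff _) (fun x h => ?_) fun θ => ?_
    · simp only [Finset.sum_apply]
      exact Finset.sum_congr rfl fun A _ => isClassFunction_blockCoeff A x h
    rw [omega_sum, omega_blockCoeff]
    simp only [omega_blockCoeff]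
    by_cases h : θ ∈ orbitSet (G := G) b
    · obtain ⟨g, hg⟩ := h
      have hmem : {η : IrrCharacter N | conjIrr g η ∈ b} ∈ S :=
        Finset.mem_image.mpr ⟨g, Finset.mem_univ g, rfl⟩
      rw [Set.indicator_of_mem (show θ ∈ orbitSet (G := G) b from ⟨g, hg⟩),
        Finset.sum_eq_single_of_mem _ hmem fun A hA hne =>
        Set.indicator_of_notMem (fun hθ => hne (hdisj A hA _ hmem θ hθ hg)) _,
        Set.indicator_of_mem (show θ ∈ {η : IrrCharacter N | conjIrr g η ∈ b} from hg)]
    · rw [Set.indicator_of_notMem h, Finset.sum_eq_zero]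
      intro A hA
      obtain ⟨g, -, rfl⟩ := Finset.mem_image.mp hA
      exact Set.indicator_of_notMem
        (show θ ∉ {η : IrrCharacter N | conjIrr g η ∈ b} from fun hθ => h ⟨g, hθ⟩) _
  obtain ⟨A, hA, hAu⟩ : ∃ A ∈ S, ¬ MemLocalIdeal M (blockCoeff A n) := by
    by_contra hno
    push Not at hno
    refine hn ?_
    rw [hsum, Finset.sum_apply]
    exact memLocalIdeal_sum hno
  obtain ⟨g, -, rfl⟩ := Finset.mem_image.mp hA
  have hA' : blockCoeff {θ : IrrCharacter N | conjIrr g θ ∈ b} = conjFun g⁻¹ (blockCoeff b) := by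
    refine eq_of_omega_eq (isClassFunction_blockCoeff _) (fun x z => ?_) fun θ => ?_
    · simp only [conjFun]
      rw [← isClassFunction_blockCoeff b ⟨g⁻¹ * x * g⁻¹⁻¹, hN.conj_mem x x.2 g⁻¹⟩
        ⟨g⁻¹ * z * g⁻¹⁻¹, hN.conj_mem z z.2 g⁻¹⟩]
      congr 1
      exact Subtype.ext (by simp [mul_assoc])
    rw [omega_conjFun, inv_inv, omega_blockCoeff, omega_blockCoeff]
    exact Set.indicator_eq_indicator Iff.rfl rfl
  rw [hA'] at hAu
  exact ⟨g, hAu⟩

/-- A defect group of a covering block meets `N` in a group no larger than the defect group of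
the covered block. -/
theorem natCard_inf_le_of_covers (hM : IsPModular p M) {b : Set (IrrCharacter N)}
    (hb : IsPBlock M b) {Q : Subgroup G} (hQN : Q ≤ N)
    (hQ : IsDefectGroup p M b (Q.subgroupOf N)) {B : Set (IrrCharacter G)} (hB : IsPBlock M B)
    (hcov : ∃ χ ∈ B, ∃ θ ∈ b, IsConstituent χ θ) {P : Subgroup G}
    (hP : IsDefectGroup p M B P) : Nat.card (P ⊓ N : Subgroup G) ≤ Nat.card Q := by
  classical
  have := isPrime hM
  have heB := isIntClassFun_blockCoeff hM hB
  have heO := isIntClassFun_extFun_orbitSet (G := G) hM hb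
  obtain ⟨g₀, hg₀, hS⟩ := isDefectGroup_iff.mp hP
  have hu := hg₀.2.1
  rw [← conv_orbit_blockCoeff hM hb hB hcov, conv_apply] at hu
  obtain ⟨y, hy, hy1, -⟩ := exists_mem_centralizer_of_convSum hM hS.isPGroup
    (extFun (blockCoeff (orbitSet (G := G) b))) (blockCoeff B)
    (fun u _ z => heO.1 z u) (fun u _ z => heB.1 z u) heO.2 heB.2 hS.mem_centralizer hu
  have hyN : y ∈ N := by
    by_contra hn
    exact hy1 (by rw [extFun_notMem _ hn]; exact memLocalIdeal_zero)
  rw [show y = ((⟨y, hyN⟩ : N) : G) from rfl, extFun_coe] at hy1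
  obtain ⟨g, hAu⟩ := exists_conj_unit_of_orbit_unit hM hb hy1
  set R := (P ⊓ N).map (MulAut.conj g⁻¹).toMonoidHom with hRdef
  have hRN : R ≤ N := by
    rintro _ ⟨x, hx, rfl⟩
    exact hN.conj_mem x hx.2 g⁻¹
  have hRp : IsPGroup p R := (hS.isPGroup.to_le inf_le_left).map _
  have hsc := subConj_defectGroup_of_coeff hM hb hQ (Q := R.subgroupOf N)
    (hRp.of_equiv (Subgroup.subgroupOfEquivOfLe hRN).symm)
    (h := ⟨g⁻¹ * y * g⁻¹⁻¹, hN.conj_mem y hyN g⁻¹⟩) (by
      rw [Subgroup.mem_centralizer_iff]
      intro u hu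
      exact Subtype.ext (Subgroup.mem_centralizer_iff.mp
        (mem_centralizer_map_conj (x := g⁻¹) (Subgroup.centralizer_le inf_le_left hy)) _
          (Subgroup.mem_subgroupOf.mp hu))) hAu
  have hd := hsc.card_dvd
  rw [Nat.card_congr (Subgroup.subgroupOfEquivOfLe hRN).toEquiv,
    Nat.card_congr (Subgroup.subgroupOfEquivOfLe hQN).toEquiv, hRdef, natCard_map_conj] at hd
  exact Nat.le_of_dvd Nat.card_pos hd

/-- A covering block has a defect group meeting `N` in the defect group of the covered block. -/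
theorem exists_defectGroup_inf_eq (hM : IsPModular p M) {b : Set (IrrCharacter N)}
    (hb : IsPBlock M b) {Q : Subgroup G} (hQN : Q ≤ N)
    (hQ : IsDefectGroup p M b (Q.subgroupOf N)) {B : Set (IrrCharacter G)} (hB : IsPBlock M B)
    (hcov : ∃ χ ∈ B, ∃ θ ∈ b, IsConstituent χ θ) :
    ∃ P : Subgroup G, IsDefectGroup p M B P ∧ P ⊓ N = Q := by
  obtain ⟨D, hD⟩ := exists_isDefectGroup hM hB
  obtain ⟨z, hz, hzu⟩ := exists_coeff_centralizer_of_covers hM hb hQN hQ hB hcov
  obtain ⟨x, hx⟩ := subConj_defectGroup_of_coeff hM hB hD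
    ((isPGroup_of_isDefectGroup hQ).of_equiv (Subgroup.subgroupOfEquivOfLe hQN)) hz hzu
  have hP := isDefectGroup_map_conj hM hB hD x⁻¹
  exact ⟨_, hP, (Subgroup.eq_of_le_of_card_ge (le_inf (map_conj_inv_le hx) hQN)
    (natCard_inf_le_of_covers hM hb hQN hQ hB hcov hP)).symm⟩

end Cfsg.Agent.BlocksDefect
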