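import Cfsg.Agent.Lib.BlocksDefect.Pairing
import Mathlib.LinearAlgebra.Matrix.Rank

/-!
# Counting blocks of large defect by `p`-regular classes
-/

namespace Cfsg.Agent.BlocksDefect

open BlocksCore

variable {G : Type*} [Group G] [Finite G] {p : ℕ} {M : Ideal AlgInt}

/-- A product of local-integral matrices congruent to the identity bounds the outer size by the
inner size. -/
theorem card_le_of_mul_congr_one [M.IsPrime] {ι κ : Type*} [Fintype ι] [Fintype κ]
    [DecidableEq ι] (A : Matrix ι κ ℂ) (L : Matrix κ ι ℂ)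
    (hA : ∀ i c, MemLocalRing M (A i c)) (hL : ∀ c i, MemLocalRing M (L c i))
    (h : ∀ i j, MemLocalIdeal M ((A * L) i j - (1 : Matrix ι ι ℂ) i j)) :
    Fintype.card ι ≤ Fintype.card κ := by
  have hint : ∀ i j, MemLocalRing M ((A * L) i j) := fun i j => by
    rw [Matrix.mul_apply]
    exact memLocalRing_sum fun c _ => (localRing M).mul_mem (hA i c) (hL c j)
  let P : Matrix ι ι (localRing M) := fun i j => ⟨(A * L) i j, hint i j⟩
  let π := Ideal.Quotient.mk (localIdeal M)
  have hπ : π.mapMatrix P = 1 := by
    ext i j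
    rw [RingHom.mapMatrix_apply, Matrix.map_apply, Matrix.one_apply]
    rcases eq_or_ne i j with rfl | hij
    · rw [if_pos rfl, ← map_one π, Ideal.Quotient.eq, mem_localIdeal_iff]
      simpa [P, Matrix.one_apply] using h i i
    · rw [if_neg hij, ← map_zero π, Ideal.Quotient.eq, mem_localIdeal_iff]
      simpa [P, Matrix.one_apply, hij] using h i j
  have hdet : P.det ≠ 0 := fun h0 => by
    have := congrArg π h0
    rw [RingHom.map_det, hπ, Matrix.det_one, map_zero] at this
    exact one_ne_zero this
  have hdet' : (A * L).det ≠ 0 := by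
    have e : A * L = (localRing M).subtype.mapMatrix P := rfl
    rw [e, ← RingHom.map_det]
    exact fun h0 => hdet (Subtype.ext h0)
  calc Fintype.card ι = (A * L).rank :=
        (Matrix.rank_of_isUnit _ ((Matrix.isUnit_iff_isUnit_det _).mpr
          (isUnit_iff_ne_zero.mpr hdet'))).symm
    _ ≤ A.rank := Matrix.rank_mul_le_left A L
    _ ≤ Fintype.card κ := A.rank_le_card_width

variable [Fact p.Prime]

/-- The number of blocks of defect at least `d` is at most the number of `p`-regular classes of
defect at least `d`. -/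
theorem natCard_blocks_le (hM : IsPModular p M) (d : ℕ) :
    Nat.card {B : Set (IrrCharacter G) // IsPBlock M B ∧ d ≤ blockDefect p B} ≤
      Nat.card {C : ConjClasses G // ∃ g : G, ConjClasses.mk g = C ∧ IsPRegular p g ∧
        d ≤ (Nat.card (Subgroup.centralizer ({g} : Set G))).factorization p} := by
  classical
  have := isPrime hM
  have := Fintype.ofFinite G
  have : Finite (ConjClasses G) := Finite.of_surjective _ ConjClasses.mk_surjective
  have := Fintype.ofFinite (ConjClasses G)
  set ι := {B : Set (IrrCharacter G) // IsPBlock M B ∧ d ≤ blockDefect p B}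
  set P : ConjClasses G → Prop := fun C => ∃ g : G, ConjClasses.mk g = C ∧ IsPRegular p g ∧
    d ≤ (Nat.card (Subgroup.centralizer ({g} : Set G))).factorization p with hP
  have := Fintype.ofFinite ι
  choose χ hχ using fun B : ι => isPBlock_nonempty B.2.1
  rw [Nat.card_eq_fintype_card, Nat.card_eq_fintype_card]
  refine card_le_of_mul_congr_one (M := M)
    (Matrix.of fun (B : ι) (C : {C // P C}) => blockCoeff B.1 (Quotient.out C.1))
    (Matrix.of fun C B => centralChar (χ B : G → ℂ) (Quotient.out C.1))
    (fun B C => (isIntClassFun_blockCoeff hM B.2.1).2 _)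
    (fun C B => centralChar_memLocalRing _ _) fun B B' => ?_
  simp only [Matrix.mul_apply, Matrix.of_apply]
  have hone : (1 : Matrix ι ι ℂ) B B' = omega (χ B' : G → ℂ) (blockCoeff B.1) := by
    rw [omega_blockCoeff, Matrix.one_apply]
    by_cases hBB : B = B'
    · subst hBB
      rw [if_pos rfl, Set.indicator_of_mem (hχ B)]
      rfl
    · rw [if_neg hBB, Set.indicator_of_notMem fun hmem => hBB (Subtype.ext
        (isPBlock_eq_of_mem B.2.1 B'.2.1 hmem (hχ B')))]
  rw [hone, omega_eq_sum_classes _ (isIntClassFun_blockCoeff hM B.2.1).1,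
    ← Finset.sum_filter_add_sum_filter_not Finset.univ P, ← sub_sub,
    ← Finset.sum_subtype (p := P) (Finset.univ.filter P) (fun C => by simp)
      (fun C => blockCoeff B.1 (Quotient.out C) * centralChar (χ B' : G → ℂ) (Quotient.out C)),
    sub_self, zero_sub]
  refine memLocalIdeal_neg (memLocalIdeal_sum fun C hC => ?_)
  rw [Finset.mem_filter] at hC
  by_cases hsing : p ∣ orderOf (Quotient.out C)
  · rw [blockCoeff_eq_zero_of_dvd_orderOf hM B.2.1 hsing, zero_mul]
    exact memLocalIdeal_zero
  · refine memLocalIdeal_mul_left ((isIntClassFun_blockCoeff hM B.2.1).2 _) ?_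
    by_contra hu
    obtain ⟨D, hD⟩ := exists_isDefectGroup hM B'.2.1
    obtain ⟨Q, hQ⟩ := exists_isSylowCent p (Quotient.out C)
    have h1 := (defectGroup_subConj_of_centralChar hM B'.2.1 hD (hχ B') hQ hu).card_dvd
    rw [defectGroup_natCard hM B'.2.1 hD, hQ.natCard] at h1
    exact hC.2 ⟨_, Quotient.out_eq C, hsing,
      B'.2.2.trans ((Nat.pow_dvd_pow_iff_le_right hM.1.one_lt).mp h1)⟩

end Cfsg.Agent.BlocksDefect
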