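import Cfsg.Agent.Lib.BlocksDefect.CoveredDefect
import Cfsg.Agent.BC85.Pairs.Transport
import Cfsg.Agent.Lib.BlocksCore.FirstMain
import Cfsg.Prelude.Def_BlockLocal
import Mathlib.GroupTheory.Nilpotent

/-!
# The Harris–Knörr correspondence

The blocks of `H = N(Q)` over the Brauer correspondent `e` of a block `d` of `N` with defect group
`Q` correspond by induction to the blocks of `G` over `d`.  Injectivity comes from lifting a class
function of `H` that is small off the points `z` with `Q` a Sylow subgroup of `C_N(z)`.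
-/

set_option linter.unusedSectionVars false

namespace Cfsg.Agent.BlocksDefect

open BlocksCore

variable {G : Type*} [Group G] [Fintype G] {p : ℕ} [Fact p.Prime] {M : Ideal AlgInt}
  {N : Subgroup G} [hN : N.Normal] [Fintype N] {Q H : Subgroup G}

/-- `Q` centralises `z` and has full `p`-order in `C_N(z)`. -/
def IsFullCentIn (p : ℕ) (N Q : Subgroup G) (z : G) : Prop :=
  z ∈ Subgroup.centralizer (Q : Set G) ∧
    (Nat.card (Subgroup.centralizer ({z} : Set G) ⊓ N : Subgroup G)).factorization p =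
      (Nat.card Q).factorization p

theorem natCard_centralizer_inf_conj (g z : G) :
    Nat.card (Subgroup.centralizer ({g * z * g⁻¹} : Set G) ⊓ N : Subgroup G) =
      Nat.card (Subgroup.centralizer ({z} : Set G) ⊓ N : Subgroup G) := by
  rw [← natCard_map_conj (Subgroup.centralizer ({z} : Set G) ⊓ N) g]
  refine congrArg (fun K : Subgroup G => Nat.card K) ?_
  ext y
  simp only [map_conj_mem_iff, Subgroup.mem_inf, mem_centralizer_singleton]
  refine and_congr ⟨fun h => ?_, fun h => ?_⟩ ⟨fun h => ?_, fun h => ?_⟩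
  · calc g⁻¹ * y * g * z = g⁻¹ * (y * (g * z * g⁻¹)) * g := by group
      _ = g⁻¹ * (g * z * g⁻¹ * y) * g := by rw [h]
      _ = z * (g⁻¹ * y * g) := by group
  · calc y * (g * z * g⁻¹) = g * (g⁻¹ * y * g * z) * g⁻¹ := by group
      _ = g * (z * (g⁻¹ * y * g)) * g⁻¹ := by rw [h]
      _ = g * z * g⁻¹ * y := by group
  · simpa [mul_assoc] using hN.conj_mem y h g⁻¹
  · simpa [mul_assoc] using hN.conj_mem _ h g

theorem isFullCentIn_of_isConj {z y : G} (h : IsFullCentIn p N Q z) (hc : IsConj z y)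
    (hy : y ∈ Subgroup.centralizer (Q : Set G)) : IsFullCentIn p N Q y := by
  obtain ⟨g, rfl⟩ := isConj_iff.mp hc
  exact ⟨hy, by rw [natCard_centralizer_inf_conj]; exact h.2⟩

/-- Such points are conjugate in `G` only if they are conjugate under the normalizer of `Q`. -/
theorem exists_normalizer_conj (hQ : IsPGroup p Q) (hQN : Q ≤ N) {z y : G}
    (hz : IsFullCentIn p N Q z) (hy : IsFullCentIn p N Q y) (hc : IsConj z y) :
    ∃ h ∈ Subgroup.normalizer (Q : Set G), h * z * h⁻¹ = y := by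
  obtain ⟨g, hg⟩ := isConj_iff.mp hc
  set K := Subgroup.centralizer ({y} : Set G) ⊓ N with hK
  set Q' := Q.map (MulAut.conj g).toMonoidHom with hQ'
  have hQK : Q ≤ K := le_inf (le_centralizer_singleton_iff.mpr hy.1) hQN
  have hQ'K : Q' ≤ K := by
    refine le_inf (le_centralizer_singleton_iff.mpr (hg ▸ mem_centralizer_map_conj hz.1)) ?_
    rintro _ ⟨x, hx, rfl⟩
    exact hN.conj_mem x (hQN hx) g
  have hcard : ∀ R : Subgroup G, R ≤ K → Nat.card R = Nat.card Q →
      Nat.card (R.subgroupOf K) = p ^ (Nat.card K).factorization p := fun R hR hRc => by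
    obtain ⟨n, hn⟩ := IsPGroup.iff_card.mp hQ
    rw [Nat.card_congr (Subgroup.subgroupOfEquivOfLe hR).toEquiv, hRc, hy.2, hn,
      Nat.Prime.factorization_pow (Fact.out : p.Prime), Finsupp.single_eq_same]
  set S₁ : Sylow p K := Sylow.ofCard (Q.subgroupOf K) (hcard Q hQK rfl) with hS₁
  set S₂ : Sylow p K := Sylow.ofCard (Q'.subgroupOf K) (hcard Q' hQ'K (natCard_map_conj Q g))
    with hS₂
  obtain ⟨k, hk⟩ := MulAction.exists_smul_eq K S₂ S₁
  have hfwd : ∀ x ∈ Q, ((k : G) * g) * x * ((k : G) * g)⁻¹ ∈ Q := by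
    intro x hx
    have h1 : (⟨g * x * g⁻¹, hQ'K (Subgroup.mem_map_of_mem _ hx)⟩ : K) ∈
        (S₂ : Subgroup K) := by
      rw [hS₂, Sylow.coe_ofCard]
      exact Subgroup.mem_map_of_mem _ hx
    have h2 : k * (⟨g * x * g⁻¹, hQ'K (Subgroup.mem_map_of_mem _ hx)⟩ : K) * k⁻¹ ∈
        (S₁ : Subgroup K) := by
      rw [← hk]
      exact Subgroup.mem_map_of_mem (MulAut.conj k).toMonoidHom h1
    rw [hS₁, Sylow.coe_ofCard, Subgroup.mem_subgroupOf] at h2
    simpa [mul_assoc] using h2
  have heq : Q.map (MulAut.conj ((k : G) * g)).toMonoidHom = Q := by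
    refine Subgroup.eq_of_le_of_card_ge ?_ (natCard_map_conj Q _).ge
    rintro _ ⟨x, hx, rfl⟩
    exact hfwd x hx
  refine ⟨(k : G) * g, Subgroup.mem_normalizer_iff.mpr fun x => ⟨hfwd x, fun hx => ?_⟩, ?_⟩
  · rw [← heq, map_conj_mem_iff] at hx
    rwa [show ((k : G) * g)⁻¹ * ((k : G) * g * x * ((k : G) * g)⁻¹) * ((k : G) * g) = x by
      group] at hx
  · have hky : (k : G) * y = y * (k : G) := mem_centralizer_singleton.mp k.2.1
    calc (k : G) * g * z * ((k : G) * g)⁻¹ = (k : G) * (g * z * g⁻¹) * (k : G)⁻¹ := by group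
      _ = y := by rw [hg, hky, mul_inv_cancel_right]

/-- A class function of `H` small off the full points lifts to `G` through the Brauer map. -/
theorem exists_lift_of_full (hM : IsPModular p M) [Fintype H] (hQ : IsPGroup p Q) (hQN : Q ≤ N)
    (hQH : Q ≤ H) (hHN : H ≤ Subgroup.normalizer (Q : Set G))
    (hNH : Subgroup.normalizer (Q : Set G) ≤ H) {F : H → ℂ} (hF : IsIntClassFun M F)
    (hsmall : ∀ z : H, (z : G) ∈ Subgroup.centralizer (Q : Set G) → ¬ MemLocalIdeal M (F z) →
      IsFullCentIn p N Q (z : G)) :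
    ∃ a : G → ℂ, IsIntClassFun M a ∧
      (∀ ψ : IrrCharacter H, MemLocalIdeal M
        (omega (ψ : H → ℂ) (brRes Q H a) - omega (ψ : H → ℂ) F)) ∧
      ((∀ z : H, (z : G) ∉ N → F z = 0) → ∀ x, x ∉ N → a x = 0) := by
  classical
  have := isPrime hM
  let a : G → ℂ := fun x =>
    if h : ∃ z, IsFullCentIn p N Q z ∧ IsConj x z then extendByZero H F h.choose else 0
  have hext : ∀ z, MemLocalRing M (extendByZero H F z) := fun z => by
    by_cases hz : z ∈ H
    · rw [CharInd.extendByZero_mem F hz]; exact hF.2 _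
    · rw [CharInd.extendByZero_notMem F hz]; exact (localRing M).zero_mem
  have ha : IsIntClassFun M a := by
    refine ⟨fun x t => ?_, fun x => ?_⟩
    · have hxt : IsConj x (t * x * t⁻¹) := isConj_iff.mpr ⟨t, rfl⟩
      have hiff : (fun z => IsFullCentIn p N Q z ∧ IsConj (t * x * t⁻¹) z) =
          fun z => IsFullCentIn p N Q z ∧ IsConj x z :=
        funext fun z => propext (and_congr_right fun _ => ⟨hxt.trans, hxt.symm.trans⟩)
      simp only [a, hiff]
    · simp only [a]
      split_ifs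
      · exact hext _
      · exact (localRing M).zero_mem
  refine ⟨a, ha, fun ψ => ?_, fun hs x hx => ?_⟩
  · have : Finite (ConjClasses H) := Finite.of_surjective _ ConjClasses.mk_surjective
    have := Fintype.ofFinite (ConjClasses H)
    rw [BlocksDefect.omega_eq_sum_classes ψ (isIntClassFun_brRes hHN ha).1,
      BlocksDefect.omega_eq_sum_classes ψ hF.1, ← Finset.sum_sub_distrib]
    refine memLocalIdeal_sum fun C _ => ?_
    rw [← sub_mul]
    generalize Quotient.out C = k
    by_cases hk : (k : G) ∈ Subgroup.centralizer (Q : Set G)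
    · refine memLocalIdeal_mul_right ?_ (centralChar_memLocalRing ψ _)
      rw [brRes_of_mem _ hk]
      simp only [a]
      split_ifs with h
      · obtain ⟨hP, hconj⟩ := h.choose_spec
        obtain ⟨n, hn, hnz⟩ := exists_normalizer_conj hQ hQN
          (isFullCentIn_of_isConj hP hconj.symm hk) hP hconj
        have hz : h.choose ∈ H := hnz ▸ H.mul_mem (H.mul_mem (hNH hn) k.2) (H.inv_mem (hNH hn))
        rw [CharInd.extendByZero_mem F hz, classFun_eq_of_isConj hF.1
          (isConj_iff.mpr ⟨⟨n, hNH hn⟩, Subtype.ext hnz⟩ : IsConj k ⟨h.choose, hz⟩), sub_self]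
        exact memLocalIdeal_zero
      · rw [zero_sub]
        exact memLocalIdeal_neg (by_contra fun hu => h ⟨k, hsmall k hk hu, IsConj.refl _⟩)
    · haveI : (Q.subgroupOf H).Normal := Subgroup.normal_subgroupOf_of_le_normalizer hHN
      refine memLocalIdeal_mul_left ((localRing M).sub_mem
        ((isIntClassFun_brRes hHN ha).2 _) (hF.2 _))
        (centralChar_memLocalIdeal_of_notMem (Q.subgroupOf H) hM
          (hQ.of_equiv (Subgroup.subgroupOfEquivOfLe hQH).symm) (fun x hx hc => hk ?_) ψ)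
      obtain ⟨t, ht⟩ := isConj_iff.mp hx
      rw [← conj_mem_centralizer_iff (hHN t.2)]
      have hc' : (x : G) ∈ Subgroup.centralizer (Q : Set G) := mem_centralizer_of_subgroupOf hQH hc
      rw [← ht] at hc'
      simpa using hc'
  · simp only [a]
    split_ifs with h
    · by_cases hz : h.choose ∈ H
      · rw [CharInd.extendByZero_mem F hz]
        refine hs ⟨_, hz⟩ fun hzN => hx ?_
        obtain ⟨c, hc⟩ := isConj_iff.mp h.choose_spec.2.symm
        rw [← hc]
        exact hN.conj_mem _ hzN c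
      · exact CharInd.extendByZero_notMem F hz
    · rfl

theorem conjIrr_one (θ : IrrCharacter N) : conjIrr (1 : G) θ = θ :=
  Subtype.ext (conjFun_one _)

/-- `H ⊓ N` as a subgroup of `H`. -/
def subgroupOfEquivInf (H N : Subgroup G) : N.subgroupOf H ≃* (H ⊓ N : Subgroup G) where
  toFun x := ⟨((x : H) : G), (x : H).2, x.2⟩
  invFun y := ⟨⟨y, y.2.1⟩, y.2.2⟩
  left_inv _ := rfl
  right_inv _ := rfl
  map_mul' _ _ := rfl

section Correspondence

variable [Fintype H] [Fintype (H ⊓ N : Subgroup G)] [Fintype (N.subgroupOf H)]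

/-- A character of `H` has a constituent in `e` on `H ⊓ N`. -/
def CoversInf (e : Set (IrrCharacter (H ⊓ N : Subgroup G))) (ψ : IrrCharacter H) : Prop :=
  ∃ η ∈ e, classInner (fun l : (H ⊓ N : Subgroup G) =>
    (ψ : H → ℂ) (Subgroup.inclusion inf_le_left l)) (η : (H ⊓ N : Subgroup G) → ℂ) ≠ 0

variable {e : Set (IrrCharacter (H ⊓ N : Subgroup G))}

/-- The block `e` moved to `N.subgroupOf H`. -/
noncomputable def infBlock (e : Set (IrrCharacter (H ⊓ N : Subgroup G))) :
    Set (IrrCharacter (N.subgroupOf H)) :=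
  BC85.pullIrr (subgroupOfEquivInf H N) '' e

/-- The idempotent of the orbit of `e`, on `H`. -/
noncomputable def infIdem (e : Set (IrrCharacter (H ⊓ N : Subgroup G))) : H → ℂ :=
  extFun (blockCoeff (orbitSet (G := H) (infBlock e)))

theorem isConstituent_pullIrr (ψ : IrrCharacter H) (η : IrrCharacter (H ⊓ N : Subgroup G)) :
    IsConstituent ψ (BC85.pullIrr (subgroupOfEquivInf H N) η) ↔
      classInner (fun l : (H ⊓ N : Subgroup G) => (ψ : H → ℂ) (Subgroup.inclusion inf_le_left l))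
        (η : (H ⊓ N : Subgroup G) → ℂ) ≠ 0 := by
  rw [IsConstituent, ne_eq, ne_eq]
  refine not_congr (Eq.congr_left ?_)
  rw [CharCore.classInner_def, CharCore.classInner_def,
    Nat.card_congr (subgroupOfEquivInf H N).toEquiv]
  congr 1
  exact Fintype.sum_equiv (subgroupOfEquivInf H N).toEquiv _ _ fun l => rfl

theorem coversInf_iff (hM : IsPModular p M) (he : IsPBlock M e) (ψ : IrrCharacter H) :
    (CoversInf e ψ ↔ omega (ψ : H → ℂ) (infIdem e) = 1) ∧
      (¬ CoversInf e ψ → omega (ψ : H → ℂ) (infIdem e) = 0) := by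
  classical
  have := isPrime hM
  have hiff : CoversInf e ψ ↔ ∃ θ ∈ orbitSet (G := H) (infBlock e), IsConstituent ψ θ := by
    constructor
    · rintro ⟨η, hη, h⟩
      exact ⟨_, ⟨1, by
        rw [conjIrr_one]
        exact ⟨η, hη, rfl⟩⟩, (isConstituent_pullIrr ψ η).mpr h⟩
    · rintro ⟨θ, ⟨g, η, hη, e1⟩, h⟩
      exact ⟨η, hη, (isConstituent_pullIrr ψ η).mp (e1 ▸ isConstituent_conjIrr h g)⟩
  obtain ⟨θ, hθ⟩ := exists_constituent_irr (N := N.subgroupOf H) ψ
  have hω := omega_extFun_orbitSet hθ (infBlock e)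
  by_cases h : θ ∈ orbitSet (G := H) (infBlock e)
  · rw [Set.indicator_of_mem h, Pi.one_apply] at hω
    exact ⟨iff_of_true (hiff.mpr ⟨θ, h, hθ⟩) hω, fun hn => absurd (hiff.mpr ⟨θ, h, hθ⟩) hn⟩
  · rw [Set.indicator_of_notMem h] at hω
    refine ⟨iff_of_false (fun hc => ?_) (fun h1 => zero_ne_one (hω.symm.trans h1)), fun _ => hω⟩
    obtain ⟨θ', hθ', hθ''⟩ := hiff.mp hc
    exact h ((orbitSet_iff_of_sameBlock hM (BC85.isPBlock_image_pullIrr _ he)
      (sameBlock_refl (M := M) (ψ : H → ℂ)) hθ'' hθ).mp hθ')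

variable (hQN : Q ≤ N) (hQH : Q ≤ H) (hHN : H ≤ Subgroup.normalizer (Q : Set G))

include hQN hQH hHN

/-- The idempotent of the orbit of `e`, and what it fixes, is small off the full points. -/
theorem isFullCentIn_of_fixed (hM : IsPModular p M) (hNH : Subgroup.normalizer (Q : Set G) ≤ H)
    (hQ : IsPGroup p Q) (he : IsPBlock M e)
    (heQ : IsDefectGroup p M e (Q.subgroupOf (H ⊓ N))) {F : H → ℂ} (hF : IsIntClassFun M F)
    (hfix : conv (infIdem e) F = F) (z : H) (hz : (z : G) ∈ Subgroup.centralizer (Q : Set G))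
    (hu : ¬ MemLocalIdeal M (F z)) : IsFullCentIn p N Q (z : G) := by
  classical
  have := isPrime hM
  have hp : p.Prime := Fact.out
  refine ⟨hz, ?_⟩
  set K := Subgroup.centralizer ({(z : G)} : Set G) ⊓ N with hK
  have hQK : Q ≤ K := le_inf (le_centralizer_singleton_iff.mpr hz) hQN
  have hle : (Nat.card Q).factorization p ≤ (Nat.card K).factorization p :=
    (Nat.factorization_le_iff_dvd Nat.card_pos.ne' Nat.card_pos.ne').mpr
      (Subgroup.card_dvd_of_le hQK) p
  obtain ⟨n, hn⟩ := IsPGroup.iff_card.mp hQ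
  by_contra hne
  obtain ⟨S, hS⟩ := (hQ.of_equiv (Subgroup.subgroupOfEquivOfLe hQK).symm).exists_le_sylow
  set S' : Subgroup G := (S : Subgroup K).map K.subtype with hS'
  have hQS : Q ≤ S' := fun q hq => ⟨⟨q, hQK hq⟩, hS (by exact hq), rfl⟩
  have hS'K : S' ≤ K := Subgroup.map_subtype_le _
  have hS'p : IsPGroup p S' := S.isPGroup'.map _
  have hlt : Q.subgroupOf S' < ⊤ := by
    refine lt_top_iff_ne_top.mpr fun h => hne ?_
    have e1 : S' ≤ Q := Subgroup.subgroupOf_eq_top.mp h
    have e2 : Nat.card Q = p ^ (Nat.card K).factorization p := by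
      rw [← S.card_eq_multiplicity, le_antisymm hQS e1]
      exact Nat.card_congr (Subgroup.equivMapOfInjective _ _ K.subtype_injective).toEquiv.symm
    rw [e2, Nat.Prime.factorization_pow hp, Finsupp.single_eq_same]
  haveI : Group.IsNilpotent S' := IsPGroup.isNilpotent hS'p
  obtain ⟨s, hsN, hsQ⟩ := SetLike.exists_of_lt
    (Group.normalizerCondition_of_isNilpotent (G := S') (Q.subgroupOf S') hlt)
  set T : Subgroup G := S' ⊓ Subgroup.normalizer (Q : Set G) with hT
  have hsT : (s : G) ∈ T := by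
    refine ⟨s.2, Subgroup.mem_normalizer_iff.mpr fun x => ?_⟩
    constructor
    · intro hx
      exact (Subgroup.mem_normalizer_iff.mp hsN ⟨x, hQS hx⟩).mp hx
    · intro hx
      have hxS : x ∈ S' := by
        have := S'.mul_mem (S'.mul_mem (S'.inv_mem s.2) (hQS hx)) s.2
        simpa [mul_assoc] using this
      exact (Subgroup.mem_normalizer_iff.mp hsN ⟨x, hxS⟩).mpr hx
  have hQT : Q < T := by
    refine lt_of_le_of_ne (le_inf hQS Subgroup.le_normalizer) fun h => hsQ ?_
    rw [Subgroup.mem_subgroupOf, h]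
    exact hsT
  have hTH : T ≤ H := inf_le_right.trans hNH
  have hTN : T ≤ N := (inf_le_left.trans hS'K).trans inf_le_right
  have hTz : (z : G) ∈ Subgroup.centralizer (T : Set G) :=
    le_centralizer_singleton_iff.mp ((inf_le_left.trans hS'K).trans inf_le_left)
  have hTp : IsPGroup p T := hS'p.to_le inf_le_left
  have hE : IsIntClassFun M (infIdem e) :=
    isIntClassFun_extFun_orbitSet hM (BC85.isPBlock_image_pullIrr _ he)
  rw [← hfix, conv_apply] at hu
  have hzT : z ∈ Subgroup.centralizer ((T.subgroupOf H : Subgroup H) : Set H) := by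
    rw [Subgroup.mem_centralizer_iff] at hTz ⊢
    exact fun u hu => Subtype.ext (hTz (u : G) hu)
  obtain ⟨y, hy, hy1, -⟩ := exists_mem_centralizer_of_convSum hM
    (hTp.of_equiv (Subgroup.subgroupOfEquivOfLe hTH).symm) (infIdem e) F
    (fun u _ x => hE.1 x u) (fun u _ x => hF.1 x u) hE.2 hF.2 hzT hu
  have hyN : y ∈ N.subgroupOf H := by
    by_contra h
    exact hy1 (by rw [infIdem, extFun_notMem _ h]; exact memLocalIdeal_zero)
  rw [infIdem, show y = ((⟨y, hyN⟩ : N.subgroupOf H) : H) from rfl, extFun_coe] at hy1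
  obtain ⟨g, hg⟩ := exists_conj_unit_of_orbit_unit hM (BC85.isPBlock_image_pullIrr _ he) hy1
  rw [BC85.blockCoeff_image_pullIrr] at hg
  set R : Subgroup G := T.map (MulAut.conj (g : G)⁻¹).toMonoidHom with hR
  have hRL : R ≤ H ⊓ N := by
    rintro _ ⟨x, hx, rfl⟩
    exact ⟨H.mul_mem (H.mul_mem (H.inv_mem g.2) (hTH hx)) (H.inv_mem (H.inv_mem g.2)),
      hN.conj_mem x (hTN hx) _⟩
  have hyT : (y : G) ∈ Subgroup.centralizer (T : Set G) := by
    rw [Subgroup.mem_centralizer_iff] at hy ⊢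
    intro u hu
    exact congrArg Subtype.val (hy ⟨u, hTH hu⟩ hu)
  have hsc := subConj_defectGroup_of_coeff hM he heQ (Q := R.subgroupOf (H ⊓ N))
    ((hTp.map _).of_equiv (Subgroup.subgroupOfEquivOfLe hRL).symm) (by
      rw [Subgroup.mem_centralizer_iff]
      intro u hu
      exact Subtype.ext (Subgroup.mem_centralizer_iff.mp
        (mem_centralizer_map_conj (x := (g : G)⁻¹) hyT) _ (Subgroup.mem_subgroupOf.mp hu))) hg
  have hd := hsc.card_dvd
  rw [Nat.card_congr (Subgroup.subgroupOfEquivOfLe hRL).toEquiv, hR, natCard_map_conj,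
    Nat.card_congr (Subgroup.subgroupOfEquivOfLe (le_inf hQH hQN)).toEquiv] at hd
  exact absurd (Subgroup.eq_of_le_of_card_ge hQT.le (Nat.le_of_dvd Nat.card_pos hd)) hQT.ne

/-- Clifford through the Brauer map. -/
theorem omega_brRes_of_constituent [M.IsPrime] {a : G → ℂ} (ha : IsIntClassFun M a)
    (hs : ∀ x, x ∉ N → a x = 0) {ψ : IrrCharacter H} {η : IrrCharacter (H ⊓ N : Subgroup G)}
    (h : classInner (fun l : (H ⊓ N : Subgroup G) =>
      (ψ : H → ℂ) (Subgroup.inclusion inf_le_left l)) (η : (H ⊓ N : Subgroup G) → ℂ) ≠ 0) :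
    omega (ψ : H → ℂ) (brRes Q H a) =
      omega (η : (H ⊓ N : Subgroup G) → ℂ) (brRes Q (H ⊓ N) a) := by
  rw [omega_eq_of_constituent ((isConstituent_pullIrr ψ η).mpr h) (isIntClassFun_brRes hHN ha).1
    fun x hx => ?_]
  · rw [← BC85.omega_pullIrr (subgroupOfEquivInf H N) η (brRes Q (H ⊓ N) a)]
    rfl
  · by_cases hc : (x : G) ∈ Subgroup.centralizer (Q : Set G)
    · rw [brRes_of_mem _ hc]; exact hs _ hx
    · exact brRes_of_notMem _ hc

/-- The correspondent relation, on class functions. -/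
theorem omega_induced_in (hM : IsPModular p M) (hQ : IsPGroup p Q) {d : Set (IrrCharacter N)}
    (hed : IsInducedBlockIn M N (H ⊓ N) e d) {η : IrrCharacter (H ⊓ N : Subgroup G)} (hη : η ∈ e)
    {θ : IrrCharacter N} (hθ : θ ∈ d) {a : G → ℂ} (ha : IsIntClassFun M a) :
    MemLocalIdeal M (omega (η : (H ⊓ N : Subgroup G) → ℂ) (brRes Q (H ⊓ N) a) -
      omega (θ : N → ℂ) (res N a)) := by
  classical
  have := isPrime hM
  have h1 := omega_res_sub_brRes hM hQ (le_inf hQH hQN) (inf_le_left.trans hHN) η ha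
  suffices h2 : MemLocalIdeal M (omega (η : (H ⊓ N : Subgroup G) → ℂ) (res (H ⊓ N) a) -
      omega (θ : N → ℂ) (res N a)) by
    have := memLocalIdeal_sub h2 h1
    rwa [sub_sub_sub_cancel_left] at this
  have : Finite (ConjClasses N) := Finite.of_surjective _ ConjClasses.mk_surjective
  have := Fintype.ofFinite (ConjClasses N)
  have hf := isClassFunction_res N ha.1
  have e1 : res (H ⊓ N) a = ∑ C : ConjClasses N, res N a (Quotient.out C) •
      fun l : (H ⊓ N : Subgroup G) => classInd (Quotient.out C) (⟨(l : G), l.2.2⟩ : N) := by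
    funext l
    have := congrFun (eq_sum_classes hf) ⟨(l : G), l.2.2⟩
    simpa [Finset.sum_apply, res] using this
  have e2 := eq_sum_classes hf
  rw [e1, show omega (θ : N → ℂ) (res N a) = omega (θ : N → ℂ)
      (∑ C : ConjClasses N, res N a (Quotient.out C) • classInd (Quotient.out C)) by rw [← e2],
    omega_sum, omega_sum, ← Finset.sum_sub_distrib]
  refine memLocalIdeal_sum fun C _ => ?_
  rw [omega_smul, omega_smul, ← mul_sub, omega_classInd (irr_class θ)]
  refine memLocalIdeal_mul_left (ha.2 _) ?_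
  convert hed.2.2 η hη θ hθ (Quotient.out C) using 2
  rw [inducedCentralCharIn, finsum_mem_def, finsum_eq_sum_of_fintype, omega_eq_sum, Finset.sum_div]
  refine Finset.sum_congr rfl fun l _ => ?_
  by_cases hl : IsConj (Quotient.out C : N) (⟨(l : G), l.2.2⟩ : N)
  · obtain ⟨x, hx⟩ := isConj_iff.mp hl.symm
    rw [classInd_apply_of_isConj hl, one_mul, Set.indicator_of_mem]
    exact ⟨x, congrArg Subtype.val hx⟩
  · rw [classInd_apply_of_not_isConj hl, zero_mul, zero_div, Set.indicator_of_notMem]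
    rintro ⟨x, hx⟩
    exact hl (isConj_iff.mpr ⟨x, Subtype.ext hx⟩).symm

variable (hCH : Subgroup.centralizer (Q : Set G) ≤ H)

include hCH

/-- Forward: a block over `e` induces one block, over `d`. -/
theorem existsUnique_induced (hM : IsPModular p M) (hQ : IsPGroup p Q)
    {d : Set (IrrCharacter N)} (hd : IsPBlock M d) (hed : IsInducedBlockIn M N (H ⊓ N) e d)
    {c : Set (IrrCharacter H)} (hc : IsPBlock M c) (hcov : ∃ ψ ∈ c, CoversInf e ψ) :
    ∃! B : Set (IrrCharacter G),
      IsInducedBlock M H c B ∧ ∃ χ ∈ B, ∃ θ ∈ d, IsConstituent χ θ := by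
  classical
  have := isPrime hM
  obtain ⟨B, hind⟩ := inducedBlockDefined hM hQ hQH hCH hHN hc
  obtain ⟨ψ, hψ, η, hη, hne⟩ := hcov
  refine ⟨B, ⟨hind, ?_⟩, ?_⟩
  · obtain ⟨χ, hχ⟩ := isPBlock_nonempty hind.2.1
    have hD := isIntClassFun_extFun_orbitSet (G := G) hM hd
    obtain ⟨θ, hθ⟩ := exists_constituent_irr (N := N) χ
    obtain ⟨θ₀, hθ₀⟩ := isPBlock_nonempty hd
    have h1 := memLocalIdeal_sub (omega_induced hM hind hψ hχ hD)
      (omega_res_sub_brRes hM hQ hQH hHN ψ hD)
    have h2 := omega_induced_in hQN hQH hHN hM hQ hed hη hθ₀ hD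
    rw [← omega_brRes_of_constituent hQN hQH hHN hD (fun x hx => extFun_notMem _ hx) hne,
      res_extFun, omega_blockCoeff, Set.indicator_of_mem
        (show θ₀ ∈ orbitSet (G := G) d from
          ⟨1, by rwa [conjIrr_one]⟩)] at h2
    rw [sub_sub_sub_cancel_left, omega_extFun_orbitSet hθ] at h1
    by_cases hθd : θ ∈ orbitSet (G := G) d
    · obtain ⟨g, hg⟩ := hθd
      exact ⟨χ, hχ, _, hg, isConstituent_conjIrr hθ g⟩
    · exfalso
      rw [Set.indicator_of_notMem hθd, sub_zero] at h1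
      have h3 := memLocalIdeal_sub h1 h2
      rw [sub_sub_cancel, Pi.one_apply] at h3
      exact not_memLocalIdeal_one h3
  · rintro B' ⟨hind', -⟩
    obtain ⟨χ, hχ⟩ := isPBlock_nonempty hind.2.1
    obtain ⟨χ', hχ'⟩ := isPBlock_nonempty hind'.2.1
    obtain ⟨ξ, hξ⟩ := isPBlock_nonempty hc
    have hs : SameBlock M (χ : G → ℂ) (χ' : G → ℂ) := fun g => by
      have := memLocalIdeal_sub (hind'.2.2 ξ hξ χ' hχ' g) (hind.2.2 ξ hξ χ hχ g)
      rwa [sub_sub_sub_cancel_left] at this
    rw [isPBlock_eq_blockOf hind.2.1 hχ, isPBlock_eq_blockOf hind'.2.1 hχ',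
      blockOf_eq_of_sameBlock hs]

/-- Backward: a block over `d` is induced by one block over `e`. -/
theorem existsUnique_inducing (hM : IsPModular p M) (hNH : Subgroup.normalizer (Q : Set G) ≤ H)
    (hQ : IsPGroup p Q) {d : Set (IrrCharacter N)} (hd : IsPBlock M d)
    (hdQ : IsDefectGroup p M d (Q.subgroupOf N)) (he : IsPBlock M e)
    (heQ : IsDefectGroup p M e (Q.subgroupOf (H ⊓ N)))
    (hed : IsInducedBlockIn M N (H ⊓ N) e d) {B : Set (IrrCharacter G)} (hB : IsPBlock M B)
    (hcov : ∃ χ ∈ B, ∃ θ ∈ d, IsConstituent χ θ) :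
    ∃! c : Set (IrrCharacter H),
      (IsPBlock M c ∧ ∃ ψ ∈ c, CoversInf e ψ) ∧ IsInducedBlock M H c B := by
  classical
  have := isPrime hM
  obtain ⟨z, hz, hzu⟩ := exists_coeff_centralizer_of_covers hM hd hQN hdQ hB hcov
  obtain ⟨c, hind⟩ := (exists_inducing_iff hM hQ hQH hCH hHN hB).mpr ⟨z, hz, hzu⟩
  obtain ⟨χ, hχ, θ, hθ, hχθ⟩ := hcov
  have hE : IsIntClassFun M (infIdem e) :=
    isIntClassFun_extFun_orbitSet hM (BC85.isPBlock_image_pullIrr _ he)
  have hEE : conv (infIdem e) (infIdem e) = infIdem e := by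
    refine eq_of_omega_eq (isClassFunction_conv hE.1 hE.1) hE.1 fun ψ => ?_
    rw [omega_conv ψ hE.1 hE.1]
    by_cases h : CoversInf e ψ
    · rw [(coversInf_iff hM he ψ).1.mp h, one_mul]
    · rw [(coversInf_iff hM he ψ).2 h, mul_zero]
  have hcovc : ∃ ψ ∈ c, CoversInf e ψ := by
    obtain ⟨a, ha, haω, has⟩ := exists_lift_of_full (N := N) hM hQ hQN hQH hHN hNH hE
      fun z hz hu => isFullCentIn_of_fixed hQN hQH hHN hM hNH hQ he heQ hE hEE z hz hu
    have has' : ∀ x, x ∉ N → a x = 0 := has fun z hz => extFun_notMem _ hz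
    obtain ⟨η₀, hη₀⟩ := isPBlock_nonempty he
    obtain ⟨ψ₀, hψ₀⟩ := exists_over (G := H) (BC85.pullIrr (subgroupOfEquivInf H N) η₀)
    have hψ₀' := (isConstituent_pullIrr ψ₀ η₀).mp hψ₀
    obtain ⟨ψ, hψ⟩ := isPBlock_nonempty hind.1
    refine ⟨ψ, hψ, by_contra fun hn => ?_⟩
    have t1 := haω ψ
    rw [(coversInf_iff hM he ψ).2 hn, sub_zero] at t1
    have t2 := memLocalIdeal_sub (omega_induced hM hind hψ hχ ha)
      (omega_res_sub_brRes hM hQ hQH hHN ψ ha)
    have t3 := omega_induced_in hQN hQH hHN hM hQ hed hη₀ hθ ha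
    have t4 := haω ψ₀
    rw [(coversInf_iff hM he ψ₀).1.mp ⟨η₀, hη₀, hψ₀'⟩,
      omega_brRes_of_constituent hQN hQH hHN ha has' hψ₀'] at t4
    rw [sub_sub_sub_cancel_left, omega_eq_of_constituent hχθ ha.1 has'] at t2
    have t5 := memLocalIdeal_sub (memLocalIdeal_add (memLocalIdeal_sub t1 t2) t3) t4
    refine not_memLocalIdeal_one (M := M) ?_
    convert t5 using 1
    ring
  refine ⟨c, ⟨⟨hind.1, hcovc⟩, hind⟩, ?_⟩
  rintro c' ⟨⟨hc', -⟩, hind'⟩
  obtain ⟨ψ₁, hψ₁, hcv⟩ := hcovc
  have hu := isIntClassFun_blockCoeff hM hind.1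
  have hfix : conv (infIdem e) (blockCoeff c) = blockCoeff c := by
    refine eq_of_omega_eq (isClassFunction_conv hE.1 hu.1) hu.1 fun ψ => ?_
    rw [omega_conv ψ hE.1 hu.1, omega_blockCoeff]
    by_cases hψ : ψ ∈ c
    · have hcv' : CoversInf e ψ := by
        by_contra hn
        have := omega_sub_memLocalIdeal (sameBlock_of_mem hind.1 hψ₁ hψ) hE
        rw [(coversInf_iff hM he ψ₁).1.mp hcv, (coversInf_iff hM he ψ).2 hn, sub_zero] at this
        exact not_memLocalIdeal_one this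
      rw [(coversInf_iff hM he ψ).1.mp hcv', one_mul]
    · rw [Set.indicator_of_notMem hψ, mul_zero]
  obtain ⟨a, ha, haω, -⟩ := exists_lift_of_full (N := N) hM hQ hQN hQH hHN hNH hu
    fun z hz hu' => isFullCentIn_of_fixed hQN hQH hHN hM hNH hQ he heQ hu hfix z hz hu'
  obtain ⟨ψ', hψ'⟩ := isPBlock_nonempty hc'
  by_contra hne
  have t1 := haω ψ₁
  rw [omega_blockCoeff, Set.indicator_of_mem hψ₁, Pi.one_apply] at t1
  have t2 := haω ψ'
  rw [omega_blockCoeff, Set.indicator_of_notMem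
    (fun h => hne (isPBlock_eq_of_mem hc' hind.1 hψ' h)), sub_zero] at t2
  have u1 := memLocalIdeal_sub (omega_induced hM hind hψ₁ hχ ha)
    (omega_res_sub_brRes hM hQ hQH hHN ψ₁ ha)
  have u2 := memLocalIdeal_sub (omega_induced hM hind' hψ' hχ ha)
    (omega_res_sub_brRes hM hQ hQH hHN ψ' ha)
  rw [sub_sub_sub_cancel_left] at u1 u2
  have u3 := memLocalIdeal_sub (memLocalIdeal_add (memLocalIdeal_sub u1 u2) t2) t1
  refine not_memLocalIdeal_one (M := M) ?_
  convert u3 using 1
  ring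

end Correspondence

end Cfsg.Agent.BlocksDefect
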