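import Cfsg.Agent.Lib.BlocksDefect.Kulshammer
import Cfsg.Agent.BlkChar.Coeff
import Mathlib.LinearAlgebra.Matrix.Rank

/-!
# Counting blocks with a given normal defect group by a matrix rank

For classes `K i`, `K j` of defect group `D`, the number of pairs in `K i × K j` with quotient in
a Sylow subgroup, divided by the index `p ^ h` of `D` in it, reduces modulo the local ideal to
`∑ C_B ω_B (K j) ω_B (K i)⁻¹` over the blocks with defect group `D`, with every `C_B` a unit.
-/

set_option linter.unusedSectionVars false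

namespace Cfsg.Agent.BlocksDefect

open BlocksCore Matrix

variable {G : Type*} [Group G] [Fintype G] {p : ℕ} {M : Ideal AlgInt}

/-- The rank of a matrix does not change under a field extension. -/
theorem rank_map_field {K L : Type*} [Field K] [Field L] (f : K →+* L) {m : Type*} [Fintype m]
    [DecidableEq m] (A : Matrix m m K) : (A.map f).rank = A.rank := by
  classical
  obtain ⟨V, U, e, hV, hU, h⟩ := exists_rank_normal_form A
  have h' : f.mapMatrix V * A.map f * f.mapMatrix U =
      ((fromBlocks 1 0 0 0).submatrix e e : Matrix m m L) := by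
    have h1 := congrArg f.mapMatrix h
    rw [map_mul, map_mul] at h1
    refine Eq.trans h1 ?_
    rw [RingHom.mapMatrix_apply, ← submatrix_map, fromBlocks_map, Matrix.map_one f f.map_zero f.map_one,
      Matrix.map_zero f f.map_zero, Matrix.map_zero f f.map_zero, Matrix.map_zero f f.map_zero]
  have hV' := (isUnit_iff_isUnit_det _).mp (hV.map f.mapMatrix)
  have hU' := (isUnit_iff_isUnit_det _).mp (hU.map f.mapMatrix)
  have e1 := congrArg Matrix.rank h'
  rw [rank_mul_eq_left_of_isUnit_det _ _ hU', rank_mul_eq_right_of_isUnit_det _ _ hV',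
    rank_submatrix, ← diagonal_one, ← diagonal_zero, fromBlocks_diagonal, rank_diagonal] at e1
  rw [e1]
  refine (Fintype.card_congr ?_).trans (Fintype.card_fin A.rank)
  exact
    { toFun := fun x => match x with
        | ⟨Sum.inl i, _⟩ => i
        | ⟨Sum.inr i, hi⟩ => absurd rfl hi
      invFun := fun i => ⟨Sum.inl i, by simp⟩
      left_inv := fun x => by
        obtain ⟨i | i, hi⟩ := x
        · rfl
        · exact absurd rfl hi
      right_inv := fun i => rfl }

variable [Fact p.Prime] {D : Subgroup G}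

/-- The exponent of `p` in the class of an element with defect group `D`. -/
theorem index_factorization_of_sylowCent {x : G} (hS : IsSylowCent p x D) :
    (Subgroup.centralizer ({x} : Set G)).index.factorization p =
      (Nat.card G).factorization p - (Nat.card D).factorization p := by
  rw [index_factorization, hS.natCard, Nat.Prime.factorization_pow (Fact.out : p.Prime),
    Finsupp.single_eq_same]

theorem isSylowCent_of_isConj [D.Normal] {x y : G} (hS : IsSylowCent p x D) (h : IsConj x y) :
    IsSylowCent p y D := by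
  obtain ⟨c, rfl⟩ := isConj_iff.mp h
  have := hS.map_conj c
  rwa [show D.map (MulAut.conj c).toMonoidHom = D from by
    ext z
    rw [map_conj_mem_iff]
    exact ⟨fun hz => by simpa [mul_assoc] using Subgroup.Normal.conj_mem inferInstance _ hz c,
      fun hz => by simpa using Subgroup.Normal.conj_mem inferInstance z hz c⁻¹⟩] at this

omit [Fact p.Prime] in
theorem isSylowCent_inv {x : G} (hS : IsSylowCent p x D) : IsSylowCent p x⁻¹ D := by
  unfold IsSylowCent
  rw [centralizer_inv]
  exact hS

/-- Pairs in two classes with quotient in a subgroup, as a character sum. -/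
theorem natCard_pairs_eq (S : Subgroup G) [Fintype S] [Fintype (IrrCharacter G)] (x x' : G) :
    (Nat.card {yz : G × G // IsConj x yz.1 ∧ IsConj x' yz.2 ∧ yz.2 * yz.1⁻¹ ∈ S} : ℂ) =
      ∑ χ : IrrCharacter G, centralChar (χ : G → ℂ) x' * centralChar (χ : G → ℂ) x⁻¹ *
        ∑ s : S, blockCoeff {χ} (s : G) := by
  classical
  have hinv : ∀ {a b : G}, IsConj a b → IsConj a⁻¹ b⁻¹ := fun {a b} h => by
    obtain ⟨c, rfl⟩ := isConj_iff.mp h
    exact isConj_iff.mpr ⟨c, by group⟩
  set f := conv (classInd x') (classInd x⁻¹) with hf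
  have hfc : IsClassFunction G f :=
    isClassFunction_conv (isClassFunction_classInd _) (isClassFunction_classInd _)
  have hdec : f = ∑ χ : IrrCharacter G, omega (χ : G → ℂ) f • blockCoeff {χ} := by
    refine eq_of_omega_eq hfc (fun y h => ?_) fun ψ => ?_
    · simp only [Finset.sum_apply, Pi.smul_apply]
      exact Finset.sum_congr rfl fun χ _ => by rw [isClassFunction_blockCoeff {χ} y h]
    rw [omega_sum, Finset.sum_eq_single ψ]
    · rw [omega_smul, omega_blockCoeff, Set.indicator_of_mem (Set.mem_singleton ψ), Pi.one_apply,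
        mul_one]
    · intro χ _ hne
      rw [omega_smul, omega_blockCoeff, Set.indicator_of_notMem (by simpa using Ne.symm hne),
        mul_zero]
    · exact fun h => absurd (Finset.mem_univ ψ) h
  have hω : ∀ χ : IrrCharacter G, omega (χ : G → ℂ) f =
      centralChar (χ : G → ℂ) x' * centralChar (χ : G → ℂ) x⁻¹ := fun χ => by
    rw [hf, omega_conv χ (isClassFunction_classInd _) (isClassFunction_classInd _),
      omega_classInd (irr_class χ), omega_classInd (irr_class χ)]
  have hsum : ∑ s : S, f s =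
      (Nat.card {yz : G × G // IsConj x yz.1 ∧ IsConj x' yz.2 ∧ yz.2 * yz.1⁻¹ ∈ S} : ℂ) := by
    have e1 : ∀ s : S, f s = ((Finset.univ.filter fun z : G =>
        IsConj x' z ∧ IsConj x⁻¹ (z⁻¹ * (s : G))).card : ℂ) := fun s => by
      rw [hf, conv_apply, Finset.natCast_card_filter]
      refine Finset.sum_congr rfl fun z _ => ?_
      by_cases h1 : IsConj x' z
      · rw [classInd_apply_of_isConj h1, one_mul]
        by_cases h2 : IsConj x⁻¹ (z⁻¹ * (s : G))
        · rw [classInd_apply_of_isConj h2, if_pos ⟨h1, h2⟩]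
        · rw [classInd_apply_of_not_isConj h2, if_neg fun h => h2 h.2]
      · rw [classInd_apply_of_not_isConj h1, zero_mul, if_neg fun h => h1 h.1]
    rw [Finset.sum_congr rfl fun s _ => e1 s, ← Nat.cast_sum, ← Finset.card_sigma,
      ← Nat.card_eq_finsetCard]
    congr 1
    refine Nat.card_congr
      { toFun := fun q => ⟨((q.1.1 : G)⁻¹ * q.1.2, q.1.2), by
          obtain ⟨⟨s, z⟩, hq⟩ := q
          simp only [Finset.mem_sigma, Finset.mem_univ, Finset.mem_filter, true_and] at hq
          refine ⟨?_, hq.1, ?_⟩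
          · have := hinv hq.2
            rwa [inv_inv, _root_.mul_inv_rev, inv_inv] at this
          · simp⟩
        invFun := fun yz => ⟨⟨⟨yz.1.2 * yz.1.1⁻¹, yz.2.2.2⟩, yz.1.2⟩, by
          simp only [Finset.mem_sigma, Finset.mem_univ, Finset.mem_filter, true_and]
          refine ⟨yz.2.2.1, ?_⟩
          rw [inv_mul_cancel_left]
          exact hinv yz.2.1⟩
        left_inv := fun q => by
          obtain ⟨⟨s, z⟩, hq⟩ := q
          simp
        right_inv := fun yz => by
          obtain ⟨⟨y, z⟩, hyz⟩ := yz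
          simp }
  rw [← hsum]
  conv_lhs => rw [hdec]
  simp only [Finset.sum_apply, Pi.smul_apply, smul_eq_mul, hω]
  rw [Finset.sum_comm]
  exact Finset.sum_congr rfl fun χ _ => (Finset.mul_sum _ _ _).symm

theorem sum_blockCoeff_singleton (S : Subgroup G) [Fintype S] (χ : IrrCharacter G) :
    ∃ m : ℕ, ∑ s : S, blockCoeff {χ} (s : G) =
      (S.index : ℂ)⁻¹ * ((charDegree (χ : G → ℂ) : ℂ) * m) := by
  classical
  have := finite_irr (G := G)
  have := Fintype.ofFinite (IrrCharacter G)
  obtain ⟨m, hm⟩ := CharCore.IsCharacter.exists_classInner_eq_natCast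
    (CharCore.isCharacter_restrict (CharCore.irr_isCharacter χ) S) (CharCore.isCharacter_one (G := S))
  rw [CharCore.classInner_def] at hm
  simp only [Pi.one_apply, map_one, mul_one] at hm
  refine ⟨m, ?_⟩
  have e1 : ∀ s : S, blockCoeff {χ} (s : G) =
      (Nat.card G : ℂ)⁻¹ * ((χ : G → ℂ) 1 * (χ : G → ℂ) (s : G)⁻¹) := fun s => by
    rw [blockCoeff_eq_sum, Finset.sum_eq_single χ]
    · rw [Set.indicator_of_mem (Set.mem_singleton χ), Pi.one_apply, one_mul]
    · intro ψ _ hψ
      rw [Set.indicator_of_notMem (by simpa using hψ), zero_mul]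
    · exact fun h => absurd (Finset.mem_univ χ) h
  rw [Finset.sum_congr rfl fun s _ => e1 s, ← Finset.mul_sum, ← Finset.mul_sum, irr_one_eq χ,
    ← hm, ← Subgroup.index_mul_card S, Nat.cast_mul, mul_inv]
  rw [show ∑ s : S, (χ : G → ℂ) (s : G)⁻¹ = ∑ s : S, (χ : G → ℂ) (s : G) from
    Fintype.sum_equiv (Equiv.inv S) _ _ fun s => by simp]
  ring

/-- The coefficient of a block in the reduced matrix. -/
noncomputable def rankCoeff (p h : ℕ) (B : Set (IrrCharacter G)) : ℂ :=
  blockCoeff B 1 / (p : ℂ) ^ h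

theorem rankCoeff_unit (hM : IsPModular p M) {B : Set (IrrCharacter G)} (hB : IsPBlock M B)
    {h : ℕ} (hh : h + blockDefect p B = (Nat.card G).factorization p) :
    MemLocalRing M (rankCoeff p h B) ∧ ¬ MemLocalIdeal M (rankCoeff p h B) := by
  classical
  have := isPrime hM
  have := finite_irr (G := G)
  have := Fintype.ofFinite (IrrCharacter G)
  have hp : p.Prime := Fact.out
  set a := (Nat.card G).factorization p with ha
  have hv := BlkChar.sum_sq_factorization hM hB
  set s := ∑ᶠ χ ∈ B, charDegree (χ : G → ℂ) ^ 2 with hs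
  have hscast : (s : ℂ) = (Nat.card G : ℂ) * blockCoeff B 1 := by
    rw [hs, finsum_mem_def, finsum_eq_sum_of_fintype, blockCoeff_eq_sum, ← mul_assoc,
      mul_inv_cancel₀ (Nat.cast_ne_zero.mpr Nat.card_pos.ne'), one_mul, Nat.cast_sum]
    refine Finset.sum_congr rfl fun χ _ => ?_
    by_cases hχ : χ ∈ B
    · rw [Set.indicator_of_mem hχ, Set.indicator_of_mem hχ, Pi.one_apply, one_mul, inv_one,
        irr_one_eq]
      push_cast
      ring
    · rw [Set.indicator_of_notMem hχ, Set.indicator_of_notMem hχ]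
      simp
  have hs0 : s ≠ 0 := by
    intro h0
    rw [h0, Nat.cast_zero] at hscast
    rcases mul_eq_zero.mp hscast.symm with h1 | h1
    · exact Nat.card_pos.ne' (Nat.cast_eq_zero.mp h1)
    · exact blockCoeff_one_ne_zero (isPBlock_nonempty hB) h1
  have hexp : s.factorization p = a + h := by
    rw [hv]
    omega
  set s' := s / p ^ s.factorization p with hs'
  set n := Nat.card G / p ^ a with hn
  have hs'0 : ¬ p ∣ s' := Nat.not_dvd_ordCompl hp hs0
  have hn0 : ¬ p ∣ n := Nat.not_dvd_ordCompl hp Nat.card_pos.ne'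
  have es : ((p : ℂ) ^ (a + h)) * (s' : ℂ) = (s : ℂ) := by
    rw [← hexp]
    exact_mod_cast Nat.ordProj_mul_ordCompl_eq_self s p
  have en : ((p : ℂ) ^ a) * (n : ℂ) = (Nat.card G : ℂ) := by
    exact_mod_cast Nat.ordProj_mul_ordCompl_eq_self (Nat.card G) p
  have hn1 : (n : ℂ) ≠ 0 := Nat.cast_ne_zero.mpr fun h0 => hn0 (h0 ▸ dvd_zero p)
  have hp0 : (p : ℂ) ≠ 0 := Nat.cast_ne_zero.mpr hp.ne_zero
  have e : rankCoeff p h B = (n : ℂ)⁻¹ * (s' : ℂ) := by
    rw [← es, ← en, pow_add] at hscast
    rw [rankCoeff, div_eq_iff (pow_ne_zero h hp0)]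
    field_simp
    have := mul_left_cancel₀ (pow_ne_zero a hp0) (by linear_combination hscast :
      (p : ℂ) ^ a * ((p : ℂ) ^ h * s') = (p : ℂ) ^ a * ((n : ℂ) * blockCoeff B 1))
    linear_combination -this
  rw [e]
  refine ⟨(localRing M).mul_mem (memLocalRing_natCast_inv hM hn0) (natCast_mem _ s'), fun hc => ?_⟩
  refine hs'0 ((memLocalIdeal_natCast_iff hM s').mp ?_)
  have := memLocalIdeal_mul_left (natCast_mem (localRing M) n) hc
  rwa [← mul_assoc, mul_inv_cancel₀ hn1, one_mul] at this

/-- The reduced count of pairs. -/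
theorem pairs_div_congr [D.Normal] (hM : IsPModular p M) (hD : IsPGroup p D) (S : Sylow p G)
    {x x' : G} (hx : IsSylowCent p x D) (hx' : IsSylowCent p x' D)
    [Fintype {B : Set (IrrCharacter G) // IsPBlock M B ∧ IsDefectGroup p M B D}]
    (χB : {B : Set (IrrCharacter G) // IsPBlock M B ∧ IsDefectGroup p M B D} → IrrCharacter G)
    (hχB : ∀ B, χB B ∈ B.1) {h : ℕ}
    (hh : h = (Nat.card G).factorization p - (Nat.card D).factorization p) :
    MemLocalIdeal M
      (((Nat.card {yz : G × G // IsConj x yz.1 ∧ IsConj x' yz.2 ∧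
          yz.2 * yz.1⁻¹ ∈ (S : Subgroup G)} / p ^ h : ℕ) : ℂ) -
        ∑ B : {B : Set (IrrCharacter G) // IsPBlock M B ∧ IsDefectGroup p M B D},
          centralChar (χB B : G → ℂ) x⁻¹ * rankCoeff p h B.1 *
            centralChar (χB B : G → ℂ) x') := by
  classical
  have := isPrime hM
  have := finite_irr (G := G)
  have := Fintype.ofFinite (IrrCharacter G)
  have hp : p.Prime := Fact.out
  have hp0 : (p : ℂ) ≠ 0 := Nat.cast_ne_zero.mpr hp.ne_zero
  set W := Nat.card {yz : G × G // IsConj x yz.1 ∧ IsConj x' yz.2 ∧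
    yz.2 * yz.1⁻¹ ∈ (S : Subgroup G)} with hW
  set a := (Nat.card G).factorization p with ha
  have hdle : (Nat.card D).factorization p ≤ a :=
    (Nat.factorization_le_iff_dvd Nat.card_pos.ne' Nat.card_pos.ne').mpr
      (Subgroup.card_subgroup_dvd_card D) p
  have hu : ¬ p ∣ (S : Subgroup G).index := S.not_dvd_index
  set u : ℂ := ((S : Subgroup G).index : ℂ)⁻¹ with hu'
  have huR : MemLocalRing M u := memLocalRing_natCast_inv hM hu
  choose m hm using fun χ : IrrCharacter G => sum_blockCoeff_singleton (S : Subgroup G) χ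
  set t : IrrCharacter G → ℂ := fun χ => centralChar (χ : G → ℂ) x' *
    centralChar (χ : G → ℂ) x⁻¹ * (u * ((charDegree (χ : G → ℂ) : ℂ) * m χ)) / (p : ℂ) ^ h with ht
  -- the terms off the height zero members of the distinguished blocks
  have hsmall : ∀ χ : IrrCharacter G, (charDegree (χ : G → ℂ)).factorization p < h →
      MemLocalIdeal M (t χ) := by
    intro χ hlt
    set k := (Subgroup.centralizer ({x'} : Set G)).index
    set k' := (Subgroup.centralizer ({x⁻¹} : Set G)).index
    have hk : p ^ h ∣ k := (Nat.Prime.pow_dvd_iff_le_factorization hp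
      Subgroup.FiniteIndex.index_ne_zero).mpr (by rw [index_factorization_of_sylowCent hx', hh])
    have hk' : p ^ h ∣ k' := (Nat.Prime.pow_dvd_iff_le_factorization hp
      Subgroup.FiniteIndex.index_ne_zero).mpr (by
        rw [index_factorization_of_sylowCent (isSylowCent_inv hx), hh])
    obtain ⟨c, hc⟩ := hk
    obtain ⟨c', hc'⟩ := hk'
    set ν := (charDegree (χ : G → ℂ)).factorization p with hν
    set n := charDegree (χ : G → ℂ) / p ^ ν with hn
    have hn0 : ¬ p ∣ n := Nat.not_dvd_ordCompl hp (charDegree_pos χ).ne'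
    have hdeg : ((p : ℂ) ^ ν) * (n : ℂ) = (χ : G → ℂ) 1 := by
      rw [irr_one_eq]
      exact_mod_cast Nat.ordProj_mul_ordCompl_eq_self (charDegree (χ : G → ℂ)) p
    have hn1 : (n : ℂ) ≠ 0 := Nat.cast_ne_zero.mpr fun h0 => hn0 (h0 ▸ dvd_zero p)
    have e : t χ = (p : ℂ) ^ (h - ν) * (u * ((c : ℂ) * (c' : ℂ) * ((χ : G → ℂ) x' *
        (χ : G → ℂ) x⁻¹) * (m χ : ℂ) * (n : ℂ)⁻¹)) := by
      have hsplit : (p : ℂ) ^ h = (p : ℂ) ^ ν * (p : ℂ) ^ (h - ν) := by
        rw [← pow_add, Nat.add_sub_cancel' hlt.le]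
      simp only [ht, centralChar]
      rw [← irr_one_eq, show (Subgroup.centralizer ({x'} : Set G)).index = k from rfl,
        show (Subgroup.centralizer ({x⁻¹} : Set G)).index = k' from rfl, hc, hc', ← hdeg]
      push_cast
      rw [hsplit]
      field_simp
    rw [e]
    refine memLocalIdeal_mul_right ?_ ((localRing M).mul_mem huR ((localRing M).mul_mem
      ((localRing M).mul_mem ((localRing M).mul_mem ((localRing M).mul_mem (natCast_mem _ c)
        (natCast_mem _ c')) ((localRing M).mul_mem
          (memLocalRing_of_isIntegral (isIntegral_irr χ _))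
          (memLocalRing_of_isIntegral (isIntegral_irr χ _)))) (natCast_mem _ (m χ)))
        (memLocalRing_natCast_inv hM hn0)))
    rw [← Nat.cast_pow]
    exact (memLocalIdeal_natCast_iff hM _).mpr (dvd_pow_self p (by omega))
  have hbig : ∀ χ : IrrCharacter G, h ≤ (charDegree (χ : G → ℂ)).factorization p →
      ∃ c : ℂ, MemLocalRing M c ∧ c = u * ((charDegree (χ : G → ℂ) : ℂ) * m χ) / (p : ℂ) ^ h ∧
        t χ = centralChar (χ : G → ℂ) x' * centralChar (χ : G → ℂ) x⁻¹ * c := by
    intro χ hle
    obtain ⟨q, hq⟩ := (Nat.Prime.pow_dvd_iff_le_factorization hp (charDegree_pos χ).ne').mpr hle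
    refine ⟨_, ?_, rfl, by simp only [ht]; ring⟩
    rw [hq]
    push_cast
    rw [show u * ((p : ℂ) ^ h * q * m χ) / (p : ℂ) ^ h = u * (q * m χ) by field_simp]
    exact (localRing M).mul_mem huR ((localRing M).mul_mem (natCast_mem _ q) (natCast_mem _ (m χ)))
  have htR : ∀ χ, MemLocalRing M (t χ) := fun χ => by
    rcases lt_or_ge ((charDegree (χ : G → ℂ)).factorization p) h with hlt | hle
    · exact memLocalRing_of_memLocalIdeal (hsmall χ hlt)
    · obtain ⟨c, hc, -, e⟩ := hbig χ hle
      rw [e]
      exact (localRing M).mul_mem ((localRing M).mul_mem (centralChar_memLocalRing χ _)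
        (centralChar_memLocalRing χ _)) hc
  have hWt : (W : ℂ) / (p : ℂ) ^ h = ∑ χ, t χ := by
    rw [hW, natCard_pairs_eq, Finset.sum_div]
    exact Finset.sum_congr rfl fun χ _ => by simp only [ht, hu', hm]
  -- divisibility
  have hdvd : p ^ h ∣ W := by
    rcases Nat.eq_zero_or_pos W with h0 | hpos
    · rw [h0]; exact dvd_zero _
    rw [Nat.Prime.pow_dvd_iff_le_factorization hp hpos.ne']
    by_contra hlt
    push Not at hlt
    set ν := W.factorization p
    set n := W / p ^ ν
    have hn0 : ¬ p ∣ n := Nat.not_dvd_ordCompl hp hpos.ne'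
    have hW' : ((p : ℂ) ^ ν) * (n : ℂ) = (W : ℂ) := by
      exact_mod_cast Nat.ordProj_mul_ordCompl_eq_self W p
    have hmem : MemLocalIdeal M ((p : ℂ) ^ (h - ν) * ∑ χ, t χ) := by
      refine memLocalIdeal_mul_right ?_ (memLocalRing_sum fun χ _ => htR χ)
      rw [← Nat.cast_pow]
      exact (memLocalIdeal_natCast_iff hM _).mpr (dvd_pow_self p (by omega))
    refine hn0 ((memLocalIdeal_natCast_iff hM n).mp ?_)
    convert hmem using 1
    rw [← hWt, ← hW', ← Nat.add_sub_cancel' hlt.le, pow_add, Nat.add_sub_cancel_left]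
    field_simp
  rw [Nat.cast_div hdvd (by exact_mod_cast pow_ne_zero h hp.ne_zero), Nat.cast_pow, hWt]
  -- group by blocks
  set T : {B : Set (IrrCharacter G) // IsPBlock M B ∧ IsDefectGroup p M B D} → Finset (IrrCharacter G) := fun B => Finset.univ.filter (· ∈ B.1) with hT
  have hdisj : Set.PairwiseDisjoint (↑(Finset.univ : Finset {B : Set (IrrCharacter G) // IsPBlock M B ∧ IsDefectGroup p M B D}) : Set _) T := by
    intro B _ B' _ hne
    rw [Function.onFun, Finset.disjoint_left]
    intro χ h1 h2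
    simp only [hT, Finset.mem_filter] at h1 h2
    exact hne (Subtype.ext (isPBlock_eq_of_mem B.2.1 B'.2.1 h1.2 h2.2))
  have hout : ∀ χ : IrrCharacter G, χ ∉ Finset.univ.biUnion T → MemLocalIdeal M (t χ) := by
    intro χ hχ
    rcases lt_or_ge ((charDegree (χ : G → ℂ)).factorization p) h with hlt | hle
    · exact hsmall χ hlt
    obtain ⟨c, hc, -, e⟩ := hbig χ hle
    rw [e]
    refine memLocalIdeal_mul_right (memLocalIdeal_mul_right ?_ (centralChar_memLocalRing χ _)) hc
    by_contra hu1
    have hB := isPBlock_blockOf (M := M) χ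
    obtain ⟨P, hP⟩ := exists_isDefectGroup hM hB
    have hDP := le_defectGroup D hM hD hB hP
    have hcard := (defectGroup_subConj_of_centralChar hM hB hP (mem_blockOf_self χ) hx' hu1).card_dvd
    have hPD : D = P := Subgroup.eq_of_le_of_card_ge hDP (Nat.le_of_dvd Nat.card_pos hcard)
    exact hχ (Finset.mem_biUnion.mpr ⟨⟨_, hB, hPD ▸ hP⟩, Finset.mem_univ _,
      Finset.mem_filter.mpr ⟨Finset.mem_univ _, mem_blockOf_self χ⟩⟩)
  rw [← Finset.sum_add_sum_compl (Finset.univ.biUnion T), Finset.sum_biUnion hdisj,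
    add_sub_right_comm, ← Finset.sum_sub_distrib]
  refine memLocalIdeal_add (memLocalIdeal_sum fun B _ => ?_)
    (memLocalIdeal_sum fun χ hχ => hout χ (Finset.mem_compl.mp hχ))
  -- one block
  obtain ⟨B, hB, hBD⟩ := B
  have hmemT : ∀ χ ∈ T ⟨B, hB, hBD⟩, χ ∈ B := fun χ hχ => (Finset.mem_filter.mp hχ).2
  have hdef : blockDefect p B = (Nat.card D).factorization p := by
    rw [defectGroup_natCard hM hB hBD, Nat.Prime.factorization_pow hp, Finsupp.single_eq_same]
  have hνB : ∀ χ ∈ B, h ≤ (charDegree (χ : G → ℂ)).factorization p := by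
    intro χ hχ
    have h1 : sInf ((fun ψ : IrrCharacter G => (charDegree (ψ : G → ℂ)).factorization p) '' B) ≤
        (charDegree (χ : G → ℂ)).factorization p := Nat.sInf_le ⟨χ, hχ, rfl⟩
    rw [blockDefect] at hdef
    omega
  have hsum : ∑ χ ∈ T ⟨B, hB, hBD⟩, u * ((charDegree (χ : G → ℂ) : ℂ) * m χ) / (p : ℂ) ^ h =
      rankCoeff p h B := by
    rw [rankCoeff, ← Finset.sum_div]
    congr 1
    simp only [hu', ← hm]
    rw [Finset.sum_comm]
    have e : ∀ s : G, ∑ χ ∈ T ⟨B, hB, hBD⟩, blockCoeff {χ} s = blockCoeff B s := fun s => by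
      simp only [blockCoeff_eq_sum, ← Finset.mul_sum]
      congr 1
      rw [Finset.sum_comm]
      refine Finset.sum_congr rfl fun ψ _ => ?_
      rw [← Finset.sum_mul]
      congr 1
      by_cases hψ : ψ ∈ B
      · rw [Set.indicator_of_mem hψ, Finset.sum_eq_single_of_mem ψ
          (Finset.mem_filter.mpr ⟨Finset.mem_univ _, hψ⟩)]
        · rw [Set.indicator_of_mem (Set.mem_singleton ψ)]
        · intro χ _ hne
          rw [Set.indicator_of_notMem (by simpa using Ne.symm hne)]
      · rw [Set.indicator_of_notMem hψ, Finset.sum_eq_zero]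
        intro χ hχ
        rw [Set.indicator_of_notMem]
        intro hmem
        exact hψ (Set.mem_singleton_iff.mp hmem ▸ hmemT χ hχ)
    rw [Finset.sum_congr rfl fun (s : (S : Subgroup G)) _ => e (s : G),
      Finset.sum_eq_single (1 : (S : Subgroup G))]
    · rfl
    · intro s _ hs
      exact blockCoeff_eq_zero_of_dvd_orderOf hM hB
        (dvd_orderOf_of_isPGroup S.isPGroup' s.2 fun h1 => hs (Subtype.ext h1))
    · exact fun h0 => absurd (Finset.mem_univ _) h0
  rw [← hsum, Finset.mul_sum, Finset.sum_mul, ← Finset.sum_sub_distrib]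
  refine memLocalIdeal_sum fun χ hχ => ?_
  obtain ⟨c, hc, hceq, e⟩ := hbig χ (hνB χ (hmemT χ hχ))
  rw [e, ← hceq]
  have hsame := sameBlock_of_mem hB (hmemT χ hχ) (hχB ⟨B, hB, hBD⟩)
  have h1 := memLocalIdeal_mul_right (memLocalIdeal_mul_right (hsame x')
    (centralChar_memLocalRing χ x⁻¹)) hc
  have h2 := memLocalIdeal_mul_right (memLocalIdeal_mul_left
    (centralChar_memLocalRing (χB ⟨B, hB, hBD⟩) x') (hsame x⁻¹)) hc
  convert memLocalIdeal_add h1 h2 using 1
  ring

/-- The number of blocks with normal defect group `D` is the rank of the matrix of pairs. -/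
theorem natCard_blocks_eq_rank [D.Normal] (hM : IsPModular p M) (hD : IsPGroup p D)
    (S : Sylow p G) {ι : Type*} [Fintype ι] (K : ι → ConjClasses G)
    (hKinj : Function.Injective K)
    (hK : ∀ C : ConjClasses G, (∃ i, K i = C) ↔
      ∃ x ∈ C.carrier, ¬ p ∣ orderOf x ∧ IsSylowCent p x D) :
    Nat.card {B : Set (IrrCharacter G) // IsPBlock M B ∧ IsDefectGroup p M B D} =
      (Matrix.of fun i j : ι => ((Nat.card {yz : G × G // yz.1 ∈ (K i).carrier ∧
        yz.2 ∈ (K j).carrier ∧ yz.2 * yz.1⁻¹ ∈ (S : Subgroup G)} /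
          p ^ ((Nat.card G).factorization p - (Nat.card D).factorization p) : ℕ) : ZMod p)).rank := by
  classical
  have := isPrime hM
  have hp : p.Prime := Fact.out
  have := charP_res (M := M) hM
  haveI := localIdeal_isMaximal (M := M)
  letI : Field (Res M) := Ideal.Quotient.field (localIdeal M)
  set κ := {B : Set (IrrCharacter G) // IsPBlock M B ∧ IsDefectGroup p M B D}
  have := finite_irr (G := G)
  have := Fintype.ofFinite (IrrCharacter G)
  have := Fintype.ofFinite κ
  choose χB hχB using fun B : κ => isPBlock_nonempty B.2.1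
  set h := (Nat.card G).factorization p - (Nat.card D).factorization p with hh
  have hrep : ∀ i, ∃ x, ConjClasses.mk x = K i ∧ ¬ p ∣ orderOf x ∧ IsSylowCent p x D := fun i => by
    obtain ⟨x, hx, h1, h2⟩ := (hK (K i)).mp ⟨i, rfl⟩
    exact ⟨x, ConjClasses.mem_carrier_iff_mk_eq.mp hx, h1, h2⟩
  choose r hrK hrreg hrS using hrep
  have hinvK : ∀ i, ∃ j, IsConj (r j) (r i)⁻¹ := fun i => by
    obtain ⟨j, hj⟩ := (hK (ConjClasses.mk (r i)⁻¹)).mpr ⟨(r i)⁻¹, ConjClasses.mem_carrier_mk,
      by rw [orderOf_inv]; exact hrreg i, isSylowCent_inv (hrS i)⟩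
    exact ⟨j, ConjClasses.mk_eq_mk_iff_isConj.mp ((hrK j).trans hj)⟩
  choose σ hσ using hinvK
  have hσσ : ∀ i, σ (σ i) = i := fun i => by
    obtain ⟨c, hc⟩ := isConj_iff.mp (hσ i)
    have h3 : IsConj (r i) (r (σ i))⁻¹ :=
      (isConj_iff.mpr ⟨c, by rw [← _root_.inv_inj, ← hc]; group⟩ : IsConj (r (σ i))⁻¹ (r i)).symm
    have h2 := ConjClasses.mk_eq_mk_iff_isConj.mpr ((hσ (σ i)).trans h3.symm)
    rw [hrK, hrK] at h2
    exact hKinj h2
  set V : Matrix ι κ (Res M) := fun i B => red M (centralChar (χB B : G → ℂ) (r i)) with hV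
  set V' : Matrix ι κ (Res M) := fun i B => red M (centralChar (χB B : G → ℂ) (r i)⁻¹) with hV'
  set E : Matrix κ ι (Res M) := fun B i => red M (blockCoeff B.1 (r i)) with hE
  set C : κ → Res M := fun B => red M (rankCoeff p h B.1) with hC
  have hdef : ∀ B : κ, h + blockDefect p B.1 = (Nat.card G).factorization p := fun B => by
    have h1 : blockDefect p B.1 = (Nat.card D).factorization p := by
      rw [defectGroup_natCard hM B.2.1 B.2.2, Nat.Prime.factorization_pow hp, Finsupp.single_eq_same]
    have h2 : (Nat.card D).factorization p ≤ (Nat.card G).factorization p :=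
      (Nat.factorization_le_iff_dvd Nat.card_pos.ne' Nat.card_pos.ne').mpr
        (Subgroup.card_subgroup_dvd_card D) p
    omega
  set A : Matrix ι ι (ZMod p) := Matrix.of fun i j : ι => ((Nat.card {yz : G × G //
    yz.1 ∈ (K i).carrier ∧ yz.2 ∈ (K j).carrier ∧ yz.2 * yz.1⁻¹ ∈ (S : Subgroup G)} /
      p ^ h : ℕ) : ZMod p) with hA
  set f : ZMod p →+* Res M := ZMod.castHom (dvd_refl p) (Res M)
  have hAk : A.map f = V' * Matrix.diagonal C * Vᵀ := by
    ext i j
    rw [Matrix.map_apply, hA, Matrix.of_apply, map_natCast, ← red_natCast, Matrix.mul_apply]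
    have hcard : Nat.card {yz : G × G // yz.1 ∈ (K i).carrier ∧ yz.2 ∈ (K j).carrier ∧
        yz.2 * yz.1⁻¹ ∈ (S : Subgroup G)} = Nat.card {yz : G × G // IsConj (r i) yz.1 ∧
        IsConj (r j) yz.2 ∧ yz.2 * yz.1⁻¹ ∈ (S : Subgroup G)} := by
      refine Nat.card_congr (Equiv.subtypeEquivRight fun yz => ?_)
      rw [← hrK i, ← hrK j]
      simp only [ConjClasses.mem_carrier_iff_mk_eq, ConjClasses.mk_eq_mk_iff_isConj]
      exact ⟨fun hy => ⟨hy.1.symm, hy.2.1.symm, hy.2.2⟩, fun hy => ⟨hy.1.symm, hy.2.1.symm, hy.2.2⟩⟩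
    have hR : ∀ B : κ, MemLocalRing M (centralChar (χB B : G → ℂ) (r i)⁻¹ * rankCoeff p h B.1 *
        centralChar (χB B : G → ℂ) (r j)) := fun B =>
      (localRing M).mul_mem ((localRing M).mul_mem (centralChar_memLocalRing _ _)
        (rankCoeff_unit hM B.2.1 (hdef B)).1) (centralChar_memLocalRing _ _)
    rw [hcard, (red_eq_iff (natCast_mem (localRing M) _) (memLocalRing_sum fun B _ => hR B)).mpr
      (pairs_div_congr hM hD S (hrS i) (hrS j) χB hχB hh), red_sum _ hR]
    refine Finset.sum_congr rfl fun B _ => ?_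
    rw [red_mul ((localRing M).mul_mem (centralChar_memLocalRing _ _)
      (rankCoeff_unit hM B.2.1 (hdef B)).1) (centralChar_memLocalRing _ _),
      red_mul (centralChar_memLocalRing _ _) (rankCoeff_unit hM B.2.1 (hdef B)).1, Matrix.mul_diagonal]
    rfl
  have hEV : E * V = 1 := by
    ext B B'
    rw [Matrix.mul_apply, Matrix.one_apply]
    simp only [hE, hV]
    have hmemR : ∀ i, MemLocalRing M
        (blockCoeff B.1 (r i) * centralChar (χB B' : G → ℂ) (r i)) := fun i =>
      (localRing M).mul_mem ((isIntClassFun_blockCoeff hM B.2.1).2 _) (centralChar_memLocalRing _ _)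
    rw [Finset.sum_congr rfl fun i _ => (red_mul ((isIntClassFun_blockCoeff hM B.2.1).2 _)
      (centralChar_memLocalRing (χB B') (r i))).symm, ← red_sum _ hmemR]
    have : Finite (ConjClasses G) := Finite.of_surjective _ ConjClasses.mk_surjective
    have := Fintype.ofFinite (ConjClasses G)
    set g : ConjClasses G → ℂ := fun C =>
      blockCoeff B.1 (Quotient.out C) * centralChar (χB B' : G → ℂ) (Quotient.out C) with hg
    have hω : omega (χB B' : G → ℂ) (blockCoeff B.1) = ∑ C, g C :=
      omega_eq_sum_classes _ (isClassFunction_blockCoeff B.1)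
    have hgi : ∀ i, blockCoeff B.1 (r i) * centralChar (χB B' : G → ℂ) (r i) = g (K i) := fun i => by
      have hc : IsConj (r i) (Quotient.out (K i)) :=
        ConjClasses.mk_eq_mk_iff_isConj.mp ((hrK i).trans (Quotient.out_eq (K i)).symm)
      rw [hg]
      simp only
      rw [classFun_eq_of_isConj (isClassFunction_blockCoeff B.1) hc,
        ← omega_classInd (irr_class (χB B')), ← omega_classInd (irr_class (χB B'))]
      congr 2
      funext y
      by_cases hy : IsConj (r i) y
      · rw [classInd_apply_of_isConj hy, classInd_apply_of_isConj (hc.symm.trans hy)]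
      · rw [classInd_apply_of_not_isConj hy,
          classInd_apply_of_not_isConj fun h' => hy (hc.trans h')]
    have hout : ∀ C : ConjClasses G, C ∉ Finset.univ.image K → MemLocalIdeal M (g C) := by
      intro C hC
      by_contra hu
      simp only [hg] at hu
      have h1 : ¬ MemLocalIdeal M (blockCoeff B.1 (Quotient.out C)) := fun hm =>
        hu (memLocalIdeal_mul_right hm (centralChar_memLocalRing _ _))
      have h2 : ¬ MemLocalIdeal M (centralChar (χB B' : G → ℂ) (Quotient.out C)) := fun hm =>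
        hu (memLocalIdeal_mul_left ((isIntClassFun_blockCoeff hM B.2.1).2 _) hm)
      have hreg : ¬ p ∣ orderOf (Quotient.out C) := fun hd => h1 (by
        rw [blockCoeff_eq_zero_of_dvd_orderOf hM B.2.1 hd]; exact memLocalIdeal_zero)
      obtain ⟨Q, hQ⟩ := exists_isSylowCent p (Quotient.out C)
      have hle : SubConj Q D :=
        subConj_defectGroup_of_coeff hM B.2.1 B.2.2 hQ.isPGroup hQ.mem_centralizer h1
      have hge : SubConj D Q := defectGroup_subConj_of_centralChar hM B'.2.1 B'.2.2 (hχB B') hQ h2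
      obtain ⟨c, hc⟩ := hle.exists_eq_of_card_le (Nat.le_of_dvd Nat.card_pos hge.card_dvd)
      have hQD : Q = D := by
        have hS := hQ.map_conj c
        rw [hc] at hS
        have hS' := isSylowCent_of_isConj hS
          (isConj_iff.mpr ⟨c, rfl⟩ : IsConj (Quotient.out C) _).symm
        refine Subgroup.eq_of_le_of_card_ge ?_ (Nat.le_of_dvd Nat.card_pos hge.card_dvd)
        obtain ⟨x, hx⟩ : SubConj Q D := ⟨c, hc.le⟩
        intro q hq
        have h' := hx (Subgroup.mem_map_of_mem _ hq)
        simpa [mul_assoc] using Subgroup.Normal.conj_mem (inferInstance : D.Normal) _ h' x⁻¹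
      obtain ⟨i, hi⟩ := (hK C).mpr ⟨Quotient.out C,
        ConjClasses.mem_carrier_iff_mk_eq.mpr (Quotient.out_eq C), hreg, hQD ▸ hQ⟩
      exact hC (Finset.mem_image.mpr ⟨i, Finset.mem_univ _, hi⟩)
    have hkey : MemLocalIdeal M ((∑ i, blockCoeff B.1 (r i) * centralChar (χB B' : G → ℂ) (r i)) -
        omega (χB B' : G → ℂ) (blockCoeff B.1)) := by
      rw [hω, ← Finset.sum_add_sum_compl (Finset.univ.image K),
        Finset.sum_image (fun i _ j _ e => hKinj e), Finset.sum_congr rfl fun i _ => hgi i]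
      rw [sub_add_eq_sub_sub, sub_self, zero_sub]
      exact memLocalIdeal_neg (memLocalIdeal_sum fun C hC => hout C (Finset.mem_compl.mp hC))
    have hωR : MemLocalRing M (omega (χB B' : G → ℂ) (blockCoeff B.1)) :=
      omega_memLocalRing _ (isIntClassFun_blockCoeff hM B.2.1)
    rw [(red_eq_iff (memLocalRing_sum fun i _ => hmemR i) hωR).mpr hkey, omega_blockCoeff]
    by_cases hBB : B = B'
    · subst hBB
      rw [if_pos rfl, Set.indicator_of_mem (hχB B), Pi.one_apply,
        show (1 : ℂ) = ((1 : localRing M) : ℂ) by simp, red_coe, map_one]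
    · rw [if_neg hBB, Set.indicator_of_notMem fun hmem => hBB (Subtype.ext
        (isPBlock_eq_of_mem B.2.1 B'.2.1 hmem (hχB B'))), red_eq_zero memLocalIdeal_zero]
  set E' : Matrix κ ι (Res M) := fun B i => E B (σ i) with hE'
  have hEV' : E' * V' = 1 := by
    rw [← hEV]
    ext B B'
    rw [Matrix.mul_apply, Matrix.mul_apply]
    refine Fintype.sum_equiv
      ⟨σ, σ, hσσ, hσσ⟩ _ _ fun i => ?_
    simp only [hE', hV, hV', Equiv.coe_fn_mk]
    congr 2
    rw [← omega_classInd (irr_class (χB B')), ← omega_classInd (irr_class (χB B'))]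
    congr 1
    funext y
    by_cases hy : IsConj (r (σ i)) y
    · rw [classInd_apply_of_isConj hy, classInd_apply_of_isConj ((hσ i).symm.trans hy)]
    · rw [classInd_apply_of_not_isConj hy,
        classInd_apply_of_not_isConj fun h' => hy ((hσ i).trans h')]
  have hCne : ∀ B, C B ≠ 0 := fun B hc => by
    obtain ⟨h1, h2⟩ := rankCoeff_unit hM B.2.1 (hdef B)
    refine h2 ?_
    rw [hC] at hc
    have := (red_eq_iff h1 (localRing M).zero_mem).mp (hc.trans (red_eq_zero memLocalIdeal_zero).symm)
    rwa [sub_zero] at this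
  rw [← rank_map_field f A, hAk, Nat.card_eq_fintype_card]
  refine le_antisymm ?_ ?_
  · have hd : E' * (V' * Matrix.diagonal C * Vᵀ) * Eᵀ = Matrix.diagonal C := by
      rw [← Matrix.mul_assoc, ← Matrix.mul_assoc, hEV', Matrix.one_mul, Matrix.mul_assoc,
        ← Matrix.transpose_mul, hEV, Matrix.transpose_one, Matrix.mul_one]
    calc Fintype.card κ = (Matrix.diagonal C).rank := by
          rw [rank_diagonal]
          exact Fintype.card_congr (Equiv.subtypeUnivEquiv hCne).symm
      _ ≤ (E' * (V' * Matrix.diagonal C * Vᵀ)).rank :=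
          (le_of_eq (congrArg Matrix.rank hd.symm)).trans (Matrix.rank_mul_le_left _ _)
      _ ≤ _ := Matrix.rank_mul_le_right _ _
  · rw [Matrix.mul_assoc]
    exact (Matrix.rank_mul_le_left _ _).trans (rank_le_card_width _)

end Cfsg.Agent.BlocksDefect
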