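import Mathlib.Algebra.MonoidAlgebra.Basic
import Mathlib.Algebra.CharP.Lemmas
import Mathlib.GroupTheory.Perm.Fin
import Mathlib.GroupTheory.PGroup

/-!
# `p`-th powers in group algebras of characteristic `p`

Modulo commutators the `p`-th power map of a group algebra is semilinear: for a class function
`w`, the value of `w` at `a ^ p` is the sum of the `a x ^ p * w (x ^ p)`.
-/

set_option linter.unusedSectionVars false

namespace Cfsg.Agent.BlocksDefect

open MonoidAlgebra (of coeff)

variable {k : Type*} [CommRing k] {p : ℕ} [Fact p.Prime] [CharP k p]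
variable {G : Type*} [Group G] [Fintype G]

/-- Pairing of a function on `G` with the coefficients. -/
noncomputable def wsum (w : G → k) : MonoidAlgebra k G →ₗ[k] k where
  toFun a := ∑ x, a.coeff x * w x
  map_add' a b := by simp [add_mul, Finset.sum_add_distrib]
  map_smul' c a := by simp [Finset.mul_sum, mul_assoc]

theorem wsum_smul_of (w : G → k) (c : k) (x : G) : wsum w (c • of k G x) = c * w x := by
  classical
  rw [map_smul, smul_eq_mul]
  simp [wsum, MonoidAlgebra.coeff_single, Finsupp.single_apply, ite_mul]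

theorem eq_sum_smul_of (a : MonoidAlgebra k G) : a = ∑ x, a.coeff x • of k G x := by
  classical
  apply MonoidAlgebra.ext
  ext y
  simp [MonoidAlgebra.coeff_sum, Finsupp.single_apply]

/-- Expansion of a power as a sum over tuples. -/
theorem pow_eq_sum_tuples (c : G → k) (n : ℕ) :
    (∑ x, c x • of k G x) ^ n =
      ∑ f : Fin n → G, (∏ i, c (f i)) • of k G (List.ofFn f).prod := by
  induction n with
  | zero =>
    rw [pow_zero, Fintype.sum_unique, Fin.prod_univ_zero, one_smul, List.ofFn_zero, List.prod_nil,
      map_one]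
  | succ n ih =>
    rw [pow_succ', ih, Finset.sum_mul_sum,
      ← Fintype.sum_equiv (Fin.consEquiv fun _ => G)
        (fun q : G × (Fin n → G) => (∏ i, c ((Fin.cons q.1 q.2 : Fin (n + 1) → G) i)) •
          of k G (List.ofFn (Fin.cons q.1 q.2 : Fin (n + 1) → G)).prod)
        (fun f : Fin (n + 1) → G => (∏ i, c (f i)) • of k G (List.ofFn f).prod)
        (fun q => by simp [Fin.consEquiv]),
      Fintype.sum_prod_type]
    refine Finset.sum_congr rfl fun x _ => Finset.sum_congr rfl fun f _ => ?_
    rw [smul_mul_smul_comm, ← map_mul, Fin.prod_univ_succ, List.ofFn_succ, List.prod_cons]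
    simp only [Fin.cons_zero, Fin.cons_succ]

theorem list_prod_rotate_isConj {n : ℕ} (f : Fin (n + 1) → G) :
    IsConj (List.ofFn f).prod (List.ofFn (fun i => f (finRotate (n + 1) i))).prod := by
  have h1 : List.ofFn f = f 0 :: List.ofFn (fun i : Fin n => f i.succ) := List.ofFn_succ
  have h2 : List.ofFn (fun i => f (finRotate (n + 1) i)) =
      List.ofFn (fun i : Fin n => f i.succ) ++ [f 0] := by
    rw [List.ofFn_succ', List.concat_eq_append]
    congr 1
    · congr 1
      funext i
      rw [finRotate_apply, Fin.coeSucc_eq_succ]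
    · simp [finRotate_apply]
  rw [h1, h2, List.prod_cons, List.prod_append, List.prod_singleton]
  exact isConj_iff.mpr ⟨(f 0)⁻¹, by group⟩

open scoped Classical in
/-- A sum over a set acted on by a permutation of order `p`, with invariant summand, is the sum
over the fixed points. -/
theorem sum_eq_sum_fixed {α : Type*} [Fintype α] (σ : Equiv.Perm α) (hσ : σ ^ p = 1)
    (F : α → k) (hF : ∀ a, F (σ a) = F a) :
    ∑ a, F a = ∑ a ∈ Finset.univ.filter (fun a => σ a = a), F a := by
  set H := Subgroup.zpowers σ with hH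
  have hp : p.Prime := Fact.out
  have hHp : IsPGroup p H := by
    obtain ⟨i, -, hi⟩ := (Nat.dvd_prime_pow hp).mp
      (show orderOf σ ∣ p ^ 1 by rw [pow_one]; exact orderOf_dvd_of_pow_eq_one hσ)
    exact IsPGroup.of_card (n := i) (by rw [hH, Nat.card_zpowers, hi])
  have hinv : ∀ (u : H) (a : α), F ((u : Equiv.Perm α) a) = F a := by
    rintro ⟨u, hu⟩ a
    obtain ⟨j, rfl⟩ : ∃ j : ℕ, σ ^ j = u := by
      rwa [← Submonoid.mem_powers_iff, (isOfFinOrder_of_finite σ).mem_powers_iff_mem_zpowers]
    induction j generalizing a with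
    | zero => rfl
    | succ j ih =>
      show F ((σ ^ (j + 1)) a) = F a
      rw [pow_succ, Equiv.Perm.mul_apply]
      exact (ih (σ a) (Subgroup.pow_mem _ (Subgroup.mem_zpowers σ) j)).trans (hF a)
  have hfix : ∀ a, σ a = a → ∀ u : H, (u : Equiv.Perm α) a = a := by
    rintro a ha ⟨u, hu⟩
    obtain ⟨j, rfl⟩ := hu
    exact Equiv.Perm.zpow_apply_eq_self_of_apply_eq_self ha j
  rw [← Finset.sum_filter_add_sum_filter_not Finset.univ (fun a => σ a = a)]
  suffices ∑ a ∈ Finset.univ.filter (fun a => σ a ≠ a), F a = 0 by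
    rw [this, add_zero]
  rw [← Finset.sum_fiberwise (Finset.univ.filter fun a => σ a ≠ a)
    (fun a => Quotient.mk (MulAction.orbitRel H α) a)]
  refine Finset.sum_eq_zero fun q _ => ?_
  induction q using Quotient.inductionOn with
  | h a =>
    by_cases ha : σ a = a
    · refine Finset.sum_eq_zero fun b hb => ?_
      simp only [Finset.mem_filter, Finset.mem_univ, true_and, Quotient.eq,
        MulAction.orbitRel_apply] at hb
      obtain ⟨u, rfl⟩ := MulAction.mem_orbit_iff.mp hb.2
      rw [Subgroup.smul_def, Equiv.Perm.smul_def, hfix a ha u] at hb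
      exact absurd ha hb.1
    · have hset : (Finset.univ.filter (fun b => σ b ≠ b)).filter
          (fun b => Quotient.mk (MulAction.orbitRel H α) b = Quotient.mk _ a) =
          (MulAction.orbit H a).toFinset := by
        ext b
        simp only [Finset.mem_filter, Finset.mem_univ, true_and, Quotient.eq,
          MulAction.orbitRel_apply, Set.mem_toFinset]
        refine ⟨And.right, fun hb => ⟨fun hbf => ha ?_, hb⟩⟩
        obtain ⟨u, rfl⟩ := MulAction.mem_orbit_iff.mp hb
        have h' := hfix _ hbf u⁻¹
        rw [Subgroup.smul_def, Equiv.Perm.smul_def] at hbf h'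
        simp only [InvMemClass.coe_inv, Equiv.Perm.coe_inv, Equiv.symm_apply_apply] at h'
        rwa [← h'] at hbf
      rw [hset, Finset.sum_congr rfl fun b hb => ?_, Finset.sum_const (b := F a), nsmul_eq_mul]
      · refine mul_eq_zero_of_left ?_ _
        rw [CharP.cast_eq_zero_iff k p]
        obtain ⟨n, hn⟩ := hHp.card_orbit a
        rw [Set.toFinset_card, ← Nat.card_eq_fintype_card, hn]
        refine dvd_pow_self p fun h0 => ha ?_
        rw [h0, pow_zero, Nat.card_eq_one_iff_unique] at hn
        exact congrArg Subtype.val (hn.1.elim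
          (⟨σ a, ⟨⟨σ, Subgroup.mem_zpowers σ⟩, rfl⟩⟩ : MulAction.orbit H a)
          ⟨a, MulAction.mem_orbit_self a⟩)
      · obtain ⟨u, rfl⟩ := MulAction.mem_orbit_iff.mp (Set.mem_toFinset.mp hb)
        exact hinv u a

/-- The value of a class function at a `p`-th power. -/
theorem wsum_pow_prime (a : MonoidAlgebra k G) {w : G → k}
    (hw : ∀ x y, IsConj x y → w x = w y) :
    wsum w (a ^ p) = ∑ x, a.coeff x ^ p * w (x ^ p) := by
  classical
  have hp : p.Prime := Fact.out
  conv_lhs => rw [eq_sum_smul_of a]
  rw [pow_eq_sum_tuples, map_sum, Finset.sum_congr rfl fun f _ => wsum_smul_of w _ _]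
  obtain ⟨n, rfl⟩ := Nat.exists_eq_add_of_le hp.two_le
  set r := finRotate (2 + n) with hr
  have hrot : ∀ f : Fin (2 + n) → G,
      IsConj (List.ofFn f).prod (List.ofFn (fun i => f (r i))).prod := by
    rw [hr, show 2 + n = (1 + n) + 1 by omega]
    exact list_prod_rotate_isConj
  let σ : Equiv.Perm (Fin (2 + n) → G) := r.symm.arrowCongr (Equiv.refl G)
  have hσf : ∀ f, σ f = fun i => f (r i) := fun f => rfl
  have hσp : σ ^ (2 + n) = 1 := by
    have hj : ∀ (j : ℕ) f, (σ ^ j) f = fun i => f ((r ^ j) i) := by
      intro j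
      induction j with
      | zero => exact fun f => rfl
      | succ j ih =>
        intro f
        rw [pow_succ, Equiv.Perm.mul_apply, ih, hσf]
        funext i
        simp only [pow_succ', Equiv.Perm.mul_apply]
    have hord : r ^ (2 + n) = 1 := by
      have h1 := (isCycle_finRotate_of_le (n := 2 + n) (by omega)).orderOf
      rw [support_finRotate_of_le (by omega), Finset.card_univ, Fintype.card_fin] at h1
      have h2 := pow_orderOf_eq_one r
      rwa [h1] at h2
    refine Equiv.ext fun f => ?_
    rw [hj, hord]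
    rfl
  rw [sum_eq_sum_fixed (p := 2 + n) σ hσp _ fun f => by
    rw [hσf, Equiv.prod_comp r (fun i => a.coeff (f i)), hw _ _ (hrot f).symm]]
  refine (Finset.sum_bij (fun x _ => fun _ => x) ?_ ?_ ?_ ?_).symm
  · intro x _
    simp [hσf]
  · intro x _ y _ h
    exact congrFun h ⟨0, by omega⟩
  · intro f hf
    simp only [Finset.mem_filter, Finset.mem_univ, true_and, hσf] at hf
    refine ⟨f ⟨0, by omega⟩, Finset.mem_univ _, funext fun i => ?_⟩
    obtain ⟨i, hi⟩ := i
    induction i with
    | zero => rfl
    | succ i ih =>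
      refine (ih (by omega)).trans ?_
      refine (congrFun hf ⟨i, by omega⟩).symm.trans ?_
      congr 1
      apply Fin.ext
      rw [hr]
      have : NeZero (2 + n) := ⟨by omega⟩
      simp [finRotate_apply, Fin.val_add, Nat.mod_eq_of_lt hi]
  · intro x _
    rw [Finset.prod_const, Finset.card_univ, Fintype.card_fin, List.ofFn_const, List.prod_replicate]

/-- Iterated form, for `0`-`1` valued class functions. -/
theorem wsum_pow_prime_pow (a : MonoidAlgebra k G) (n : ℕ) {w : G → k}
    (hw : ∀ x y, IsConj x y → w x = w y) (h01 : ∀ x, w x ^ p = w x) :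
    wsum w (a ^ p ^ n) = (∑ x, a.coeff x * w (x ^ p ^ n)) ^ p ^ n := by
  induction n generalizing w with
  | zero => simp [wsum]
  | succ n ih =>
    rw [pow_succ p n, pow_mul, wsum_pow_prime _ hw,
      Finset.sum_congr rfl fun x _ => by rw [← h01 (x ^ p), ← mul_pow],
      ← sum_pow_char p]
    rw [pow_mul]
    congr 1
    have := ih (w := fun x => w (x ^ p)) (fun x y h => hw _ _ (h.pow p)) (fun x => h01 _)
    simpa only [wsum, LinearMap.coe_mk, AddHom.coe_mk, ← pow_mul] using this

end Cfsg.Agent.BlocksDefect
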