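import Cfsg.Agent.Lib.BlocksDefect.ExtendedMain
import Cfsg.Agent.Lib.BlocksDefect.LocalBlock
import Cfsg.Agent.Lib.BlocksDefect.NormalDefect

/-!
# When does a block of `P · C(P)` induce a block with defect group `P`?

This happens exactly when the inertial index of the block is prime to `p`.
-/

set_option linter.unusedSectionVars false

namespace Cfsg.Agent.BlocksDefect

open BlocksCore

universe u

variable {G : Type u} [Group G] [Finite G] {p : ℕ} [Fact p.Prime] {M : Ideal AlgInt}
  {P H T : Subgroup G}

theorem centralChar_comp_equiv {A : Type*} [Group A] [Finite A] (σ : A ≃* A) (θ : IrrCharacter A)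
    (hfix : twist σ.symm θ = θ) (n : A) :
    centralChar (θ : A → ℂ) (σ n) = centralChar (θ : A → ℂ) n := by
  have := Fintype.ofFinite A
  have e : (fun h => classInd (σ n) (σ h)) = classInd n := by
    funext h
    by_cases hh : IsConj n h
    · rw [classInd_apply_of_isConj hh,
        classInd_apply_of_isConj (show IsConj (σ n) (σ h) from σ.toMonoidHom.map_isConj hh)]
    · rw [classInd_apply_of_not_isConj hh, classInd_apply_of_not_isConj]
      intro h'
      have h'' := σ.symm.toMonoidHom.map_isConj h'
      exact hh (by simpa using h'')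
  conv_rhs => rw [← omega_classInd (irr_class θ) n, ← e]
  rw [← omega_classInd (irr_class θ) (σ n)]
  conv_lhs => rw [← hfix]
  rw [omega_twist]
  rfl

/-- An invariant function on `H` that is small off the classes with defect group `P` has a class
function of `G` with the same Brauer image. -/
theorem exists_lift_of_small (hM : IsPModular p M) (hP : IsPGroup p P) (hPH : P ≤ H)
    (hHN : H ≤ Subgroup.normalizer (P : Set G))
    (hHinv : ∀ m ∈ Subgroup.normalizer (P : Set G), ∀ k ∈ H, m * k * m⁻¹ ∈ H)
    {F : H → ℂ} (hF : IsIntClassFun M F)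
    (hinv : ∀ m ∈ Subgroup.normalizer (P : Set G), ∀ k k' : H,
      (k' : G) = m * k * m⁻¹ → F k' = F k)
    (hsmall : ∀ k : H, (k : G) ∈ Subgroup.centralizer (P : Set G) → ¬ MemLocalIdeal M (F k) →
      IsSylowCent p (k : G) P) :
    ∃ a : G → ℂ, IsIntClassFun M a ∧
      (∀ η : IrrCharacter H, MemLocalIdeal M
        (omega (η : H → ℂ) (brRes P H a) - omega (η : H → ℂ) F)) ∧
      ∀ x, ¬ MemLocalIdeal M (a x) → ∃ z, IsSylowCent p z P ∧ IsConj x z := by
  classical
  have := isPrime hM
  have := Fintype.ofFinite G
  have := Fintype.ofFinite H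
  let a : G → ℂ := fun x =>
    if h : ∃ z, IsSylowCent p z P ∧ IsConj x z then extendByZero H F h.choose else 0
  have hext : ∀ z, MemLocalRing M (extendByZero H F z) := fun z => by
    by_cases hz : z ∈ H
    · rw [CharInd.extendByZero_mem F hz]; exact hF.2 _
    · rw [CharInd.extendByZero_notMem F hz]; exact (localRing M).zero_mem
  have ha : IsIntClassFun M a := by
    refine ⟨fun x t => ?_, fun x => ?_⟩
    · have hxt : IsConj x (t * x * t⁻¹) := isConj_iff.mpr ⟨t, rfl⟩
      have hiff : (fun z => IsSylowCent p z P ∧ IsConj (t * x * t⁻¹) z) =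
          fun z => IsSylowCent p z P ∧ IsConj x z :=
        funext fun z => propext (and_congr_right fun _ => ⟨hxt.trans, hxt.symm.trans⟩)
      simp only [a, hiff]
    · simp only [a]
      split_ifs
      · exact hext _
      · exact (localRing M).zero_mem
  refine ⟨a, ha, fun η => ?_, fun x hx => ?_⟩
  · have : Finite (ConjClasses H) := Finite.of_surjective _ ConjClasses.mk_surjective
    have := Fintype.ofFinite (ConjClasses H)
    rw [BlocksDefect.omega_eq_sum_classes η (isIntClassFun_brRes hHN ha).1,
      BlocksDefect.omega_eq_sum_classes η hF.1, ← Finset.sum_sub_distrib]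
    refine memLocalIdeal_sum fun C _ => ?_
    rw [← sub_mul]
    generalize Quotient.out C = k
    by_cases hk : (k : G) ∈ Subgroup.centralizer (P : Set G)
    · refine memLocalIdeal_mul_right ?_ (centralChar_memLocalRing η _)
      rw [brRes_of_mem _ hk]
      simp only [a]
      split_ifs with h
      · obtain ⟨n, hn, e'⟩ := ((Cfsg.Agent.S0916.result p P hP).1 h.choose h.choose_spec.1).2
          (k : G) h.choose h.choose_spec.2.symm (IsConj.refl _) hk h.choose_spec.1.mem_centralizer
        have hz : h.choose ∈ H := e' ▸ hHinv n hn k k.2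
        rw [CharInd.extendByZero_mem F hz, hinv n hn k ⟨_, hz⟩ e'.symm, sub_self]
        exact memLocalIdeal_zero
      · rw [zero_sub]
        refine memLocalIdeal_neg (by_contra fun hu => h ⟨k, hsmall k hk hu, IsConj.refl _⟩)
    · haveI : (P.subgroupOf H).Normal := Subgroup.normal_subgroupOf_of_le_normalizer hHN
      refine memLocalIdeal_mul_left ((localRing M).sub_mem
        ((isIntClassFun_brRes hHN ha).2 _) (hF.2 _))
        (centralChar_memLocalIdeal_of_notMem (P.subgroupOf H) hM
          (hP.of_equiv (Subgroup.subgroupOfEquivOfLe hPH).symm) (fun x hx hc => hk ?_) η)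
      obtain ⟨t, ht⟩ := isConj_iff.mp hx
      rw [← conj_mem_centralizer_iff (hHN t.2)]
      have hc' : (x : G) ∈ Subgroup.centralizer (P : Set G) := mem_centralizer_of_subgroupOf hPH hc
      rw [← ht] at hc'
      simpa using hc'
  · simp only [a] at hx
    split_ifs at hx with h
    · exact h
    · exact absurd memLocalIdeal_zero hx

section Inertia

variable (hH : H = P ⊔ Subgroup.centralizer (P : Set G))

include hH

/-- The inertial group of a block of `P · C(P)` has index prime to `p` over `P · C(P)` exactly
when the induced block has defect group `P`. -/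
theorem isDefectGroup_induced_iff (hM : IsPModular p M) (hP : IsPGroup p P)
    {b : Set (IrrCharacter H)} (hb : IsPBlock M b) (hbP : IsDefectGroup p M b (P.subgroupOf H))
    {B : Set (IrrCharacter G)} (hind : IsInducedBlock M H b B)
    (hT : ∀ g : G, g ∈ T ↔ ∃ hg : g ∈ Subgroup.normalizer (P : Set G),
      ∀ θ ∈ b, twist (normConj g (mem_iff_of_eq_sup hH hg)).symm θ ∈ b) :
    IsDefectGroup p M B P ↔ ¬ p ∣ H.relIndex T := by
  classical
  have := isPrime hM
  have := Fintype.ofFinite G
  have := Fintype.ofFinite H
  have hPH : P ≤ H := hH ▸ le_sup_left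
  have hCH : Subgroup.centralizer (P : Set G) ≤ H := hH ▸ le_sup_right
  have hHN : H ≤ Subgroup.normalizer (P : Set G) := hH ▸
    sup_le Subgroup.le_normalizer (Subgroup.centralizer_le_normalizer _)
  have hHinv : ∀ m ∈ Subgroup.normalizer (P : Set G), ∀ k ∈ H, m * k * m⁻¹ ∈ H :=
    fun m hm k hk => (mem_iff_of_eq_sup hH hm k).mp hk
  have hTN : T ≤ Subgroup.normalizer (P : Set G) := fun g hg => ((hT g).mp hg).1
  have hHT : H ≤ T := by
    intro g hg
    refine (hT g).mpr ⟨hHN hg, fun θ hθ => ?_⟩
    convert hθ using 1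
    refine Subtype.ext (funext fun k => ?_)
    show (θ : H → ℂ) ⟨g⁻¹ * k * g, _⟩ = (θ : H → ℂ) k
    have h := irr_class θ k (⟨g, hg⟩ : H)⁻¹
    convert h using 2
    exact Subtype.ext (by simp)
  haveI hHnT : (H.subgroupOf T).Normal := ⟨fun x hx g => Subgroup.mem_subgroupOf.mpr
    (hHinv (g : G) (hTN g.2) _ hx)⟩
  obtain ⟨ξ, hξ⟩ := isPBlock_nonempty hb
  obtain ⟨χ, hχ⟩ := isPBlock_nonempty hind.2.1
  obtain ⟨c, hc, hcS⟩ := isDefectGroup_iff.mp hbP
  constructor
  · intro hBP hdvd
    obtain ⟨g, hg, hS⟩ := isDefectGroup_iff.mp hBP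
    have := Fintype.ofFinite (P.subgroupOf H)
    obtain ⟨θ₀, hθ₀, hk₀, -, -, -, huniq⟩ :=
      localBlock hM (hP.of_equiv (Subgroup.subgroupOfEquivOfLe hPH).symm) (local_sup_eq_top hH)
        hb hbP
    -- `p`-elements of `T` lie in `H`
    have hpel : ∀ q ∈ T, (∃ k, orderOf q = p ^ k) → q ∈ H := by
      intro q hqT hq
      by_contra hqH
      have hu : ¬ MemLocalIdeal M (omega (θ₀ : H → ℂ) (brRes P H (classInd g))) := by
        intro h
        have h1 := memLocalIdeal_sub (omega_induced hM hind hθ₀ hχ (isIntClassFun_classInd g))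
          (omega_res_sub_brRes hM hP hPH hHN θ₀ (isIntClassFun_classInd g))
        rw [omega_classInd (irr_class χ)] at h1
        have h2 := memLocalIdeal_sub h h1
        exact hg.2.2 χ hχ (by convert h2 using 1; ring)
      refine hu ?_
      set a : H → ℂ := brRes P H (classInd g) with ha
      have haI : IsIntClassFun M a := isIntClassFun_brRes hHN (isIntClassFun_classInd g)
      have : Finite (ConjClasses H) := Finite.of_surjective _ ConjClasses.mk_surjective
      have := Fintype.ofFinite (ConjClasses H)
      rw [BlocksDefect.omega_eq_sum_classes θ₀ haI.1]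
      set f : ConjClasses H → ℂ := fun C => a (Quotient.out C) *
        centralChar (θ₀ : H → ℂ) (Quotient.out C) with hf
      have hfmk : ∀ m : H, f (ConjClasses.mk m) = a m * centralChar (θ₀ : H → ℂ) m := by
        intro m
        have hm : IsConj (Quotient.out (ConjClasses.mk m)) m :=
          ConjClasses.mk_eq_mk_iff_isConj.mp (Quotient.out_eq _)
        simp only [hf]
        rw [classFun_eq_of_isConj haI.1 hm, ← omega_classInd (irr_class θ₀),
          ← omega_classInd (irr_class θ₀) m]
        congr 2
        funext x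
        by_cases hx : IsConj m x
        · rw [classInd_apply_of_isConj hx, classInd_apply_of_isConj (hm.trans hx)]
        · rw [classInd_apply_of_not_isConj hx,
            classInd_apply_of_not_isConj fun h => hx (hm.symm.trans h)]
      set Q := Subgroup.zpowers q with hQ
      have hQp : IsPGroup p Q := by
        obtain ⟨k, hk⟩ := hq
        exact IsPGroup.of_card (n := k) (by rw [hQ, Nat.card_zpowers, hk])
      have hQT : Q ≤ T := Subgroup.zpowers_le.mpr hqT
      let σ : Q → H ≃* H := fun u => normConj (u : G) (mem_iff_of_eq_sup hH (hTN (hQT u.2)))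
      letI : MulAction Q (ConjClasses H) :=
        { smul := fun u C => ConjClasses.map (σ u).toMonoidHom C
          one_smul := fun C => by
            obtain ⟨n, rfl⟩ := ConjClasses.mk_surjective C
            exact congrArg ConjClasses.mk (Subtype.ext
              (show ((1 : Q) : G) * (n : G) * ((1 : Q) : G)⁻¹ = n by simp))
          mul_smul := fun u v C => by
            obtain ⟨n, rfl⟩ := ConjClasses.mk_surjective C
            exact congrArg ConjClasses.mk (Subtype.ext
              (show ((u * v : Q) : G) * (n : G) * ((u * v : Q) : G)⁻¹ =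
                (u : G) * ((v : G) * (n : G) * (v : G)⁻¹) * (u : G)⁻¹ by simp [mul_assoc])) }
      have hfix : ∀ u : Q, twist (σ u).symm θ₀ = θ₀ := by
        intro u
        obtain ⟨hu', hst⟩ := (hT _).mp (hQT u.2)
        refine huniq _ (hst θ₀ hθ₀) fun x hx => ?_
        have hx' : (σ u).symm x ∈ P.subgroupOf H := by
          rw [Subgroup.mem_subgroupOf]
          have h := (Subgroup.mem_normalizer_iff.mp (inv_mem (hTN (hQT u.2))) (x : G)).mp hx
          show (u : G)⁻¹ * (x : G) * (u : G) ∈ P
          simpa using h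
        show (θ₀ : H → ℂ) ((σ u).symm x) = (θ₀ : H → ℂ) ((σ u).symm 1)
        rw [map_one, hk₀ _ hx']
      have key := memLocalIdeal_sum_sub_fixed (α := ConjClasses H) (P := Q) hM hQp f
        (fun u C => by
          obtain ⟨n, rfl⟩ := ConjClasses.mk_surjective C
          show f (ConjClasses.mk (σ u n)) = f (ConjClasses.mk n)
          rw [hfmk, hfmk, centralChar_comp_equiv (σ u) θ₀ (hfix u)]
          congr 1
          simp only [ha, brRes, Set.indicator_apply, Set.mem_setOf_eq]
          rw [show ((σ u n : H) : G) = (u : G) * (n : G) * (u : G)⁻¹ from rfl]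
          simp only [conj_mem_centralizer_iff (hTN (hQT u.2)),
            isClassFunction_classInd g (n : G) (u : G)])
        (fun C => (localRing M).mul_mem (haI.2 _) (centralChar_memLocalRing θ₀ _))
      have hzero : ∀ C ∈ MulAction.fixedPoints Q (ConjClasses H), f C = 0 := by
        intro C hC
        simp only [hf]
        rw [mul_eq_zero]
        refine Or.inl ?_
        set n := Quotient.out C with hn
        by_cases hnC : (n : G) ∈ Subgroup.centralizer (P : Set G)
        swap
        · rw [ha, brRes_of_notMem _ hnC]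
        rw [ha, brRes_of_mem _ hnC]
        refine classInd_apply_of_not_isConj fun hgn => hqH ?_
        have h1 : ConjClasses.mk (σ ⟨q, Subgroup.mem_zpowers q⟩ n) = ConjClasses.mk n := by
          have h := hC ⟨q, Subgroup.mem_zpowers q⟩
          rw [← Quotient.out_eq C] at h
          exact h
        obtain ⟨m, hm⟩ := isConj_iff.mp (ConjClasses.mk_eq_mk_iff_isConj.mp h1)
        have hm' : (m : G) * (q * (n : G) * q⁻¹) * (m : G)⁻¹ = n := congrArg Subtype.val hm
        obtain ⟨w, hw, hwn⟩ := ((Cfsg.Agent.S0916.result p P hP).1 g hS).2 g (n : G)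
          (IsConj.refl _) hgn hS.mem_centralizer hnC
        have hSn : IsSylowCent p (n : G) P := by
          have h := hS.map_conj w
          rw [hwn] at h
          rwa [show P.map (MulAut.conj w).toMonoidHom = P from ?_] at h
          ext y
          rw [map_conj_mem_iff]
          exact ((Subgroup.mem_normalizer_iff.mp (inv_mem hw) y).trans (by simp)).symm
        set L : Subgroup G := Subgroup.centralizer ({(n : G)} : Set G) ⊓ T with hL
        have ht : (m : G) * q ∈ L := by
          refine ⟨mem_centralizer_singleton.mpr ?_, T.mul_mem (hHT m.2) hqT⟩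
          calc (m : G) * q * n = ((m : G) * (q * (n : G) * q⁻¹) * (m : G)⁻¹) * ((m : G) * q) := by
                group
            _ = n * ((m : G) * q) := by rw [hm']
        have hPL : P ≤ L := le_inf hSn.le_centralizer (hPH.trans hHT)
        let π : L →* T ⧸ H.subgroupOf T :=
          (QuotientGroup.mk' (H.subgroupOf T)).comp (Subgroup.inclusion inf_le_right)
        have hle : P.subgroupOf L ≤ π.ker := fun u hu =>
          (QuotientGroup.eq_one_iff _).mpr (Subgroup.mem_subgroupOf.mpr (hPH hu))
        have hrange : Nat.card π.range ∣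
            Nat.card (Subgroup.centralizer ({(n : G)} : Set G)) / Nat.card P := by
          rw [← Subgroup.index_ker]
          refine (Subgroup.index_dvd_of_le hle).trans ?_
          have h2 := Subgroup.card_mul_index (P.subgroupOf L)
          rw [Nat.card_congr (Subgroup.subgroupOfEquivOfLe hPL).toEquiv] at h2
          rw [show (P.subgroupOf L).index = Nat.card L / Nat.card P from
            (Nat.div_eq_of_eq_mul_right Nat.card_pos h2.symm).symm]
          exact Nat.div_dvd_div (Dvd.intro _ h2) (Subgroup.card_dvd_of_le inf_le_left)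
        obtain ⟨k, hk⟩ := hq
        set q' : T ⧸ H.subgroupOf T := QuotientGroup.mk ⟨q, hqT⟩ with hq'
        have hqn : q' = π ⟨_, ht⟩ := by
          show _ = QuotientGroup.mk ((⟨(m : G), hHT m.2⟩ : T) * ⟨q, hqT⟩)
          rw [QuotientGroup.mk_mul, (QuotientGroup.eq_one_iff (⟨(m : G), hHT m.2⟩ : T)).mpr
            (Subgroup.mem_subgroupOf.mpr m.2), one_mul]
        have hd1 : orderOf q' ∣ p ^ k := by
          rw [← hk, ← Subgroup.orderOf_mk q hqT]
          exact orderOf_map_dvd (QuotientGroup.mk' (H.subgroupOf T)) _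
        have hd2 : orderOf q' ∣ Nat.card π.range := by
          rw [hqn, ← Subgroup.orderOf_mk (H := π.range) (π ⟨_, ht⟩) ⟨_, rfl⟩]
          exact orderOf_dvd_natCard _
        have h1' := Nat.eq_one_of_dvd_coprimes
          ((((Fact.out : p.Prime).coprime_iff_not_dvd).mpr
            (index_sylowCent_not_dvd hSn)).pow_left k) hd1 (hd2.trans hrange)
        exact Subgroup.mem_subgroupOf.mp
          ((QuotientGroup.eq_one_iff (⟨q, hqT⟩ : T)).mp (orderOf_eq_one_iff.mp h1'))
      rw [Finset.sum_eq_zero (s := Finset.univ.filter _)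
        (fun C hC => hzero C (Finset.mem_filter.mp hC).2), sub_zero] at key
      exact key
    obtain ⟨x, hx⟩ := exists_prime_orderOf_dvd_card' p
      (show p ∣ Nat.card (T ⧸ H.subgroupOf T) from hdvd)
    obtain ⟨y, rfl⟩ := QuotientGroup.mk_surjective x
    obtain ⟨z, hz⟩ := exists_pPart (p := p) Fact.out (y : T)
    obtain ⟨v, hzv, hcv, ⟨k, hk⟩, hv⟩ := hz
    have hzH : (z : G) ∈ H := hpel _ z.2 ⟨k, by rw [Subgroup.orderOf_coe, hk]⟩
    have hy : (QuotientGroup.mk y : T ⧸ H.subgroupOf T) = QuotientGroup.mk v := by
      rw [← hzv, QuotientGroup.mk_mul, (QuotientGroup.eq_one_iff z).mpr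
        (Subgroup.mem_subgroupOf.mpr hzH), one_mul]
    rw [hy] at hx
    exact hv (hx ▸ orderOf_map_dvd (QuotientGroup.mk' (H.subgroupOf T)) v)
  · intro hidx
    have hpT : ∀ q ∈ T, (∃ k, orderOf q = p ^ k) → q ∈ H := by
      intro q hqT ⟨k, hk⟩
      have h1 : orderOf (QuotientGroup.mk ⟨q, hqT⟩ : T ⧸ H.subgroupOf T) ∣ p ^ k := by
        rw [← hk, ← Subgroup.orderOf_mk q hqT]
        exact orderOf_map_dvd (QuotientGroup.mk' (H.subgroupOf T)) _
      have h2 := Nat.eq_one_of_dvd_coprimes
        ((((Fact.out : p.Prime).coprime_iff_not_dvd).mpr hidx).pow_left k) h1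
        (orderOf_dvd_natCard _)
      exact Subgroup.mem_subgroupOf.mp
        ((QuotientGroup.eq_one_iff (⟨q, hqT⟩ : T)).mp (orderOf_eq_one_iff.mp h2))
    set e := blockCoeff b with he
    have heI : IsIntClassFun M e := isIntClassFun_blockCoeff hM hb
    have heT : ∀ g (hg : g ∈ Subgroup.normalizer (P : Set G)), g ∈ T → ∀ k : H,
        e (normConj g (mem_iff_of_eq_sup hH hg) k) = e k := by
      intro g hg hgT k
      refine blockCoeff_comp_equiv _ (fun θ => ?_) k
      refine ⟨fun h => ?_, fun h => ((hT g).mp hgT).2 θ h⟩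
      have h2 := ((hT _).mp (T.inv_mem hgT)).2 _ h
      convert h2 using 1
      refine Subtype.ext (funext fun x => congrArg (θ : H → ℂ) (Subtype.ext ?_))
      show (x : G) = g⁻¹ * ((g⁻¹)⁻¹ * (x : G) * g⁻¹) * g
      group
    set N := Subgroup.normalizer (P : Set G) with hN
    have := Fintype.ofFinite (N ⧸ T.subgroupOf N)
    let σ : N → H ≃* H := fun u => normConj ((u : G)⁻¹) (mem_iff_of_eq_sup hH (inv_mem u.2))
    have hσT : ∀ u v : N, (QuotientGroup.mk u : N ⧸ T.subgroupOf N) = QuotientGroup.mk v →
        ∀ k : H, e (σ u k) = e (σ v k) := by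
      intro u v huv k
      have hd : ((u : G))⁻¹ * v ∈ T := Subgroup.mem_subgroupOf.mp (QuotientGroup.eq.mp huv)
      have h := heT _ (mul_mem (inv_mem u.2) v.2) hd (σ v k)
      rw [← h]
      congr 1
      exact Subtype.ext (show (u : G)⁻¹ * (k : G) * (u : G)⁻¹⁻¹ =
        (u : G)⁻¹ * v * ((v : G)⁻¹ * (k : G) * (v : G)⁻¹⁻¹) * ((u : G)⁻¹ * v)⁻¹ by group)
    set F : H → ℂ := fun k => ∑ c : N ⧸ T.subgroupOf N, e (σ (Quotient.out c) k) with hF
    have hFI : IsIntClassFun M F := by
      refine ⟨fun k l => ?_, fun k => memLocalRing_sum fun c _ => heI.2 _⟩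
      simp only [hF, map_mul, map_inv]
      exact Finset.sum_congr rfl fun c _ => heI.1 _ _
    have hFinv : ∀ m ∈ N, ∀ k k' : H, (k' : G) = m * k * m⁻¹ → F k' = F k := by
      intro m hm k k' hk'
      simp only [hF]
      refine (Fintype.sum_equiv (MulAction.toPerm (⟨m, hm⟩ : N)) _ _ fun c => ?_).symm
      have hmk : (QuotientGroup.mk ((⟨m, hm⟩ : N) * Quotient.out c) : N ⧸ T.subgroupOf N) =
          QuotientGroup.mk (Quotient.out ((⟨m, hm⟩ : N) • c)) := by
        rw [QuotientGroup.out_eq', ← smul_eq_mul, MulAction.Quotient.coe_smul_out]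
      show e (σ (Quotient.out c) k) = e (σ (Quotient.out ((⟨m, hm⟩ : N) • c)) k')
      rw [← hσT _ _ hmk k']
      congr 1
      refine Subtype.ext ?_
      show ((Quotient.out c : N) : G)⁻¹ * (k : G) * ((Quotient.out c : N) : G)⁻¹⁻¹ =
        (m * ((Quotient.out c : N) : G))⁻¹ * (k' : G) * (m * ((Quotient.out c : N) : G))⁻¹⁻¹
      rw [hk']; group
    have hωF : omega (ξ : H → ℂ) F = 1 := by
      have hsum : omega (ξ : H → ℂ) F =
          ∑ c : N ⧸ T.subgroupOf N, omega (ξ : H → ℂ) (fun k => e (σ (Quotient.out c) k)) := by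
        rw [omega_eq_sum, hF]
        simp only [omega_eq_sum, Finset.sum_mul]
        rw [Finset.sum_comm, Finset.sum_div]
      have hval : ∀ u : N, omega (ξ : H → ℂ) (fun k => e (σ u k)) =
          b.indicator 1 (twist (σ u).symm ξ) := by
        intro u
        rw [← omega_blockCoeff b, omega_twist]
        rfl
      rw [hsum, Finset.sum_eq_single (QuotientGroup.mk 1)]
      · rw [hval, Set.indicator_of_mem, Pi.one_apply]
        have hmem : ((Quotient.out (QuotientGroup.mk (1 : N) : N ⧸ T.subgroupOf N) : N) : G)⁻¹ ∈ T := by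
          refine T.inv_mem ?_
          have h1 : (QuotientGroup.mk (Quotient.out (QuotientGroup.mk 1 : N ⧸ T.subgroupOf N)) :
              N ⧸ T.subgroupOf N) = QuotientGroup.mk 1 := QuotientGroup.out_eq' _
          have h := QuotientGroup.eq.mp h1.symm
          rw [inv_one, one_mul] at h
          exact h
        exact ((hT _).mp hmem).2 ξ hξ
      · intro c _ hc
        rw [hval, Set.indicator_of_notMem]
        intro hmem
        refine hc ?_
        have hcT : ((Quotient.out c : N) : G)⁻¹ ∈ T := by
          refine (hT _).mpr ⟨inv_mem (Quotient.out c).2, fun θ hθ => ?_⟩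
          rw [isPBlock_eq_blockOf hb hmem]
          exact sameBlock_twist hM _ (sameBlock_of_mem hb hξ hθ)
        rw [← QuotientGroup.out_eq' c, QuotientGroup.eq]
        rw [mul_one]
        exact hcT
      · exact fun h => absurd (Finset.mem_univ _) h
    have hsmall : ∀ k : H, (k : G) ∈ Subgroup.centralizer (P : Set G) →
        ¬ MemLocalIdeal M (F k) → IsSylowCent p (k : G) P := by
      intro k hk hu
      set L : Subgroup G := Subgroup.centralizer ({(k : G)} : Set G) ⊓ N with hL
      have hPL : P ≤ L := le_inf (le_centralizer_singleton_iff.mpr hk) Subgroup.le_normalizer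
      obtain ⟨Q, hQ⟩ := (hP.of_equiv (Subgroup.subgroupOfEquivOfLe hPL).symm).exists_le_sylow
      set Q' : Subgroup G := (Q : Subgroup L).map L.subtype with hQ'
      have hQp : IsPGroup p Q' := Q.isPGroup'.map _
      have hQL : Q' ≤ L := Subgroup.map_subtype_le _
      have hPQ : P ≤ Q' := by
        rw [← Subgroup.map_subgroupOf_eq_of_le hPL]; exact Subgroup.map_mono hQ
      set R : Subgroup N := Q'.subgroupOf N with hR
      have hRp : IsPGroup p R :=
        hQp.of_equiv (Subgroup.subgroupOfEquivOfLe (hQL.trans inf_le_right)).symm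
      have key := memLocalIdeal_sum_sub_fixed (α := N ⧸ T.subgroupOf N) (P := R) hM hRp
        (fun c => e (σ (Quotient.out c) k))
        (fun u c => by
          have hmk : (QuotientGroup.mk ((u : N) * Quotient.out c) : N ⧸ T.subgroupOf N) =
              QuotientGroup.mk (Quotient.out (u • c)) :=
            (MulAction.Quotient.coe_smul_out _ (u : N) c).trans (QuotientGroup.out_eq' (u • c)).symm
          show e (σ (Quotient.out (u • c)) k) = e (σ (Quotient.out c) k)
          rw [← hσT _ _ hmk k]
          congr 1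
          refine Subtype.ext ?_
          show (((u : N) : G) * ((Quotient.out c : N) : G))⁻¹ * (k : G) *
              (((u : N) : G) * ((Quotient.out c : N) : G))⁻¹⁻¹ =
            ((Quotient.out c : N) : G)⁻¹ * (k : G) * ((Quotient.out c : N) : G)⁻¹⁻¹
          have hc : ((u : N) : G) * (k : G) = (k : G) * ((u : N) : G) :=
            mem_centralizer_singleton.mp (hQL u.2).1
          have hc' : ((u : N) : G)⁻¹ * (k : G) * ((u : N) : G) = (k : G) := by
            rw [mul_assoc, ← hc, inv_mul_cancel_left]
          conv_rhs => rw [← hc']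
          group)
        (fun c => heI.2 _)
      obtain ⟨c, hc, hcu⟩ : ∃ c ∈ MulAction.fixedPoints R (N ⧸ T.subgroupOf N),
          ¬ MemLocalIdeal M (e (σ (Quotient.out c) k)) := by
        by_contra hno
        push Not at hno
        refine hu ?_
        have h2 : MemLocalIdeal M (∑ c ∈ Finset.univ.filter
            (· ∈ MulAction.fixedPoints R (N ⧸ T.subgroupOf N)), e (σ (Quotient.out c) k)) :=
          memLocalIdeal_sum fun c hc => hno c (Finset.mem_filter.mp hc).2
        simpa [hF] using memLocalIdeal_add key h2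
      -- the conjugate of `Q'` by the representative lies in `H`
      set w : G := ((Quotient.out c : N) : G) with hw
      have hwN : w ∈ N := (Quotient.out c).2
      have hQH : Q'.map (MulAut.conj w⁻¹).toMonoidHom ≤ H := by
        rintro _ ⟨u, hu', rfl⟩
        have hfix := hc ⟨⟨u, (hQL hu').2⟩, hu'⟩
        have hmem : w⁻¹ * u * w ∈ T := by
          have h1 : (QuotientGroup.mk ((⟨u, (hQL hu').2⟩ : N) * Quotient.out c) :
              N ⧸ T.subgroupOf N) = QuotientGroup.mk (Quotient.out c) := by
            rw [QuotientGroup.out_eq']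
            exact (MulAction.Quotient.coe_smul_out _ (⟨u, (hQL hu').2⟩ : N) _).trans hfix
          have h2 := QuotientGroup.eq.mp h1.symm
          rw [Subgroup.mem_subgroupOf] at h2
          simpa [mul_assoc] using h2
        show w⁻¹ * u * w⁻¹⁻¹ ∈ H
        rw [inv_inv]
        refine hpT _ hmem ?_
        obtain ⟨j, hj⟩ := orderOf_pow_of_mem hQp hu'
        refine ⟨j, ?_⟩
        have := orderOf_conjugate u w⁻¹
        rw [inv_inv] at this
        rw [this, hj]
      set R' : Subgroup H := (Q'.map (MulAut.conj w⁻¹).toMonoidHom).subgroupOf H with hR'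
      have hR'p : IsPGroup p R' :=
        (isPGroup_map_conj hQp w⁻¹).of_equiv (Subgroup.subgroupOfEquivOfLe hQH).symm
      have hcent : σ (Quotient.out c) k ∈ Subgroup.centralizer (R' : Set H) := by
        rw [Subgroup.mem_centralizer_iff]
        intro y hy
        refine Subtype.ext ?_
        have h := Subgroup.mem_centralizer_iff.mp (mem_centralizer_map_conj (x := w⁻¹)
          (le_centralizer_singleton_iff.mp (hQL.trans inf_le_left))) (y : G) hy
        exact h
      have hdvd := (subConj_defectGroup_of_coeff hM hb hbP hR'p hcent hcu).card_dvd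
      rw [Nat.card_congr (Subgroup.subgroupOfEquivOfLe hPH).toEquiv,
        Nat.card_congr (Subgroup.subgroupOfEquivOfLe hQH).toEquiv, natCard_map_conj] at hdvd
      have hQP : P = Q' := Subgroup.eq_of_le_of_card_ge hPQ (Nat.le_of_dvd Nat.card_pos hdvd)
      exact (Cfsg.Agent.S0916.result p P hP).2 (k : G) hk ⟨Q, by rw [← hQ', ← hQP]⟩
    obtain ⟨a, haI, haω, hasupp⟩ := exists_lift_of_small hM hP hPH hHN hHinv hFI hFinv hsmall
    have hua : ¬ MemLocalIdeal M (omega (χ : G → ℂ) a) := by
      intro h
      have h1 := memLocalIdeal_sub (omega_induced hM hind hξ hχ haI)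
        (omega_res_sub_brRes hM hP hPH hHN ξ haI)
      have h2 := memLocalIdeal_add h1 h
      simp only [sub_sub_sub_cancel_left] at h1
      have h3 := memLocalIdeal_sub h2 (haω ξ)
      rw [hωF] at h3
      refine not_memLocalIdeal_one (M := M) ?_
      convert h3 using 1
      ring
    obtain ⟨x, hx1, hx2⟩ := exists_unit_class hM χ haI hua
    obtain ⟨z, hz, hxz⟩ := hasupp x hx1
    obtain ⟨y, hy⟩ := isConj_iff.mp hxz
    have hSx : IsSylowCent p x (P.map (MulAut.conj y⁻¹).toMonoidHom) := by
      have h := hz.map_conj y⁻¹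
      rwa [← hy, show y⁻¹ * (y * x * y⁻¹) * y⁻¹⁻¹ = x by group] at h
    obtain ⟨D, hD, hle⟩ := exists_defectGroup_ge hM hind hbP
    rw [Subgroup.map_subgroupOf_eq_of_le hPH] at hle
    have hsub := (defectGroup_subConj_of_centralChar hM hind.2.1 hD hχ hSx hx2).card_dvd
    rw [natCard_map_conj] at hsub
    rwa [Subgroup.eq_of_le_of_card_ge hle (Nat.le_of_dvd Nat.card_pos hsub)]

end Inertia

end Cfsg.Agent.BlocksDefect
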